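import Cfsg.Agent.CoTwoThree.Local
import Cfsg.Agent.McLLoc.CentZSimil
import Cfsg.Agent.Core.PCore

/-!
The local stage: the centre of the Sylow subgroup is the centre of `O₃(C)`.
-/

set_option autoImplicit false

open Subgroup
open scoped commutatorElement

namespace Cfsg.Agent.CoTwoThree

universe u

variable {G : Type u} [Group G] [Finite G]

/-- The hypotheses in the form used by the local stage. -/
structure Base (G : Type u) [Group G] [Finite G] where
  /-- The extraspecial group with its centre. -/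
  D : McLLoc.SympData G
  /-- The Sylow subgroup. -/
  S : Sylow 3 G
  coreQ : (Cfsg.pCore 3 ↥(centralizer ({D.z} : Set G))).map (centralizer ({D.z} : Set G)).subtype = D.Q
  centerQ : Subgroup.center ↥D.Q ≤ D.Zq
  ext : IsExtraspecial 3 (Cfsg.pCore 3 ↥(centralizer ({D.z} : Set G)))
  centerS : (S : Subgroup G) ⊓ centralizer ((S : Subgroup G) : Set G) = zpowers D.z
  two : IsExtraspecial 2
    (Cfsg.pCore 2 (↥(centralizer ({D.z} : Set G)) ⧸ Cfsg.pCore 3 ↥(centralizer ({D.z} : Set G))))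
  twoCard : Nat.card (Cfsg.pCore 2
    (↥(centralizer ({D.z} : Set G)) ⧸ Cfsg.pCore 3 ↥(centralizer ({D.z} : Set G)))) = 2 ^ 5
  alt : Nonempty ((↥(centralizer ({D.z} : Set G)) ⧸ Cfsg.pCore 3 ↥(centralizer ({D.z} : Set G))) ⧸
    Cfsg.pCore 2 (↥(centralizer ({D.z} : Set G)) ⧸ Cfsg.pCore 3 ↥(centralizer ({D.z} : Set G)))
      ≃* alternatingGroup (Fin 5))
  moved : ∃ g : G, g * D.z * g⁻¹ ∈ (S : Subgroup G) ∧ g * D.z * g⁻¹ ∉ zpowers D.z

/-- A cyclic group of order `p` is generated by each element other than one. -/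
theorem zpowers_eq_of_prime {p : ℕ} [hp : Fact p.Prime] {Z : Subgroup G} (hZ : Nat.card ↥Z = p) {z : G}
    (hz : z ∈ Z) (hz1 : z ≠ 1) : Z = zpowers z := by
  refine (eq_of_le_of_card_ge (zpowers_le.mpr hz) ?_).symm
  rw [Nat.card_zpowers, hZ]
  refine le_of_eq (orderOf_eq_prime ?_ hz1).symm
  have := pow_card_eq_one' (G := ↥Z) (x := ⟨z, hz⟩)
  rw [hZ] at this
  exact congrArg Subtype.val this

/-- The inclusion of the core. -/
def coreHom (C : Subgroup G) : ↥(Cfsg.pCore 3 ↥C) →* G := C.subtype.comp (Cfsg.pCore 3 ↥C).subtype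

omit [Finite G] in
theorem coreHom_injective (C : Subgroup G) : Function.Injective (coreHom C) :=
  C.subtype_injective.comp (Cfsg.pCore 3 ↥C).subtype_injective

theorem exists_base {S : Sylow 3 G} {Z C : Subgroup G} (h : Hyp G S Z C) : Nonempty (Base G) := by
  classical
  haveI : Fact (Nat.Prime 3) := ⟨Nat.prime_three⟩
  obtain ⟨hZ, hC, hext, hcard, htwo, htwoC, halt, hnwc⟩ := h
  set P := (S : Subgroup G)
  have hZS : Z ≤ P := hZ ▸ inf_le_left
  have hZc : ∀ a ∈ Z, ∀ b ∈ P, b * a = a * b := fun a ha b hb => by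
    rw [hZ] at ha
    exact mem_centralizer_iff.mp ha.2 b hb
  have hSC : P ≤ C := hC ▸ fun b hb => mem_centralizer_iff.mpr fun a ha => (hZc a ha b hb).symm
  have hZC : Z ≤ C := hZS.trans hSC
  haveI hZn : (Z.subgroupOf C).Normal := ⟨fun n hn g => by
    rw [mem_subgroupOf] at hn ⊢
    have hg : (g : G) ∈ centralizer (Z : Set G) := hC ▸ g.2
    rw [coe_mul, coe_mul, coe_inv, ← mem_centralizer_iff.mp hg _ hn, mul_inv_cancel_right]
    exact hn⟩
  have hZcore : Z.subgroupOf C ≤ Cfsg.pCore 3 ↥C :=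
    Core.le_pCore ((S.isPGroup'.to_le hZS).of_equiv (subgroupOfEquivOfLe hZC).symm)
  have hQS : Cfsg.pCore 3 ↥C ≤ (S.subtype hSC : Subgroup ↥C) := Core.pCore_le_sylow (S.subtype hSC)
  obtain ⟨zc, hzc1⟩ : ∃ zc : center ↥(Cfsg.pCore 3 ↥C), zc ≠ 1 := by
    haveI : Nontrivial (center ↥(Cfsg.pCore 3 ↥C)) := Finite.one_lt_card_iff_nontrivial.mp (by rw [hext.2]; norm_num)
    exact exists_ne 1
  obtain ⟨z, hzdef⟩ : ∃ z, coreHom C zc = z := ⟨_, rfl⟩
  have hz1 : z ≠ 1 := fun e => hzc1 (Subtype.ext (coreHom_injective C (by rw [hzdef, e]; exact (map_one _).symm)))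
  have hZle : Z ≤ (center ↥(Cfsg.pCore 3 ↥C)).map (coreHom C) := fun a ha => by
    refine ⟨⟨⟨a, hZC ha⟩, hZcore (mem_subgroupOf.mpr ha)⟩, mem_center_iff.mpr fun q => coreHom_injective C ?_, rfl⟩
    simp only [map_mul]
    exact hZc a ha _ (hQS q.2)
  have hZs : Nat.card ↥((center ↥(Cfsg.pCore 3 ↥C)).map (coreHom C)) = 3 := by
    rw [card_map_of_injective (coreHom_injective C), hext.2]
  have hzmem : z ∈ (center ↥(Cfsg.pCore 3 ↥C)).map (coreHom C) := ⟨zc, zc.2, hzdef⟩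
  have hZne : Z ≠ ⊥ := by
    intro e
    haveI : Nontrivial ↥P := Finite.one_lt_card_iff_nontrivial.mp (by
      refine lt_of_lt_of_le (b := 3 ^ 5) (by norm_num) ?_
      rw [← hcard]
      exact Nat.le_of_dvd Nat.card_pos ((Nat.card_congr (subgroupOfEquivOfLe hSC).toEquiv) ▸ card_dvd_of_le hQS))
    haveI := S.isPGroup'.center_nontrivial
    obtain ⟨c, hc⟩ := exists_ne (1 : center ↥P)
    refine hc (Subtype.ext (Subtype.ext ?_))
    have : ((c : ↥P) : G) ∈ Z := hZ ▸ ⟨(c : ↥P).2, mem_centralizer_iff.mpr fun b hb =>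
      congrArg Subtype.val (mem_center_iff.mp c.2 ⟨b, hb⟩)⟩
    rw [e, mem_bot] at this
    exact this
  have hZeq : Z = zpowers z := by
    rw [← zpowers_eq_of_prime hZs hzmem hz1]
    refine eq_of_le_of_card_ge hZle ?_
    rw [hZs]
    have h3 : Nat.card ↥Z ∣ 3 := hZs ▸ card_dvd_of_le hZle
    exact ((Nat.dvd_prime Nat.prime_three).mp h3).elim (fun h1 => absurd (card_eq_one.mp h1) hZne) ge_of_eq
  have hCz : C = centralizer ({z} : Set G) := by
    rw [hC, hZeq, zpowers_eq_closure, centralizer_closure]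
  subst hCz
  set ι := coreHom (centralizer ({z} : Set G))
  have hι : Function.Injective ι := coreHom_injective _
  have hzord : orderOf z = 3 := by rw [← Nat.card_zpowers, ← zpowers_eq_of_prime hZs hzmem hz1, hZs]
  have hcentre : ∀ q, q ∈ (center ↥(Cfsg.pCore 3 ↥(centralizer ({z} : Set G)))).map ι ↔ q ∈ zpowers z := fun q => by
    rw [zpowers_eq_of_prime hZs hzmem hz1]
  let Q := (Cfsg.pCore 3 ↥(centralizer ({z} : Set G))).map (centralizer ({z} : Set G)).subtype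
  have hmemQ : ∀ q ∈ Q, ∃ r, ι r = q := by rintro _ ⟨r, hr, rfl⟩; exact ⟨⟨r, hr⟩, rfl⟩
  refine ⟨{ D := ⟨Q, z, ⟨((zc : ↥(Cfsg.pCore 3 ↥(centralizer ({z} : Set G)))) : ↥(centralizer ({z} : Set G))),
    (zc : ↥(Cfsg.pCore 3 ↥(centralizer ({z} : Set G)))).2, hzdef⟩, hzord, ?_, ?_, ?_, ?_, ?_⟩
            S := S, coreQ := rfl, ext := hext, centerQ := ?_, centerS := hZ.symm.trans hZeq, two := htwo, twoCard := htwoC
            alt := halt, moved := ?_ }⟩
  · intro v hv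
    obtain ⟨r, rfl⟩ := hmemQ v hv
    have e := (congrArg ι (mem_center_iff.mp zc.2 r)).symm
    simp only [map_mul, hzdef] at e
    exact e
  · rw [card_map_of_injective (centralizer ({z} : Set G)).subtype_injective, hcard]
  · intro v hv w hw
    obtain ⟨r, rfl⟩ := hmemQ v hv
    obtain ⟨s, rfl⟩ := hmemQ w hw
    refine (hcentre _).mp ⟨⁅r, s⁆, ?_, map_commutatorElement ι r s⟩
    show ⁅r, s⁆ ∈ center _
    rw [← hext.1.2.2]
    exact commutator_mem_commutator (mem_top _) (mem_top _)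
  · intro v hv
    obtain ⟨r, rfl⟩ := hmemQ v hv
    refine (hcentre _).mp ⟨r ^ 3, ?_, map_pow ι r 3⟩
    refine mem_center_iff.mpr fun s => ?_
    have hc : ∀ s, ⁅r, s⁆ ∈ center ↥(Cfsg.pCore 3 ↥(centralizer ({z} : Set G))) := fun s => by
      rw [← hext.1.2.2]
      exact commutator_mem_commutator (mem_top _) (mem_top _)
    have hcomm : Commute ⁅r, s⁆ r := ((mem_center_iff.mp (hc s)) r).symm
    have hcs : ⁅r, s⁆ ^ 3 = 1 := by
      have := pow_card_eq_one' (G := center ↥(Cfsg.pCore 3 ↥(centralizer ({z} : Set G)))) (x := ⟨_, hc s⟩)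
      rw [hext.2] at this
      exact congrArg Subtype.val this
    have e : s * r * s⁻¹ = r * ⁅r, s⁆⁻¹ := by
      rw [commutatorElement_inv]
      have := (hcomm.inv_left).eq
      calc s * r * s⁻¹ = ⁅s, r⁆ * r := by rw [commutatorElement_def]; group
        _ = r * ⁅s, r⁆ := by rw [← commutatorElement_inv r s]; exact this
    have e3 : s * r ^ 3 * s⁻¹ = r ^ 3 := by
      rw [← conj_pow, e, (hcomm.inv_left).symm.mul_pow, inv_pow, hcs, inv_one, mul_one]
    exact (mul_inv_eq_iff_eq_mul.mp e3)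
  · by_contra hab
    push Not at hab
    have htop : center ↥(Cfsg.pCore 3 ↥(centralizer ({z} : Set G))) = ⊤ := eq_top_iff.mpr fun r _ =>
      mem_center_iff.mpr fun s => hι (hab _ ⟨_, s.2, rfl⟩ _ ⟨_, r.2, rfl⟩)
    have h3 := hext.2
    rw [htop, card_top, hcard] at h3
    norm_num at h3
  · intro x hx
    obtain ⟨r, hr⟩ := hmemQ _ x.2
    refine mem_subgroupOf.mpr ((hcentre _).mp ⟨r, mem_center_iff.mpr fun s => hι ?_, hr⟩)
    have e := congrArg Subtype.val (mem_center_iff.mp hx ⟨ι s, ⟨_, s.2, rfl⟩⟩)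
    simp only [map_mul, hr]
    exact e
  · by_contra hmv
    push Not at hmv
    refine hnwc ⟨hZS, fun g hg => ?_⟩
    have hg' := hmv g (hg ⟨z, hZeq ▸ mem_zpowers z, rfl⟩)
    rw [hZeq, MonoidHom.map_zpowers]
    refine eq_of_le_of_card_ge (zpowers_le.mpr hg') ?_
    rw [Nat.card_zpowers, Nat.card_zpowers]
    exact le_of_eq ((MulAut.conj g).orderOf_eq z).symm

namespace Base

variable (h : Base G)

/-- The centralizer of `z`. -/
abbrev C : Subgroup G := centralizer ({h.D.z} : Set G)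

theorem leQ : h.D.Q ≤ h.C := h.coreQ ▸ map_subtype_le _

theorem normalQ : h.C ≤ normalizer (h.D.Q : Set G) := by
  intro g hg
  refine mem_normalizer_fintype fun q hq => ?_
  rw [← h.coreQ] at hq ⊢
  obtain ⟨r, hr, rfl⟩ := hq
  exact ⟨⟨g, hg⟩ * r * ⟨g, hg⟩⁻¹, Core.pCore_normal.conj_mem r hr _, rfl⟩

theorem S_le : (h.S : Subgroup G) ≤ h.C := fun b hb => by
  have hz : h.D.z ∈ zpowers h.D.z := mem_zpowers _
  rw [← h.centerS] at hz
  exact mem_centralizer_singleton_iff.mpr (mem_centralizer_iff.mp hz.2 b hb)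

theorem mem_Q {g : G} (hg : g ∈ h.C) : g ∈ h.D.Q ↔ (⟨g, hg⟩ : ↥h.C) ∈ Cfsg.pCore 3 ↥h.C := by
  rw [← h.coreQ]
  exact ⟨fun ⟨r, hr, e⟩ => (Subtype.ext e : r = ⟨g, hg⟩) ▸ hr, fun hr => ⟨_, hr, rfl⟩⟩

theorem Q_le_S : h.D.Q ≤ h.S := by
  intro q hq
  exact Core.pCore_le_sylow (h.S.subtype h.S_le) ((h.mem_Q (h.leQ hq)).mp hq)

theorem le_nm : h.C ≤ h.D.nm := fun g hg => ⟨h.normalQ hg, by
  refine mem_normalizer_fintype fun a ha => ?_
  obtain ⟨n, rfl⟩ := mem_zpowers_iff.mp ha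
  have hc : Commute g h.D.z := mem_centralizer_singleton_iff.mp hg
  rw [(hc.zpow_right n).eq, mul_inv_cancel_right]
  exact zpow_mem (mem_zpowers _) n⟩

theorem fix_z {g : G} (hg : g ∈ h.C) : g * h.D.z * g⁻¹ = h.D.z :=
  mul_inv_eq_iff_eq_mul.mpr (mem_centralizer_singleton_iff.mp hg)

end Base

end Cfsg.Agent.CoTwoThree
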