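import Cfsg.Agent.CoTwoThree.A.Plane
import Mathlib.Tactic.LinearCombination
import Mathlib.Data.Fintype.Prod

/-!
The local stage: the model of `C / O₃(C)` as a group of matrices of size four.

A matrix is given by its four columns in the coordinates `(e₁, f₁, e₂, f₂)`.  `r0` is the group
`2 ^ (1 + 4)` generated by `u0`, `w0` and the diagonal quaternion group, `hl` its normalizer in the
symplectic group modulo `O₂` of the quotient, `reps` one matrix for each pair of anticommuting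
involutions of `r0`.
-/

set_option autoImplicit false
set_option maxRecDepth 100000
set_option synthInstance.maxSize 4000

namespace Cfsg.Agent.CoTwoThree

open Cfsg.Agent.McLLoc

/-- Matrices given by columns. -/
abbrev M4 := V4 × V4 × V4 × V4

/-- The image of a vector. -/
def lin (M : M4) (v : V4) : V4 :=
  V4.sm v.1 M.1 + V4.sm v.2.1 M.2.1 + V4.sm v.2.2.1 M.2.2.1 + V4.sm v.2.2.2 M.2.2.2

/-- The product. -/
def mcomp (M N : M4) : M4 := (lin M N.1, lin M N.2.1, lin M N.2.2.1, lin M N.2.2.2)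

/-- The identity. -/
def m1 : M4 := ((1, 0, 0, 0), (0, 1, 0, 0), (0, 0, 1, 0), (0, 0, 0, 1))

/-- Minus the identity. -/
def mneg : M4 := ((-1, 0, 0, 0), (0, -1, 0, 0), (0, 0, -1, 0), (0, 0, 0, -1))

/-- The matrices of size two. -/
abbrev M2 := (ZMod 3 × ZMod 3) × (ZMod 3 × ZMod 3)

/-- A block matrix, each block given by the images of its two basis vectors. -/
def dg2 (A B : M2) : M4 :=
  ((A.1.1, A.1.2, 0, 0), (A.2.1, A.2.2, 0, 0), (0, 0, B.1.1, B.1.2), (0, 0, B.2.1, B.2.2))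

/-- The involution with the two planes as eigenspaces. -/
def u0 : M4 := dg2 ((1, 0), (0, 1)) ((-1, 0), (0, -1))

/-- The involution exchanging the planes. -/
def w0 : M4 := ((0, 0, 1, 0), (0, 0, 0, 1), (1, 0, 0, 0), (0, 1, 0, 0))

/-- The pairs over three values. -/
def p3 : List (ZMod 3 × ZMod 3) := [(0, 0), (0, 1), (0, 2), (1, 0), (1, 1), (1, 2), (2, 0), (2, 1), (2, 2)]

/-- The special linear matrices of size two. -/
def sl24 : List M2 :=
  (p3.flatMap fun r => p3.map fun s => (r, s)).filter fun A => A.1.1 * A.2.2 - A.1.2 * A.2.1 == 1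

/-- The quaternion group. -/
def q8 : List M2 :=
  sl24.filter fun A => mcomp (mcomp (dg2 A A) (dg2 A A)) (mcomp (dg2 A A) (dg2 A A)) == m1

/-- The group of order thirty-two. -/
def r0 : List M4 :=
  q8.flatMap fun q => [dg2 q q, mcomp u0 (dg2 q q), mcomp w0 (dg2 q q), mcomp u0 (mcomp w0 (dg2 q q))]

/-- A vector from its code. -/
def dec4 (n : ℕ) : V4 :=
  (((n % 3 : ℕ) : ZMod 3), ((n / 3 % 3 : ℕ) : ZMod 3), ((n / 9 % 3 : ℕ) : ZMod 3), ((n / 27 % 3 : ℕ) : ZMod 3))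

/-- The codes of the representatives. -/
def repCodes : List (ℕ × ℕ × ℕ × ℕ) := [
  (48, 73, 37, 51),
  (48, 73, 61, 22),
  (48, 73, 22, 32),
  (48, 73, 74, 66),
  (48, 73, 17, 61),
  (48, 73, 32, 17),
  (48, 73, 66, 37),
  (48, 73, 51, 74),
  (66, 37, 38, 48),
  (66, 37, 59, 26),
  (66, 37, 26, 34),
  (66, 37, 73, 69),
  (66, 37, 13, 59),
  (66, 37, 34, 13),
  (66, 37, 48, 73),
  (66, 37, 69, 38),
  (39, 46, 47, 75),
  (39, 46, 64, 42),
  (39, 46, 62, 25),
  (39, 46, 25, 31),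
  (39, 46, 14, 62),
  (39, 46, 31, 14),
  (39, 46, 75, 64),
  (39, 46, 42, 47),
  (57, 19, 50, 80),
  (57, 19, 70, 40),
  (57, 19, 40, 50),
  (57, 19, 20, 30),
  (57, 19, 80, 70),
  (57, 19, 10, 60),
  (57, 19, 30, 10),
  (57, 19, 60, 20),
  (21, 28, 53, 79),
  (21, 28, 67, 41),
  (21, 28, 41, 53),
  (21, 28, 55, 24),
  (21, 28, 79, 67),
  (21, 28, 29, 12),
  (21, 28, 12, 55),
  (21, 28, 24, 29),
  (75, 64, 46, 78),
  (75, 64, 65, 39),
  (75, 64, 58, 23),
  (75, 64, 23, 35),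
  (75, 64, 16, 58),
  (75, 64, 35, 16),
  (75, 64, 39, 46),
  (75, 64, 78, 65),
  (12, 55, 49, 77),
  (12, 55, 71, 43),
  (12, 55, 43, 49),
  (12, 55, 56, 21),
  (12, 55, 77, 71),
  (12, 55, 28, 15),
  (12, 55, 21, 28),
  (12, 55, 15, 56),
  (30, 10, 52, 76),
  (30, 10, 68, 44),
  (30, 10, 44, 52),
  (30, 10, 19, 33),
  (30, 10, 76, 68),
  (30, 10, 11, 57),
  (30, 10, 57, 19),
  (30, 10, 33, 11),
  (3, 2, 45, 36),
  (3, 2, 63, 72),
  (3, 2, 36, 63),
  (3, 2, 54, 9),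
  (3, 2, 18, 54),
  (3, 2, 72, 45),
  (3, 2, 9, 27),
  (3, 2, 27, 18),
  (27, 18, 7, 8),
  (27, 18, 5, 4),
  (27, 18, 8, 5),
  (27, 18, 6, 1),
  (27, 18, 1, 3),
  (27, 18, 4, 7),
  (27, 18, 2, 6),
  (27, 18, 3, 2)]

/-- The representatives of the pairs. -/
def reps : List M4 := repCodes.map fun c => (dec4 c.1, dec4 c.2.1, dec4 c.2.2.1, dec4 c.2.2.2)

/-- The model of `C / O₃(C)`. -/
def hl : List M4 := reps.flatMap fun r => sl24.map fun A => mcomp r (dg2 A A)

/-- The conditions for an isometry. -/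
def Sympl (M : M4) : Prop :=
  bB M.1 M.2.1 = 1 ∧ bB M.2.2.1 M.2.2.2 = 1 ∧ bB M.1 M.2.2.1 = 0 ∧ bB M.1 M.2.2.2 = 0 ∧
    bB M.2.1 M.2.2.1 = 0 ∧ bB M.2.1 M.2.2.2 = 0

instance (M : M4) : Decidable (Sympl M) :=
  inferInstanceAs (Decidable (_ ∧ _ ∧ _ ∧ _ ∧ _ ∧ _))

theorem bB_lin {M : M4} (h : Sympl M) (x y : V4) : bB (lin M x) (lin M y) = bB x y := by
  obtain ⟨h12, h34, h13, h14, h23, h24⟩ := h
  simp only [bB] at h12 h34 h13 h14 h23 h24
  simp only [bB, lin, V4.sm, Prod.fst_add, Prod.snd_add]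
  linear_combination (x.1 * y.2.1 - x.2.1 * y.1) * h12 + (x.2.2.1 * y.2.2.2 - x.2.2.2 * y.2.2.1) * h34
    + (x.1 * y.2.2.1 - x.2.2.1 * y.1) * h13 + (x.1 * y.2.2.2 - x.2.2.2 * y.1) * h14
    + (x.2.1 * y.2.2.1 - x.2.2.1 * y.2.1) * h23 + (x.2.1 * y.2.2.2 - x.2.2.2 * y.2.1) * h24

theorem lin_add (M : M4) (x y : V4) : lin M (x + y) = lin M x + lin M y := by
  ext <;> simp [lin, V4.sm] <;> ring

theorem lin_sm (M : M4) (a : ZMod 3) (x : V4) : lin M (V4.sm a x) = V4.sm a (lin M x) := by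
  ext <;> simp [lin, V4.sm] <;> ring

theorem lin_mcomp (M N : M4) (x : V4) : lin (mcomp M N) x = lin M (lin N x) := by
  conv_rhs => rw [show lin N x = V4.sm x.1 N.1 + V4.sm x.2.1 N.2.1 + V4.sm x.2.2.1 N.2.2.1
    + V4.sm x.2.2.2 N.2.2.2 from rfl]
  simp only [lin_add, lin_sm]
  rfl

theorem lin_one (x : V4) : lin m1 x = x := by ext <;> simp [lin, m1, V4.sm]

theorem lin_injective {M : M4} (h : Sympl M) : Function.Injective (lin M) := fun x y e => by
  refine sub_eq_zero.mp (bB_nondeg _ fun d => ?_)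
  rw [← bB_lin h]
  have e' : lin M (x - y) + lin M y = lin M y := by rw [← lin_add, sub_add_cancel, e]
  rw [add_eq_right.mp e']
  simp [bB]

theorem lin_bijective {M : M4} (h : Sympl M) : Function.Bijective (lin M) :=
  Finite.injective_iff_bijective.mp (lin_injective h)

theorem lin_unit (M : M4) : lin M (1, 0, 0, 0) = M.1 ∧ lin M (0, 1, 0, 0) = M.2.1 ∧
    lin M (0, 0, 1, 0) = M.2.2.1 ∧ lin M (0, 0, 0, 1) = M.2.2.2 := by
  refine ⟨?_, ?_, ?_, ?_⟩ <;> (ext <;> simp [lin, V4.sm])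

theorem cover_all : (r0.all fun p => decide (mcomp p p = m1 → p ≠ m1 → p ≠ mneg → (r0.all fun q =>
    decide (mcomp q q = m1 → mcomp q p = mcomp mneg (mcomp p q) →
      (reps.any fun r => decide (mcomp p r = mcomp r u0 ∧ mcomp q r = mcomp r w0)) = true)) = true)) = true := by
  decide +kernel

/-- Every pair of anticommuting involutions is the image of the standard one. -/
theorem cover {p q : M4} (hp : p ∈ r0) (hq : q ∈ r0) (h1 : mcomp p p = m1) (h2 : mcomp q q = m1)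
    (h3 : mcomp q p = mcomp mneg (mcomp p q)) (h4 : p ≠ m1) (h5 : p ≠ mneg) :
    ∃ r ∈ reps, mcomp p r = mcomp r u0 ∧ mcomp q r = mcomp r w0 := by
  have h := of_decide_eq_true (List.all_eq_true.mp
    (of_decide_eq_true (List.all_eq_true.mp cover_all p hp) h1 h4 h5) q hq) h2 h3
  obtain ⟨r, hr, h⟩ := List.any_eq_true.mp h
  exact ⟨r, hr, of_decide_eq_true h⟩

theorem reps_sympl_all : (reps.all fun r => decide (Sympl r)) = true := by decide +kernel

theorem reps_sympl {r : M4} (hr : r ∈ reps) : Sympl r :=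
  of_decide_eq_true (List.all_eq_true.mp reps_sympl_all r hr)

theorem block_commute : ∀ A B : M2, mcomp w0 (dg2 A B) = mcomp (dg2 A B) w0 → A = B := by decide +kernel

theorem block_mem : ∀ A : M2, A.1.1 * A.2.2 - A.1.2 * A.2.1 = 1 →
    mcomp (mcomp (dg2 A A) (dg2 A A)) (mcomp (dg2 A A) (dg2 A A)) = m1 → dg2 A A ∈ r0 := by
  decide +kernel

theorem r0_closed_all : (r0.all fun p => r0.contains (mcomp u0 p) && r0.contains (mcomp w0 p)) = true := by
  decide +kernel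

theorem r0_closed {p : M4} (hp : p ∈ r0) : mcomp u0 p ∈ r0 ∧ mcomp w0 p ∈ r0 := by
  have h := List.all_eq_true.mp r0_closed_all p hp
  rw [Bool.and_eq_true] at h
  exact ⟨List.contains_iff_mem.mp h.1, List.contains_iff_mem.mp h.2⟩

theorem mem_sl24 : ∀ A : M2, A.1.1 * A.2.2 - A.1.2 * A.2.1 = 1 → A ∈ sl24 := by decide +kernel

theorem r0_length : r0.length = 32 ∧ hl.length = 1920 := by decide +kernel

end Cfsg.Agent.CoTwoThree
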