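import Cfsg.Agent.CoTwoThree.A.Faithful
import Cfsg.Agent.CoTwoThree.A.Model

/-!
The local stage: coordinates in which `C / O₃(C)` is the model group of matrices.
-/

set_option autoImplicit false
set_option synthInstance.maxSize 4000

open Subgroup
open scoped commutatorElement

namespace Cfsg.Agent.CoTwoThree

open Cfsg.Agent.McLLoc

universe u

namespace SBasis

variable {G : Type*} [Group G] [Finite G] {D : SympData G} (b : SBasis D)

theorem co_pt (c : V4) : b.co (b.pt c) = c := b.pt_injective (b.pt_co _)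

theorem pt_sm (a : ZMod 3) (c : V4) : b.pt (V4.sm a c) = D.pw a (b.pt c) := by
  have h0 : V4.sm 0 c = 0 := by ext <;> simp [V4.sm]
  have h1 : V4.sm 1 c = c := by ext <;> simp [V4.sm]
  have h2 : V4.sm (1 + 1) c = c + c := by ext <;> simp [V4.sm] <;> ring
  rcases (by decide : ∀ a : ZMod 3, a = 0 ∨ a = 1 ∨ a = 1 + 1) a with rfl | rfl | rfl
  · rw [h0, b.pt_zero, D.pw_zero]
  · rw [h1, D.pw_one]
  · rw [h2, b.pt_add, D.pw_add, D.pw_one]

end SBasis

theorem exists_noncentral {E : Type*} [Group E] [Finite E] {R : Subgroup E} {c x : E}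
    (hc : c ∈ R) (hc2 : orderOf c = 2) (hx : x ∈ R) (hsq : ∀ y ∈ R, y * y ∈ zpowers c)
    (hcm : ∀ y ∈ R, ∀ y' ∈ R, ⁅y, y'⁆ ∈ zpowers c) (hcard : Nat.card R = 32) (hcc : ∀ e : E, Commute e c)
    (hxc : x ∉ zpowers c) : ∃ u ∈ R, u ∉ zpowers c ∧ u * u = 1 := by
  have hcc2 : c * c = 1 := by rw [← pow_two, ← hc2, pow_orderOf_eq_one]
  have hone : ∀ a ∈ zpowers c, a = 1 ∨ a = c := fun a ha => by
    obtain ⟨j, rfl⟩ := mem_zpowers_iff.mp ha
    have h2 : c ^ (2 : ℤ) = 1 := by rw [zpow_two]; exact hcc2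
    rcases Int.even_or_odd' j with ⟨i, rfl | rfl⟩
    · left; rw [zpow_mul, h2, one_zpow]
    · right; rw [zpow_add, zpow_mul, h2, one_zpow, one_mul, zpow_one]
  rcases hone _ (hsq x hx) with e | e
  · exact ⟨x, hx, hxc, e⟩
  have h16 : 32 ≤ 2 * Nat.card ↥(R ⊓ centralizer ({x} : Set E)) := by
    by_cases hall : ∀ y ∈ R, Commute x y
    · rw [show R ⊓ centralizer ({x} : Set E) = R from
        inf_of_le_left fun y hy => mem_centralizer_singleton_iff.mpr (hall y hy).eq.symm, hcard]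
      norm_num
    push Not at hall
    obtain ⟨y₀, hy₀, hn₀⟩ := hall
    have hcom : ∀ y ∈ R, ¬ Commute x y → ⁅x, y⁆ = c := fun y hy hn =>
      (hone _ (hcm x hx y hy)).resolve_left fun e => hn (commutatorElement_eq_one_iff_commute.mp e)
    have hsurj : Function.Surjective fun p : Bool × ↥(R ⊓ centralizer ({x} : Set E)) =>
        (⟨(if p.1 then y₀ else 1) * p.2, mul_mem (by split_ifs <;> first | exact hy₀ | exact one_mem _)
          (Subgroup.mem_inf.mp p.2.2).1⟩ : ↥R) := by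
      intro y
      by_cases hy : Commute x y
      · exact ⟨(false, ⟨y, y.2, mem_centralizer_singleton_iff.mpr hy.eq.symm⟩), Subtype.ext (one_mul _)⟩
      refine ⟨(true, ⟨y₀⁻¹ * y, Subgroup.mem_inf.mpr ⟨R.mul_mem (R.inv_mem hy₀) y.2, mem_centralizer_singleton_iff.mpr ?_⟩⟩),
        Subtype.ext (mul_inv_cancel_left y₀ (y : E))⟩
      have e1 : ∀ y' : E, ⁅x, y'⁆ = c → x * y' = y' * x * c := fun y' he => by
        rw [← (hcc (y' * x)).eq.symm, ← he, commutatorElement_def]; group
      have e2 := e1 y₀ (hcom y₀ hy₀ hn₀)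
      have e3 := e1 y (hcom y y.2 hy)
      calc y₀⁻¹ * (y : E) * x = y₀⁻¹ * ((y : E) * x * c) * c := by
            simp only [mul_assoc, hcc2, mul_one]
        _ = y₀⁻¹ * (x * y) * c := by rw [e3]
        _ = y₀⁻¹ * (x * y₀) * (y₀⁻¹ * y) * c := by group
        _ = y₀⁻¹ * (y₀ * x * c) * (y₀⁻¹ * y) * c := by rw [e2]
        _ = x * (y₀⁻¹ * y) := by
            rw [show y₀⁻¹ * (y₀ * x * c) * (y₀⁻¹ * y) * c = x * (c * (y₀⁻¹ * y)) * c by group,
              ← (hcc (y₀⁻¹ * y)).eq]
            simp only [mul_assoc, hcc2, mul_one]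
    have := Nat.card_le_card_of_surjective _ hsurj
    rwa [Nat.card_prod, Nat.card_eq_fintype_card (α := Bool), Fintype.card_bool, hcard] at this
  obtain ⟨y, ⟨hyR, hyx⟩, hy1⟩ : ∃ y ∈ R ⊓ centralizer ({x} : Set E), y ∉ zpowers x := by
    by_contra hno
    push Not at hno
    have hle := Subgroup.card_le_of_le (show R ⊓ centralizer ({x} : Set E) ≤ zpowers x from hno)
    have h4 : orderOf x ∣ 4 := orderOf_dvd_of_pow_eq_one (by
      rw [show 4 = 2 * 2 from rfl, pow_mul, pow_two x, e, pow_two, hcc2])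
    rw [Nat.card_zpowers] at hle
    have := Nat.le_of_dvd (by norm_num) h4
    omega
  have hcx : c ∈ zpowers x := by rw [← e]; exact mul_mem (mem_zpowers x) (mem_zpowers x)
  have hcle : zpowers c ≤ zpowers x := zpowers_le.mpr hcx
  rcases hone _ (hsq y hyR) with e' | e'
  · exact ⟨y, hyR, fun hm => hy1 (hcle hm), e'⟩
  · refine ⟨x * y, mul_mem hx hyR, fun hm => hy1 ?_, ?_⟩
    · have := mul_mem (inv_mem (mem_zpowers x)) (hcle hm)
      rwa [inv_mul_cancel_left] at this
    · have hc' : Commute y x := mem_centralizer_singleton_iff.mp hyx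
      rw [mul_assoc, ← mul_assoc y, hc'.eq, mul_assoc, ← mul_assoc, e, e', hcc2]

namespace Base

variable {G : Type u} [Group G] [Finite G] (h : Base G) (b : SBasis h.D)

/-- The matrix of an element of the quotient. -/
noncomputable def mat (e : h.E) : M4 :=
  (b.co (h.rho e b.e), b.co (h.rho e b.f), b.co (h.rho e b.g), b.co (h.rho e b.k))

theorem rho_pt (e : h.E) (v : V4) : h.rho e (b.pt v) = b.pt (lin (h.mat b e) v) := by
  simp only [lin, b.pt_add, b.pt_sm, mat, b.pt_co]
  simp only [SBasis.pt, map_mul, SympData.pw, map_pow]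

theorem mat_eq {e : h.E} {M : M4} (hM : ∀ v, h.rho e (b.pt v) = b.pt (lin M v)) : h.mat b e = M := by
  have key : ∀ v, b.co (h.rho e (b.pt v)) = lin M v := fun v => by rw [hM, b.co_pt]
  obtain ⟨a1, a2, a3, a4⟩ := lin_unit M
  obtain ⟨p1, p2, p3, p4⟩ := b.pt_units
  rw [mat, ← p1, ← p2, ← p3, ← p4, key, key, key, key, a1, a2, a3, a4]

theorem mat_mul (a c : h.E) : h.mat b (a * c) = mcomp (h.mat b a) (h.mat b c) :=
  h.mat_eq b fun v => by rw [map_mul, MulAut.mul_apply, h.rho_pt, h.rho_pt, lin_mcomp]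

theorem mat_one : h.mat b 1 = m1 :=
  h.mat_eq b fun v => by rw [map_one, MulAut.one_apply, lin_one]

theorem mat_injective : Function.Injective (h.mat b) := fun a c e => h.rho_injective <| MulEquiv.ext fun w => by
  rw [← b.pt_co w, h.rho_pt, h.rho_pt, e]

theorem mat_sympl (e : h.E) : Sympl (h.mat b e) := by
  obtain ⟨a1, a2, a3, a4⟩ := lin_unit (h.mat b e)
  have key : ∀ v v', bB (lin (h.mat b e) v) (lin (h.mat b e) v') = bB v v' := fun v v' => by
    rw [← b.form_pt, ← h.rho_pt, ← h.rho_pt, ← b.form_pt]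
    exact h.rho_isom e _ _
  refine ⟨?_, ?_, ?_, ?_, ?_, ?_⟩
  · rw [← a1, ← a2, key]; simp [bB]
  · rw [← a3, ← a4, key]; simp [bB]
  · rw [← a1, ← a3, key]; simp [bB]
  · rw [← a1, ← a4, key]; simp [bB]
  · rw [← a2, ← a3, key]; simp [bB]
  · rw [← a2, ← a4, key]; simp [bB]

theorem mat_neg {c : h.E} (hc : h.rho c = h.neg) : h.mat b c = mneg := h.mat_eq b fun v => by
  rw [hc, h.neg_apply, inv_eq_iff_mul_eq_one, ← b.pt_add,
    show v + lin mneg v = 0 by ext <;> simp [lin, mneg, V4.sm], b.pt_zero]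

/-- **The coordinates.** -/
theorem exists_coords : ∃ b : SBasis h.D, (∀ e, h.mat b e ∈ hl) ∧ (∀ M ∈ hl, ∃ e, h.mat b e = M) ∧
    (∀ M ∈ r0, ∃ e ∈ h.Rb, h.mat b e = M) := by
  haveI : h.Rb.Normal := Core.pCore_normal
  obtain ⟨c, hcR, hco, hcc, hcn, hzc, hsq, hcm⟩ := h.rho_c
  have hc2 : c * c = 1 := by rw [← pow_two, ← hco, pow_orderOf_eq_one]
  have hone : ∀ a ∈ zpowers c, a = 1 ∨ a = c := fun a ha => by
    obtain ⟨j, rfl⟩ := mem_zpowers_iff.mp ha
    have h2 : c ^ (2 : ℤ) = 1 := by rw [zpow_two]; exact hc2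
    rcases Int.even_or_odd' j with ⟨i, rfl | rfl⟩
    · left; rw [zpow_mul, h2, one_zpow]
    · right; rw [zpow_add, zpow_mul, h2, one_zpow, one_mul, zpow_one]
  obtain ⟨x, hx, hxc⟩ : ∃ x ∈ h.Rb, x ∉ zpowers c := by
    by_contra hno
    push Not at hno
    have := Subgroup.card_le_of_le (show h.Rb ≤ zpowers c from hno)
    rw [h.cardRb, Nat.card_zpowers, hco] at this
    omega
  obtain ⟨u, hu, huc, hu2⟩ := exists_noncentral hcR hco hx hsq hcm h.cardRb hcc hxc
  obtain ⟨w, hw, hw2, hwu⟩ : ∃ w ∈ h.Rb, w * w = 1 ∧ w * u = c * (u * w) := by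
    obtain ⟨v, hv, huv⟩ : ∃ v ∈ h.Rb, ¬ Commute u v := by
      by_contra hno
      push Not at hno
      exact huc (hzc u hu hno)
    have e : v * u = c * (u * v) := by
      rw [← (hone _ (hcm v hv u hu)).resolve_left fun e => huv (commutatorElement_eq_one_iff_commute.mp e).symm,
        commutatorElement_def]
      group
    rcases hone _ (hsq v hv) with e1 | e1
    · exact ⟨v, hv, e1, e⟩
    · refine ⟨u * v, mul_mem hu hv, ?_, ?_⟩
      · calc u * v * (u * v) = u * (v * u) * v := by group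
          _ = u * (c * (u * v)) * v := by rw [e]
          _ = c * (u * u * (v * v)) := by rw [← mul_assoc u c, (hcc u).eq]; group
          _ = 1 := by rw [hu2, one_mul, e1, hc2]
      · rw [show u * v * u = u * (v * u) by group, e, ← mul_assoc u c, (hcc u).eq]; group
  have hu1 : u ≠ 1 := fun e => huc (e ▸ one_mem _)
  have huC : u ≠ c := fun e => huc (e ▸ mem_zpowers c)
  have hU2 : ∀ v, h.rho u (h.rho u v) = v := fun v => by
    rw [← MulAut.mul_apply, ← map_mul, hu2, map_one, MulAut.one_apply]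
  obtain ⟨v1, hv1⟩ : ∃ v, h.rho u v ≠ v := by
    by_contra e; push Not at e
    exact hu1 (h.rho_injective (MulEquiv.ext fun v => by rw [e, map_one, MulAut.one_apply]))
  obtain ⟨v2, hv2⟩ : ∃ v, h.rho u v ≠ v⁻¹ := by
    by_contra e; push Not at e
    exact huC (h.rho_injective (hcn.symm ▸ MulEquiv.ext e))
  obtain ⟨b₀, he, hf, -, -⟩ := exists_eigenbasis h.centerQ (φ := (h.rho u).toMonoidHom) (h.rho_isom u) hU2
    ⟨v1, hv1⟩ ⟨v2, hv2⟩
  change h.rho u b₀.e = b₀.e at he
  change h.rho u b₀.f = b₀.f at hf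
  have hUW : ∀ p, h.rho u (h.rho w p) = (h.rho w (h.rho u p))⁻¹ := fun p => by
    have e : h.rho (w * u) p = h.rho (c * (u * w)) p := by rw [hwu]
    simp only [map_mul, MulAut.mul_apply, hcn, h.neg_apply] at e
    rw [e, inv_inv]
  have hge : h.rho u (h.rho w b₀.e) = (h.rho w b₀.e)⁻¹ := by rw [hUW, he]
  have hgf : h.rho u (h.rho w b₀.f) = (h.rho w b₀.f)⁻¹ := by rw [hUW, hf]
  have horth : ∀ p n, h.rho u p = p → h.rho u n = n⁻¹ → h.D.form p n = 0 := fun p n hp hn => by
    have := h.rho_isom u p n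
    change h.D.form (h.rho u p) (h.rho u n) = _ at this
    rw [hp, hn, form_inv_right] at this
    exact (by decide : ∀ x : ZMod 3, -x = x → x = 0) _ this
  let b : SBasis h.D := ⟨b₀.e, b₀.f, h.rho w b₀.e, h.rho w b₀.f, b₀.ef,
    (h.rho_isom w _ _).trans b₀.ef, horth _ _ he hge, horth _ _ he hgf, horth _ _ hf hge, horth _ _ hf hgf⟩
  refine ⟨b, ?_⟩
  obtain ⟨p1, p2, p3, p4⟩ := b.pt_units
  have hneg : ∀ p : h.D.W, ∀ v, p = b.pt v → b.co p⁻¹ = -v := fun p v hp => by
    refine (congrArg b.co ?_).trans (b.co_pt _)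
    rw [hp, inv_eq_iff_mul_eq_one, ← b.pt_add, add_neg_cancel, b.pt_zero]
  have hmu : h.mat b u = u0 := by
    show (b.co (h.rho u b₀.e), b.co (h.rho u b₀.f), b.co (h.rho u (h.rho w b₀.e)),
      b.co (h.rho u (h.rho w b₀.f))) = u0
    rw [he, hf, hge, hgf, hneg (h.rho w b₀.e) _ p3.symm, hneg (h.rho w b₀.f) _ p4.symm,
      show b₀.e = b.pt (1, 0, 0, 0) from p1.symm, show b₀.f = b.pt (0, 1, 0, 0) from p2.symm, b.co_pt, b.co_pt]
    decide +kernel
  have hmw : h.mat b w = w0 := by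
    have hW2 : ∀ p, h.rho w (h.rho w p) = p := fun p => by
      rw [← MulAut.mul_apply, ← map_mul, hw2, map_one, MulAut.one_apply]
    show (b.co (h.rho w b₀.e), b.co (h.rho w b₀.f), b.co (h.rho w (h.rho w b₀.e)),
      b.co (h.rho w (h.rho w b₀.f))) = w0
    rw [hW2, hW2, show h.rho w b₀.e = b.pt (0, 0, 1, 0) from p3.symm,
      show h.rho w b₀.f = b.pt (0, 0, 0, 1) from p4.symm, show b₀.e = b.pt (1, 0, 0, 0) from p1.symm,
      show b₀.f = b.pt (0, 1, 0, 0) from p2.symm, b.co_pt, b.co_pt, b.co_pt, b.co_pt]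
    rfl
  have hcomm4 : ∀ r ∈ h.Rb, Commute u r → Commute w r → h.mat b r ∈ r0 := fun r hr cu cw => by
    obtain ⟨A, B, hA, hB, e1, e2, e3, e4⟩ := exists_plane_mat (φ := (h.rho u).toMonoidHom)
      (ψ := (h.rho r).toMonoidHom) (h.rho_isom r)
      (fun v => by
        show h.rho r (h.rho u v) = h.rho u (h.rho r v)
        rw [← MulAut.mul_apply, ← MulAut.mul_apply, ← map_mul, ← map_mul, cu.eq]) b
      ⟨he, hf, hge, hgf⟩
    change h.rho r b.e = _ at e1
    change h.rho r b.f = _ at e2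
    change h.rho r b.g = _ at e3
    change h.rho r b.k = _ at e4
    have hm : h.mat b r = dg2 A B := by
      have q1 : ∀ x y : ZMod 3, h.D.pw x b.e * h.D.pw y b.f = b.pt (x, y, 0, 0) := fun x y => by
        simp [SBasis.pt, SympData.pw_zero]
      have q2 : ∀ x y : ZMod 3, h.D.pw x b.g * h.D.pw y b.k = b.pt (0, 0, x, y) := fun x y => by
        simp [SBasis.pt, SympData.pw_zero]
      rw [q1] at e1 e2
      rw [q2] at e3 e4
      rw [mat, e1, e2, e3, e4, b.co_pt, b.co_pt, b.co_pt, b.co_pt]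
      rfl
    have hAB : A = B := block_commute A B (by rw [← hm, ← hmw, ← h.mat_mul, ← h.mat_mul, cw.eq])
    rw [hm, ← hAB]
    refine block_mem A hA ?_
    rw [← hAB] at hm
    rw [← hm, ← h.mat_mul, ← h.mat_mul]
    obtain ⟨k, hk⟩ := mem_zpowers_iff.mp (hsq r hr)
    rw [← hk, ← (Commute.refl c).mul_zpow, hc2, one_zpow, h.mat_one]
  have hRb : ∀ r ∈ h.Rb, h.mat b r ∈ r0 := by
    have hfix : ∀ v ∈ h.Rb, ∀ r ∈ h.Rb, ¬ Commute v r → ∀ t ∈ h.Rb, ¬ Commute t r → Commute (t * v) r := by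
      intro v hv r hr h1 t ht h2
      have k1 := (hone _ (hcm v hv r hr)).resolve_left fun e => h1 (commutatorElement_eq_one_iff_commute.mp e)
      have k2 := (hone _ (hcm t ht r hr)).resolve_left fun e => h2 (commutatorElement_eq_one_iff_commute.mp e)
      rw [← commutatorElement_eq_one_iff_commute, commutatorElement_mul_left_eq_conj_mul, k1, k2,
        (hcc t).eq, mul_inv_cancel_right, hc2]
    have huw : ¬ Commute u w := fun e => by
      rw [e.eq.symm] at hwu
      have := mul_eq_right.mp hwu.symm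
      rw [this, orderOf_one] at hco
      norm_num at hco
    have step : ∀ r ∈ h.Rb, Commute u r → h.mat b r ∈ r0 := fun r hr cu => by
      by_cases cw : Commute w r
      · exact hcomm4 r hr cu cw
      · have hur : u * r ∈ h.Rb := mul_mem hu hr
        have cu' : Commute u (u * r) := (Commute.refl u).mul_right cu
        have cw' : Commute w (u * r) := (hfix r hr w hw (fun e => cw e.symm) u hu huw).symm
        have e : r = u * (u * r) := by rw [← mul_assoc, hu2, one_mul]
        rw [e, h.mat_mul, hmu]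
        exact (r0_closed (hcomm4 _ hur cu' cw')).1
    intro r hr
    by_cases cu : Commute u r
    · exact step r hr cu
    · have cu' : Commute u (w * r) :=
        (hfix r hr u hu (fun e => cu e.symm) w hw fun e => huw e.symm).symm
      have e : r = w * (w * r) := by rw [← mul_assoc, hw2, one_mul]
      rw [e, h.mat_mul, hmw]
      exact (r0_closed (step _ (mul_mem hw hr) cu')).2
  have hmem : ∀ e, h.mat b e ∈ hl := fun e => by
    have hp := hRb _ (Normal.conj_mem inferInstance u hu e)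
    have hq := hRb _ (Normal.conj_mem inferInstance w hw e)
    have hne : ∀ a : h.E, a ≠ u → (∀ e', Commute e' a) → e * u * e⁻¹ ≠ a := fun a ha hca he' => by
      refine ha ?_
      calc a = e⁻¹ * a * e := by rw [(hca e⁻¹).eq, inv_mul_cancel_right]
        _ = e⁻¹ * (e * u * e⁻¹) * e := by rw [he']
        _ = u := by group
    obtain ⟨r, hr, hpr, hqr⟩ := cover hp hq
      (by rw [← h.mat_mul, conj_mul, hu2, mul_one, mul_inv_cancel, h.mat_one])
      (by rw [← h.mat_mul, conj_mul, hw2, mul_one, mul_inv_cancel, h.mat_one])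
      (by
        rw [← h.mat_mul, ← h.mat_mul, ← h.mat_neg b hcn, ← h.mat_mul, conj_mul, conj_mul, hwu,
          ← mul_assoc e c, (hcc e).eq]
        congr 1
        group)
      (fun e' => hne 1 hu1.symm Commute.one_right ((h.mat_injective b) (e'.trans (h.mat_one b).symm)))
      (fun e' => hne c huC.symm hcc ((h.mat_injective b) (e'.trans (h.mat_neg b hcn).symm)))
    set P := h.mat b (e * u * e⁻¹)
    set Q := h.mat b (e * w * e⁻¹)
    set M := h.mat b e
    have hMu : mcomp P M = mcomp M u0 := by rw [← h.mat_mul, inv_mul_cancel_right, h.mat_mul, hmu]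
    have hMw : mcomp Q M = mcomp M w0 := by rw [← h.mat_mul, inv_mul_cancel_right, h.mat_mul, hmw]
    have hr' := reps_sympl hr
    have hfix : ∀ v, lin u0 v = v → ∃ a a', lin M v = lin r (a, a', 0, 0) := fun v hv => by
      obtain ⟨v', hv'⟩ := (lin_bijective hr').2 (lin M v)
      have e1 : lin r (lin u0 v') = lin r v' := by
        rw [← lin_mcomp, ← hpr, lin_mcomp, hv', ← lin_mcomp, hMu, lin_mcomp, hv]
      have e2 := lin_injective hr' e1
      refine ⟨v'.1, v'.2.1, ?_⟩
      rw [← hv']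
      congr 1
      exact (by decide +kernel : ∀ v : V4, lin u0 v = v → v = (v.1, v.2.1, 0, 0)) v' e2
    have hw' : ∀ v x, lin M v = lin r x → lin M (lin w0 v) = lin r (lin w0 x) := fun v x hvx => by
      rw [← lin_mcomp, ← hMw, lin_mcomp, hvx, ← lin_mcomp, hqr, lin_mcomp]
    obtain ⟨a, a', h1⟩ := hfix (1, 0, 0, 0) (by decide +kernel)
    obtain ⟨d, d', h2⟩ := hfix (0, 1, 0, 0) (by decide +kernel)
    have h3 := hw' _ _ h1
    have h4 := hw' _ _ h2
    obtain ⟨m1', m2', m3', m4'⟩ := lin_unit M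
    rw [show lin w0 (1, 0, 0, 0) = (0, 0, 1, 0) by decide +kernel, m3',
      show lin w0 (a, a', 0, 0) = (0, 0, a, a') by ext <;> simp [lin, w0, V4.sm]] at h3
    rw [show lin w0 (0, 1, 0, 0) = (0, 0, 0, 1) by decide +kernel, m4',
      show lin w0 (d, d', 0, 0) = (0, 0, d, d') by ext <;> simp [lin, w0, V4.sm]] at h4
    rw [m1'] at h1
    rw [m2'] at h2
    have hdet : a * d' - a' * d = 1 := by
      have := (h.mat_sympl b e).1
      rw [h1, h2, bB_lin hr'] at this
      simpa [bB] using this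
    have hM : M = mcomp r (dg2 ((a, a'), (d, d')) ((a, a'), (d, d'))) := by
      show M = (lin r (a, a', 0, 0), lin r (d, d', 0, 0), lin r (0, 0, a, a'), lin r (0, 0, d, d'))
      rw [← h1, ← h2, ← h3, ← h4]
    rw [hM]
    exact List.mem_flatMap.mpr ⟨r, hr, List.mem_map.mpr ⟨_, mem_sl24 _ hdet, rfl⟩⟩
  refine ⟨hmem, ?_, ?_⟩
  · have hinj : Function.Injective fun e : h.E => (⟨h.mat b e, List.mem_toFinset.mpr (hmem e)⟩ : ↥hl.toFinset) :=
      fun a a' e => h.mat_injective b (congrArg Subtype.val e)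
    intro M hM
    have hbij := hinj.bijective_of_nat_card_le (by
      rw [h.cardE, Nat.card_eq_fintype_card, Fintype.card_coe]
      exact (List.toFinset_card_le _).trans r0_length.2.le)
    obtain ⟨e, he'⟩ := hbij.2 ⟨M, List.mem_toFinset.mpr hM⟩
    exact ⟨e, congrArg Subtype.val he'⟩
  · have hinj : Function.Injective fun e : h.Rb => (⟨h.mat b e, List.mem_toFinset.mpr (hRb _ e.2)⟩ : ↥r0.toFinset) :=
      fun a a' e => Subtype.ext (h.mat_injective b (congrArg Subtype.val e))
    intro M hM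
    have hbij := hinj.bijective_of_nat_card_le (by
      rw [h.cardRb, Nat.card_eq_fintype_card, Fintype.card_coe]
      exact (List.toFinset_card_le _).trans r0_length.1.le)
    obtain ⟨e, he'⟩ := hbij.2 ⟨M, List.mem_toFinset.mpr hM⟩
    exact ⟨e, e.2, congrArg Subtype.val he'⟩

end Base

end Cfsg.Agent.CoTwoThree
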