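import Cfsg.Agent.CoTwoThree.A.Coords
import Cfsg.Agent.McLLoc.CentZTools

/-!
The local stage: `C` is the semidirect product of the extraspecial group by the model group of matrices.
-/

set_option autoImplicit false
set_option synthInstance.maxSize 4000

open Subgroup
open scoped commutatorElement

namespace Cfsg.Agent.CoTwoThree

open Cfsg.Agent.McLLoc

universe u

/-- The elements of the model: a central coordinate, a vector and a matrix. -/
abbrev El := ZMod 3 × V4 × M4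

/-- The product of the model. -/
def emul (x y : El) : El :=
  (x.1 + y.1 - bB x.2.1 (lin x.2.2 y.2.1), x.2.1 + lin x.2.2 y.2.1, mcomp x.2.2 y.2.2)

/-- An isomorphism from the model onto `C`. -/
structure Emb {G : Type u} [Group G] [Finite G] (h : Base G) where
  el : El → G
  mul : ∀ x y, x.2.2 ∈ hl → y.2.2 ∈ hl → el x * el y = el (emul x y)
  closed : ∀ M ∈ hl, ∀ N ∈ hl, mcomp M N ∈ hl
  mem : ∀ x, el x ∈ h.C
  inj : ∀ x y, x.2.2 ∈ hl → y.2.2 ∈ hl → el x = el y → x = y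
  surj : ∀ g ∈ h.C, ∃ x, x.2.2 ∈ hl ∧ el x = g
  hz : el (1, 0, m1) = h.D.z
  one : el (0, 0, m1) = 1
  hQ : ∀ x, x.2.2 ∈ hl → (el x ∈ h.D.Q ↔ x.2.2 = m1)

namespace Base

variable {G : Type u} [Group G] [Finite G] (h : Base G)

theorem rho_of {g : G} (hg : g ∈ h.C) {x : G} (hx : x ∈ h.D.Q) :
    h.D.cls (g * x * g⁻¹) = h.rho ((⟨g, hg⟩ : ↥h.C) : h.E) (h.D.cls x) :=
  (h.D.act_cls (h.le_nm hg) hx).symm

theorem zpow_comm {g : G} (hg : g ∈ h.C) (a : ℤ) : Commute g (h.D.z ^ a) :=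
  Commute.zpow_right (mem_centralizer_singleton_iff.mp hg) a

theorem exists_inverting : ∃ t0 : ↥h.C, t0 * t0 = 1 ∧ h.rho (t0 : h.E) = h.neg ∧
    ∀ e : h.E, Commute e (t0 : h.E) := by
  obtain ⟨c, -, hco, hcc, hcn, -, -, -⟩ := h.rho_c
  obtain ⟨g, rfl⟩ := QuotientGroup.mk_surjective c
  haveI := Core.pCore_normal (p := 3) (G := ↥h.C)
  have h2 : g ^ 2 ∈ Cfsg.pCore 3 ↥h.C := (QuotientGroup.eq_one_iff (g ^ 2)).mp
    ((QuotientGroup.mk_pow _ g 2).trans (orderOf_dvd_iff_pow_eq_one.mp hco.dvd))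
  have hcard : Nat.card (Cfsg.pCore 3 ↥h.C) = 3 ^ 5 := by
    have := h.D.card
    rwa [← h.coreQ, card_map_of_injective h.C.subtype_injective] at this
  have h3 : (g ^ 2) ^ (3 ^ 5) = 1 := by
    have := pow_card_eq_one' (G := ↥(Cfsg.pCore 3 ↥h.C)) (x := ⟨g ^ 2, h2⟩)
    rw [hcard] at this
    exact congrArg Subtype.val this
  refine ⟨g ^ (3 ^ 5), by rw [← pow_two, ← pow_mul, mul_comm, pow_mul, h3], ?_, ?_⟩
  · have e : ((g ^ (3 ^ 5) : ↥h.C) : h.E) = g := by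
      rw [QuotientGroup.mk_pow, ← pow_mod_orderOf, hco]
      exact pow_one _
    rw [e, hcn]
  · intro e'
    rw [QuotientGroup.mk_pow]
    exact (hcc e').pow_right _

theorem alt_nonab : ∃ x y : alternatingGroup (Fin 5), x * y ≠ y * x := by decide +kernel

theorem exists_emb : Nonempty (Emb h) := by
  obtain ⟨b, hmem, hsur, -⟩ := h.exists_coords
  obtain ⟨t0, ht2, htn, htc⟩ := h.exists_inverting
  haveI := Core.pCore_normal (p := 3) (G := ↥h.C)
  haveI : h.Rb.Normal := Core.pCore_normal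
  have hzC : h.D.z ∈ h.C := h.leQ h.D.z_mem
  have htz : ∀ a ∈ zpowers h.D.z, (t0 : G) * a * (t0 : G)⁻¹ = a := fun a ha => by
    obtain ⟨k, rfl⟩ := mem_zpowers_iff.mp ha
    rw [(h.zpow_comm t0.2 k).eq, mul_inv_cancel_right]
  have hti : (t0 : G)⁻¹ = t0 := inv_eq_of_mul_eq_one_right (congrArg Subtype.val ht2)
  have htcls : ∀ x ∈ h.D.Q, h.D.cls ((t0 : G) * x * (t0 : G)⁻¹) = (h.D.cls x)⁻¹ := fun x hx => by
    rw [h.rho_of t0.2 hx, Subtype.coe_eta, htn, h.neg_apply]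
  -- inverted representatives
  have huniq : ∀ x ∈ h.D.Q, ∀ y ∈ h.D.Q, (t0 : G) * x * (t0 : G)⁻¹ = x⁻¹ →
      (t0 : G) * y * (t0 : G)⁻¹ = y⁻¹ → h.D.cls x = h.D.cls y → x = y := fun x hx y hy ex ey e => by
    have hd := (h.D.cls_eq hx hy).mp e
    obtain ⟨d, hdd⟩ : ∃ d, d = x⁻¹ * y := ⟨_, rfl⟩
    rw [← hdd] at hd
    have hy' : y = x * d := by rw [hdd, mul_inv_cancel_left]
    subst hy'
    rw [show (t0 : G) * (x * d) * (t0 : G)⁻¹ = (t0 : G) * x * (t0 : G)⁻¹ * ((t0 : G) * d * (t0 : G)⁻¹) by group,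
      htz d hd, ex, ← h.D.commute_of_mem hd (inv_mem hx), mul_inv_rev, mul_left_inj] at ey
    have h3 : d * d * d = 1 := by
      obtain ⟨k, rfl⟩ := mem_zpowers_iff.mp hd
      rw [← zpow_add, ← zpow_add, show k + k + k = ((3 : ℕ) : ℤ) * k by push_cast; ring, zpow_mul, zpow_natCast,
        orderOf_dvd_iff_pow_eq_one.mp h.D.z_ord.dvd, one_zpow]
    rw [eq_inv_iff_mul_eq_one] at ey
    rw [ey, one_mul] at h3
    rw [h3, mul_one]
  obtain ⟨s, hs, hsi, hsc⟩ : ∃ s : V4 → G, (∀ v, s v ∈ h.D.Q) ∧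
      (∀ v, (t0 : G) * s v * (t0 : G)⁻¹ = (s v)⁻¹) ∧ ∀ v, h.D.cls (s v) = b.pt v := by
    have key : ∀ v, ∃ y ∈ h.D.Q, (t0 : G) * y * (t0 : G)⁻¹ = y⁻¹ ∧ h.D.cls y = b.pt v := fun v => by
      obtain ⟨x, hx, hxv⟩ := h.D.cls_surj (b.pt v)
      have hn := h.le_nm t0.2
      have hxt := h.D.conj_mem hn hx
      obtain ⟨d, hdd⟩ : ∃ d, d = x * ((t0 : G) * x * (t0 : G)⁻¹) := ⟨_, rfl⟩
      have hd : d ∈ zpowers h.D.z := hdd ▸ (h.D.cls_eq_one (mul_mem hx hxt)).mp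
        (by rw [h.D.cls_mul hx hxt, htcls x hx, mul_inv_cancel])
      refine ⟨x * d, mul_mem hx (zpowers_le.mpr h.D.z_mem hd), ?_, ?_⟩
      · rw [show (t0 : G) * (x * d) * (t0 : G)⁻¹ = (t0 : G) * x * (t0 : G)⁻¹ * ((t0 : G) * d * (t0 : G)⁻¹) by group,
          htz d hd, show (t0 : G) * x * (t0 : G)⁻¹ = x⁻¹ * d by rw [hdd, inv_mul_cancel_left]]
        obtain ⟨k, rfl⟩ := mem_zpowers_iff.mp hd
        rw [mul_inv_rev, ← (((h.zpow_comm (h.leQ hx) k)).inv_inv).eq, mul_assoc, ← zpow_add,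
          ← zpow_neg, show (k : ℤ) + k = -k + (3 : ℕ) * k by push_cast; ring, zpow_add, zpow_mul, zpow_natCast,
          orderOf_dvd_iff_pow_eq_one.mp h.D.z_ord.dvd, one_zpow, mul_one]
      · rw [h.D.cls_mul hx (zpowers_le.mpr h.D.z_mem hd),
          (h.D.cls_eq_one (zpowers_le.mpr h.D.z_mem hd)).mpr hd, mul_one, hxv]
    choose s hs hsi hsc using key
    exact ⟨s, hs, hsi, hsc⟩
  have zc : ∀ a c : ZMod 3, h.D.z ^ a.val * h.D.z ^ c.val = h.D.z ^ (a + c).val := h.D.zpow_add'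
  have zcomm : ∀ (a : ZMod 3), ∀ g ∈ h.C, Commute g (h.D.z ^ a.val) := fun a g hg =>
    Commute.pow_right (mem_centralizer_singleton_iff.mp hg) _
  have hss : ∀ v w, s v * s w = h.D.z ^ (-bB v w).val * s (v + w) := fun v w => by
    have hvw := mul_mem (hs v) (hs w)
    obtain ⟨d, hdd⟩ : ∃ d, d = s v * s w * (s (v + w))⁻¹ := ⟨_, rfl⟩
    have hd : d ∈ zpowers h.D.z := hdd ▸ (h.D.cls_eq_one (mul_mem hvw (inv_mem (hs _)))).mp (by
      rw [h.D.cls_mul hvw (inv_mem (hs _)), h.D.cls_mul (hs v) (hs w), h.D.cls_inv (hs _), hsc, hsc, hsc,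
        ← b.pt_add, mul_inv_cancel])
    obtain ⟨a, rfl⟩ := h.D.exists_zpow hd
    have e1 : s (v + w) = h.D.z ^ (-a).val * (s v * s w) := by
      rw [show s v * s w = h.D.z ^ a.val * s (v + w) by rw [hdd, inv_mul_cancel_right], ← mul_assoc, zc,
        neg_add_cancel, ZMod.val_zero, pow_zero, one_mul]
    have hinv : ∀ c : ZMod 3, (h.D.z ^ c.val)⁻¹ = h.D.z ^ (-c).val := fun c =>
      inv_eq_of_mul_eq_one_right (by rw [zc, add_neg_cancel, ZMod.val_zero, pow_zero])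
    have e2 := hsi (v + w)
    rw [e1, show (t0 : G) * (h.D.z ^ (-a).val * (s v * s w)) * (t0 : G)⁻¹ = (t0 : G) * h.D.z ^ (-a).val
      * (t0 : G)⁻¹ * (((t0 : G) * s v * (t0 : G)⁻¹) * ((t0 : G) * s w * (t0 : G)⁻¹)) by group,
      htz _ (npow_mem_zpowers _ _), hsi, hsi, mul_inv_rev, hinv, neg_neg, mul_inv_rev,
      ← (zcomm a _ (h.leQ (mul_mem (inv_mem (hs w)) (inv_mem (hs v))))).symm.eq] at e2
    have e3 : ⁅(s v)⁻¹, (s w)⁻¹⁆ = h.D.z ^ (a + a).val := by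
      calc ⁅(s v)⁻¹, (s w)⁻¹⁆ = (h.D.z ^ (-a).val)⁻¹ * (h.D.z ^ (-a).val * ((s v)⁻¹ * (s w)⁻¹))
            * s v * s w := by rw [commutatorElement_def]; group
        _ = (h.D.z ^ (-a).val)⁻¹ * (h.D.z ^ a.val * ((s w)⁻¹ * (s v)⁻¹)) * s v * s w := by rw [e2]
        _ = (h.D.z ^ (-a).val)⁻¹ * h.D.z ^ a.val := by group
        _ = h.D.z ^ (a + a).val := by rw [hinv, neg_neg, zc]
    rw [h.D.br_spec (inv_mem (hs v)) (inv_mem (hs w))] at e3
    have e4 := h.D.zpow_inj e3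
    rw [← h.D.form_cls (inv_mem (hs v)) (inv_mem (hs w)), h.D.cls_inv (hs v), h.D.cls_inv (hs w), hsc, hsc,
      h.D.form_inv_inv, b.form_pt] at e4
    have e5 : -bB v w = a := by
      rw [e4]; exact (by decide : ∀ a : ZMod 3, -(a + a) = a) a
    rw [e5, hdd, inv_mul_cancel_right]
  -- the complement
  let T : Subgroup ↥h.C := centralizer ({t0} : Set ↥h.C)
  let π : ↥T →* h.E := (QuotientGroup.mk' (Cfsg.pCore 3 ↥h.C)).comp T.subtype
  have hπs : Function.Surjective π := fun e => by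
    obtain ⟨g, rfl⟩ := QuotientGroup.mk_surjective e
    obtain ⟨d, hdd⟩ : ∃ d : ↥h.C, d = t0 * (g * t0 * g⁻¹) := ⟨_, rfl⟩
    have hd : d ∈ Cfsg.pCore 3 ↥h.C := (QuotientGroup.eq_one_iff d).mp (by
      rw [hdd, QuotientGroup.mk_mul, QuotientGroup.mk_mul, QuotientGroup.mk_mul, QuotientGroup.mk_inv,
        (htc (g : h.E)).eq, mul_inv_cancel_right, ← QuotientGroup.mk_mul, ht2, QuotientGroup.mk_one])
    have htd : t0⁻¹ = t0 := inv_eq_of_mul_eq_one_right ht2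
    have hgt : g * t0 * g⁻¹ = t0 * d := by rw [hdd, ← mul_assoc, ht2, one_mul]
    have hinv : t0 * d * t0 = d⁻¹ := by
      refine eq_inv_of_mul_eq_one_left ?_
      calc t0 * d * t0 * d = (t0 * d) * (t0 * d) := by group
        _ = g * (t0 * t0) * g⁻¹ := by rw [← hgt]; group
        _ = 1 := by rw [ht2]; group
    have hdQ : (d : G) ∈ h.D.Q := (h.mem_Q d.2).mpr hd
    have hd3 : d * d * d = 1 := by
      obtain ⟨k, hk⟩ := mem_zpowers_iff.mp (h.D.cube _ hdQ)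
      have e1 : t0 * d ^ 3 * t0⁻¹ = d ^ 3 := Subtype.ext (by
        simp only [Subgroup.coe_mul, Subgroup.coe_inv, SubmonoidClass.coe_pow]
        exact htz _ (h.D.cube _ hdQ))
      rw [← conj_pow, htd, hinv, inv_pow] at e1
      have e2 : (d : G) ^ 3 * (d : G) ^ 3 = 1 := by
        nth_rewrite 1 [show (d : G) ^ 3 = ((d : G) ^ 3)⁻¹ from (congrArg Subtype.val e1).symm]
        exact inv_mul_cancel _
      have e3 : ((d : G) ^ 3) ^ 3 = 1 := by
        rw [← hk, ← zpow_natCast, ← zpow_mul, mul_comm, zpow_mul, zpow_natCast,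
          orderOf_dvd_iff_pow_eq_one.mp h.D.z_ord.dvd, one_zpow]
      rw [pow_succ, pow_two, e2, one_mul] at e3
      refine Subtype.ext ?_
      rw [pow_succ, pow_two] at e3
      exact e3
    refine ⟨⟨d⁻¹ * g, mem_centralizer_singleton_iff.mpr ?_⟩, ?_⟩
    · calc d⁻¹ * g * t0 = d⁻¹ * (g * t0 * g⁻¹) * g := by group
        _ = (t0 * d * t0) * (t0 * d) * g := by rw [hgt, hinv]
        _ = t0 * (d * (t0 * t0) * d) * g := by group
        _ = t0 * (d * d * d * d⁻¹) * g := by rw [ht2]; group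
        _ = t0 * (d⁻¹ * g) := by rw [hd3, one_mul, mul_assoc]
    · show ((d⁻¹ * g : ↥h.C) : h.E) = g
      rw [QuotientGroup.mk_mul, (QuotientGroup.eq_one_iff _).mpr (inv_mem hd), one_mul]
  have hker : ∀ x : ↥T, π x = 1 ↔ ((x : ↥h.C) : G) ∈ zpowers h.D.z := fun x => by
    show (((x : ↥h.C)) : h.E) = 1 ↔ _
    rw [QuotientGroup.eq_one_iff, ← h.mem_Q (x : ↥h.C).2]
    refine ⟨fun hq => ?_, fun hz => zpowers_le.mpr h.D.z_mem hz⟩
    have e := htcls _ hq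
    rw [show (t0 : G) * ((x : ↥h.C) : G) * (t0 : G)⁻¹ = ((x : ↥h.C) : G) from
      congrArg Subtype.val (mul_inv_eq_iff_eq_mul.mpr (mem_centralizer_singleton_iff.mp x.2).symm)] at e
    refine (h.D.cls_eq_one hq).mp ?_
    have h3 := h.D.cube' (h.D.cls ((x : ↥h.C) : G))
    rwa [pow_succ, pow_two, show h.D.cls ((x : ↥h.C) : G) * h.D.cls ((x : ↥h.C) : G) = 1 by
      nth_rewrite 1 [e]; exact inv_mul_cancel _, one_mul] at h3
  let zT : ↥T := ⟨⟨h.D.z, hzC⟩, mem_centralizer_singleton_iff.mpr (Subtype.ext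
    (mem_centralizer_singleton_iff.mp t0.2).symm)⟩
  have hzo : orderOf zT = 3 := by
    rw [← Subgroup.orderOf_coe, ← Subgroup.orderOf_coe]
    exact h.D.z_ord
  have hkz : π.ker = zpowers zT := by
    ext x
    rw [MonoidHom.mem_ker, hker, mem_zpowers_iff, mem_zpowers_iff]
    refine exists_congr fun k => ⟨fun e => Subtype.ext (Subtype.ext (by simpa [zT] using e)), fun e => ?_⟩
    have := congrArg (fun y : ↥T => ((y : ↥h.C) : G)) e
    simpa [zT] using this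
  have hcT : Nat.card ↥T = 1920 * 3 := by
    rw [card_eq_card_quotient_mul_card_subgroup π.ker,
      Nat.card_congr (QuotientGroup.quotientKerEquivOfSurjective π hπs).toEquiv, h.cardE, hkz, Nat.card_zpowers,
      hzo]
  obtain ⟨K, hKn, hzK, hcomK, -, hK9⟩ := McLLoc.exists_killer (H := ↥T) (z := zT)
    (fun g => Subtype.ext (Subtype.ext (mem_centralizer_singleton_iff.mp (g : ↥h.C).2).symm)) hzo
    (by rw [hcT]; norm_num) (by rw [hcT]; norm_num)
  have hKtop : ∀ e, ∃ k ∈ K, π k = e := by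
    haveI := hKn
    haveI := Normal.map (H := K) inferInstance π hπs
    obtain ⟨α⟩ := h.alt
    have hα : Function.Surjective (α.toMonoidHom.comp (QuotientGroup.mk' h.Rb)) :=
      α.surjective.comp (QuotientGroup.mk'_surjective _)
    have hR : h.Rb ≤ K.map π := fun r hr => by
      obtain ⟨x, rfl⟩ := hπs r
      have h9 : x ^ 9 ∈ K := by
        obtain ⟨m, hm⟩ := hK9
        rw [hm, pow_mul]
        exact pow_mem (Subgroup.pow_index_mem K x) m
      have h32 : (π x) ^ 32 = 1 := by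
        have := pow_card_eq_one' (G := ↥h.Rb) (x := ⟨π x, hr⟩)
        rw [h.cardRb] at this
        exact congrArg Subtype.val this
      refine ⟨(x ^ 9) ^ 25, pow_mem h9 25, ?_⟩
      rw [map_pow, map_pow, ← pow_mul, show 9 * 25 = 32 * 7 + 1 from rfl, pow_succ, pow_mul, h32, one_pow,
        one_mul]
    have htop : (K.map π).map (α.toMonoidHom.comp (QuotientGroup.mk' h.Rb)) = ⊤ := by
      haveI := Normal.map (H := K.map π) inferInstance _ hα
      refine ((alternatingGroup.isSimpleGroup (α := Fin 5) (by simp)).eq_bot_or_eq_top_of_normal _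
        inferInstance).resolve_left fun hb => ?_
      obtain ⟨x, y, hxy⟩ := alt_nonab
      obtain ⟨x', rfl⟩ := hα x
      obtain ⟨y', rfl⟩ := hα y
      obtain ⟨x'', rfl⟩ := hπs x'
      obtain ⟨y'', rfl⟩ := hπs y'
      refine hxy (commutatorElement_eq_one_iff_mul_comm.mp ?_)
      rw [← map_commutatorElement, ← map_commutatorElement, ← mem_bot, ← hb]
      exact mem_map_of_mem _ (mem_map_of_mem _ (hcomK _ _))
    intro e
    obtain ⟨k, hk, hke⟩ := mem_map.mp (show α.toMonoidHom.comp (QuotientGroup.mk' h.Rb) e ∈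
      (K.map π).map (α.toMonoidHom.comp (QuotientGroup.mk' h.Rb)) from htop ▸ mem_top _)
    have hd : k⁻¹ * e ∈ h.Rb := (QuotientGroup.eq_one_iff _).mp (α.map_eq_one_iff.mp (by
      show α.toMonoidHom.comp (QuotientGroup.mk' h.Rb) (k⁻¹ * e) = 1
      rw [map_mul, map_inv, hke, inv_mul_cancel]))
    have := mul_mem hk (hR hd)
    rw [mul_inv_cancel_left] at this
    exact mem_map.mp this
  have hKinj : ∀ k ∈ K, π k = 1 → k = 1 := fun k hk e => by
    rw [← MonoidHom.mem_ker, hkz, mem_zpowers_iff] at e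
    obtain ⟨j, rfl⟩ := e
    have h3 : zT ^ 3 = 1 := orderOf_dvd_iff_pow_eq_one.mp hzo.dvd
    have e3 : j % 3 = 0 ∨ j % 3 = 1 ∨ j % 3 = 2 := by omega
    rw [← zpow_mod_orderOf, hzo] at hk ⊢
    rcases e3 with e | e | e
    · rw [show ((3 : ℕ) : ℤ) = 3 from rfl, e, zpow_zero]
    · rw [show ((3 : ℕ) : ℤ) = 3 from rfl, e, zpow_one] at hk; exact absurd hk hzK
    · rw [show ((3 : ℕ) : ℤ) = 3 from rfl, e] at hk
      refine absurd ?_ hzK
      have := mul_mem hk hk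
      rwa [← zpow_add, show (2 : ℤ) + 2 = ((3 : ℕ) : ℤ) + 1 from rfl, zpow_add, zpow_natCast, h3, one_mul,
        zpow_one] at this
  choose p0 hp0 hpπ using hKtop
  have hpm : ∀ e e', p0 e * p0 e' = p0 (e * e') := fun e e' => by
    refine (inv_mul_eq_one.mp (hKinj _ (mul_mem (inv_mem (hp0 _)) (mul_mem (hp0 e) (hp0 e'))) ?_)).symm
    rw [map_mul, map_inv, map_mul, hpπ, hpπ, hpπ, inv_mul_cancel]
  obtain ⟨einv, heinv⟩ : ∃ einv : M4 → h.E, ∀ M ∈ hl, h.mat b (einv M) = M := by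
    classical
    exact ⟨fun M => if hM : M ∈ hl then (hsur M hM).choose else 1,
      fun M hM => by simp only [dif_pos hM]; exact (hsur M hM).choose_spec⟩
  obtain ⟨p, hpC, hpq, hpt, hpmul, hpone⟩ : ∃ p : M4 → G, ∃ hp : ∀ M, p M ∈ h.C,
      (∀ M, ((⟨p M, hp M⟩ : ↥h.C) : h.E) = einv M) ∧
      (∀ M, (t0 : G) * p M * (t0 : G)⁻¹ = p M) ∧
      (∀ M ∈ hl, ∀ N ∈ hl, p M * p N = p (mcomp M N) ∧ mcomp M N ∈ hl) ∧ p m1 = 1 := by
    refine ⟨fun M => ((p0 (einv M) : ↥h.C) : G), fun M => (p0 (einv M) : ↥h.C).2, fun M => hpπ (einv M),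
      fun M => ?_, fun M hM N hN => ?_, ?_⟩
    · exact congrArg Subtype.val (mul_inv_eq_iff_eq_mul.mpr
        (mem_centralizer_singleton_iff.mp (p0 (einv M)).2).symm)
    · have hin : mcomp M N ∈ hl := by
        rw [← heinv M hM, ← heinv N hN, ← h.mat_mul]; exact hmem _
      refine ⟨?_, hin⟩
      have e : einv M * einv N = einv (mcomp M N) := h.mat_injective b (by
        rw [h.mat_mul, heinv M hM, heinv N hN, heinv _ hin])
      dsimp only
      rw [← e, ← hpm, Subgroup.coe_mul, Subgroup.coe_mul]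
    · have hm1 : m1 ∈ hl := h.mat_one b ▸ hmem 1
      have e : einv m1 = 1 := h.mat_injective b ((heinv _ hm1).trans (h.mat_one b).symm)
      have := hpm 1 1
      rw [one_mul, mul_eq_left] at this
      show ((p0 (einv m1) : ↥h.C) : G) = 1
      rw [e, this]; rfl
  have hconj : ∀ M ∈ hl, ∀ v, p M * s v = s (lin M v) * p M := fun M hM v => by
    have hm := h.D.conj_mem (h.le_nm (hpC M)) (hs v)
    refine mul_inv_eq_iff_eq_mul.mp (huniq _ hm _ (hs _) ?_ (hsi _) ?_)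
    · calc (t0 : G) * (p M * s v * (p M)⁻¹) * (t0 : G)⁻¹
          = ((t0 : G) * p M * (t0 : G)⁻¹) * ((t0 : G) * s v * (t0 : G)⁻¹) * ((t0 : G) * p M * (t0 : G)⁻¹)⁻¹ := by
            group
        _ = (p M * s v * (p M)⁻¹)⁻¹ := by rw [hpt, hsi]; group
    · rw [h.rho_of (hpC M) (hs v), hpq, hsc, hsc, h.rho_pt, heinv M hM]
  have hm1 : m1 ∈ hl := h.mat_one b ▸ hmem 1
  have hs0 : s 0 = 1 := huniq _ (hs 0) 1 (one_mem _) (hsi 0) (by group) (by rw [hsc, b.pt_zero, h.D.cls_one])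
  have hmk : ∀ x : El, ∀ hx : h.D.z ^ x.1.val * s x.2.1 * p x.2.2 ∈ h.C,
      ((⟨_, hx⟩ : ↥h.C) : h.E) = einv x.2.2 := fun x hx => by
    have hq : h.D.z ^ x.1.val * s x.2.1 ∈ h.D.Q := mul_mem (pow_mem h.D.z_mem _) (hs _)
    rw [show (⟨_, hx⟩ : ↥h.C) = ⟨_, h.leQ hq⟩ * ⟨p x.2.2, hpC _⟩ from rfl, QuotientGroup.mk_mul, hpq,
      (QuotientGroup.eq_one_iff _).mpr ((h.mem_Q (h.leQ hq)).mp hq), one_mul]
  have hmemC : ∀ x : El, h.D.z ^ x.1.val * s x.2.1 * p x.2.2 ∈ h.C := fun x =>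
    mul_mem (mul_mem (pow_mem hzC _) (h.leQ (hs _))) (hpC _)
  refine ⟨⟨fun x => h.D.z ^ x.1.val * s x.2.1 * p x.2.2, fun x y hx hy => ?_,
    fun M hM N hN => (hpmul M hM N hN).2, hmemC, fun x y hx hy e => ?_, fun g hg => ?_, ?_, ?_, fun x hx => ?_⟩⟩
  · calc h.D.z ^ x.1.val * s x.2.1 * p x.2.2 * (h.D.z ^ y.1.val * s y.2.1 * p y.2.2)
        = h.D.z ^ x.1.val * s x.2.1 * (p x.2.2 * h.D.z ^ y.1.val) * s y.2.1 * p y.2.2 := by group
      _ = h.D.z ^ x.1.val * (s x.2.1 * h.D.z ^ y.1.val) * (p x.2.2 * s y.2.1) * p y.2.2 := by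
          rw [(zcomm _ _ (hpC _)).eq]; group
      _ = h.D.z ^ x.1.val * h.D.z ^ y.1.val * (s x.2.1 * s (lin x.2.2 y.2.1)) * (p x.2.2 * p y.2.2) := by
          rw [(zcomm _ _ (h.leQ (hs _))).eq, hconj _ hx]; group
      _ = _ := by
          rw [(hpmul _ hx _ hy).1, hss, zc, ← mul_assoc, zc]
          rw [show x.1 + y.1 + -bB x.2.1 (lin x.2.2 y.2.1) = x.1 + y.1 - bB x.2.1 (lin x.2.2 y.2.1) by ring]
          rfl
  · have eM : x.2.2 = y.2.2 := by
      rw [← heinv _ hx, ← heinv _ hy, ← hmk x (hmemC x), ← hmk y (hmemC y)]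
      exact congrArg _ (congrArg _ (Subtype.ext e))
    simp only [eM, mul_left_inj] at e
    have hq : ∀ z : El, h.D.z ^ z.1.val ∈ h.D.Q := fun z => pow_mem h.D.z_mem _
    have e' := congrArg h.D.cls e
    rw [h.D.cls_mul (hq x) (hs _), h.D.cls_mul (hq y) (hs _), (h.D.cls_eq_one (hq x)).mpr (npow_mem_zpowers _ _),
      (h.D.cls_eq_one (hq y)).mpr (npow_mem_zpowers _ _), one_mul, one_mul, hsc, hsc] at e'
    have ev := b.pt_injective e'
    rw [ev, mul_left_inj] at e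
    exact Prod.ext (h.D.zpow_inj e) (Prod.ext ev eM)
  · let M := h.mat b ((⟨g, hg⟩ : ↥h.C) : h.E)
    have hM : M ∈ hl := hmem _
    have hq : g * (p M)⁻¹ ∈ h.D.Q := by
      refine (h.mem_Q (mul_mem hg (inv_mem (hpC M)))).mpr ((QuotientGroup.eq_one_iff _).mp ?_)
      rw [show (⟨g * (p M)⁻¹, _⟩ : ↥h.C) = ⟨g, hg⟩ * ⟨p M, hpC M⟩⁻¹ from rfl, QuotientGroup.mk_mul,
        QuotientGroup.mk_inv, hpq, h.mat_injective b (heinv M hM), mul_inv_cancel]
    let v := b.co (h.D.cls (g * (p M)⁻¹))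
    have hd : g * (p M)⁻¹ * (s v)⁻¹ ∈ zpowers h.D.z := (h.D.cls_eq_one (mul_mem hq (inv_mem (hs v)))).mp (by
      rw [h.D.cls_mul hq (inv_mem (hs v)), h.D.cls_inv (hs v), hsc, b.pt_co, mul_inv_cancel])
    obtain ⟨a, ha⟩ := h.D.exists_zpow hd
    refine ⟨(a, v, M), hM, ?_⟩
    show h.D.z ^ a.val * s v * p M = g
    rw [← ha]; group
  · show h.D.z ^ (1 : ZMod 3).val * s 0 * p m1 = h.D.z
    rw [hs0, hpone, ZMod.val_one, pow_one, mul_one, mul_one]
  · show h.D.z ^ (0 : ZMod 3).val * s 0 * p m1 = 1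
    rw [hs0, hpone, ZMod.val_zero, pow_zero, mul_one, mul_one]
  · rw [h.mem_Q (hmemC x), ← QuotientGroup.eq_one_iff (N := Cfsg.pCore 3 ↥h.C), hmk x (hmemC x)]
    exact ⟨fun e => by rw [← heinv _ hx, e, h.mat_one], fun e => h.mat_injective b (by rw [heinv _ hx, e, h.mat_one])⟩

end Base

end Cfsg.Agent.CoTwoThree
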