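import Cfsg.Agent.McLLoc.CentZSimil

/-!
The local stage: symplectic bases and isometries of `Q / Z` commuting with an involutive one.
-/

set_option autoImplicit false

namespace Cfsg.Agent.CoTwoThree

open Cfsg.Agent.McLLoc
open scoped commutatorElement

/-- The standard form on coordinates `(e₁, f₁, e₂, f₂)`. -/
def bB (c d : V4) : ZMod 3 :=
  c.1 * d.2.1 - c.2.1 * d.1 + (c.2.2.1 * d.2.2.2 - c.2.2.2 * d.2.2.1)

theorem bB_nondeg : ∀ c : V4, (∀ d, bB c d = 0) → c = 0 := by decide +kernel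

/-- The product of two `2 × 2` matrices given by rows. -/
def m22 (A B : (ZMod 3 × ZMod 3) × (ZMod 3 × ZMod 3)) : (ZMod 3 × ZMod 3) × (ZMod 3 × ZMod 3) :=
  ((A.1.1 * B.1.1 + A.1.2 * B.2.1, A.1.1 * B.1.2 + A.1.2 * B.2.2),
    (A.2.1 * B.1.1 + A.2.2 * B.2.1, A.2.1 * B.1.2 + A.2.2 * B.2.2))

theorem m22_facts : ∀ A : (ZMod 3 × ZMod 3) × (ZMod 3 × ZMod 3),
    A.1.1 * A.2.2 - A.1.2 * A.2.1 = 1 →
    (m22 A A = ((1, 0), (0, 1)) → A = ((1, 0), (0, 1)) ∨ A = ((-1, 0), (0, -1))) ∧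
    True := by
  decide +kernel

/-- Four elements with the standard Gram matrix. -/
structure SBasis {G : Type*} [Group G] (D : SympData G) where
  e : D.W
  f : D.W
  g : D.W
  k : D.W
  ef : D.form e f = 1
  gk : D.form g k = 1
  eg : D.form e g = 0
  ek : D.form e k = 0
  fg : D.form f g = 0
  fk : D.form f k = 0

/-- An isometry of `Q / Z`. -/
def Isom {G : Type*} [Group G] (D : SympData G) (φ : D.W →* D.W) : Prop :=
  ∀ a b, D.form (φ a) (φ b) = D.form a b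

namespace SBasis

variable {G : Type*} [Group G] {D : SympData G} (b : SBasis D)

/-- The point with the given coordinates. -/
noncomputable def pt (c : V4) : D.W :=
  D.pw c.1 b.e * D.pw c.2.1 b.f * D.pw c.2.2.1 b.g * D.pw c.2.2.2 b.k

theorem pt_add (c d : V4) : b.pt (c + d) = b.pt c * b.pt d := by
  simp only [pt, Prod.fst_add, Prod.snd_add, D.pw_add]
  ac_rfl

theorem pt_zero : b.pt 0 = 1 := by simp [pt, D.pw_zero]

theorem pt_units : b.pt (1, 0, 0, 0) = b.e ∧ b.pt (0, 1, 0, 0) = b.f ∧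
    b.pt (0, 0, 1, 0) = b.g ∧ b.pt (0, 0, 0, 1) = b.k := by
  simp [pt, D.pw_zero, D.pw_one]

theorem form_pt (c d : V4) : D.form (b.pt c) (b.pt d) = bB c d := by
  have fe := D.form_swap b.e b.f
  have kg := D.form_swap b.g b.k
  have ge := D.form_swap b.e b.g
  have ke := D.form_swap b.e b.k
  have gf := D.form_swap b.f b.g
  have kf := D.form_swap b.f b.k
  simp only [pt, D.form_mul_left, D.form_mul_right, D.form_pw_left, D.form_pw_right, D.form_self, b.ef,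
    b.gk, b.eg, b.ek, b.fg, b.fk, fe, kg, ge, ke, gf, kf, bB]
  ring

theorem pt_injective : Function.Injective b.pt := fun c d h => by
  refine sub_eq_zero.mp (bB_nondeg _ fun x => ?_)
  have e : b.pt (c - d) * b.pt d = b.pt c := by rw [← b.pt_add, sub_add_cancel]
  have h1 : b.pt (c - d) = 1 := by rwa [h, mul_eq_right] at e
  rw [← b.form_pt, h1, D.form_one_left]

variable [Finite G]

theorem pt_bijective : Function.Bijective b.pt := by
  haveI := Fintype.ofFinite D.W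
  refine (Fintype.bijective_iff_injective_and_card _).mpr ⟨b.pt_injective, ?_⟩
  rw [← Nat.card_eq_fintype_card, ← Nat.card_eq_fintype_card, D.card_w]
  simp [Nat.card_prod]

/-- The coordinates. -/
noncomputable def co (w : D.W) : V4 := (Equiv.ofBijective b.pt b.pt_bijective).symm w

theorem pt_co (w : D.W) : b.pt (b.co w) = w := (Equiv.ofBijective b.pt b.pt_bijective).apply_symm_apply w

theorem ext_hom {φ ψ : D.W →* D.W} (he : φ b.e = ψ b.e) (hf : φ b.f = ψ b.f) (hg : φ b.g = ψ b.g)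
    (hk : φ b.k = ψ b.k) : φ = ψ := MonoidHom.ext fun w => by
  rw [← b.pt_co w, pt]
  simp only [map_mul, SympData.pw, map_pow, he, hf, hg, hk]

include b in
/-- Every functional is given by the form. -/
theorem exists_form_eq (f : D.W → ZMod 3) (hf : ∀ a b, f (a * b) = f a + f b) :
    ∃ a, ∀ x, D.form a x = f x := by
  refine ⟨b.pt (f b.f, -f b.e, f b.k, -f b.g), fun x => ?_⟩
  have hone : f 1 = 0 := by simpa using hf 1 1
  have hpw : ∀ (n : ℕ) (w : D.W), f (w ^ n) = n * f w := fun n w => by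
    induction n with
    | zero => simp [hone]
    | succ n ih => rw [pow_succ, hf, ih, Nat.cast_succ]; ring
  rw [← b.pt_co x, b.form_pt]
  simp only [pt, hf, SympData.pw, hpw, ZMod.natCast_zmod_val, bB]
  ring

end SBasis

variable {G : Type*} [Group G] [Finite G] (D : SympData G)

theorem form_inv_right (a b : D.W) : D.form a b⁻¹ = -D.form a b := by
  have := D.form_mul_right a b⁻¹ b
  rw [inv_mul_cancel] at this
  have h0 : D.form a (1 : D.W) = 0 := by rw [D.form_swap, D.form_one_left, neg_zero]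
  rw [h0] at this
  exact eq_neg_of_add_eq_zero_left this.symm

theorem form_inv_left (a b : D.W) : D.form a⁻¹ b = -D.form a b := by
  rw [D.form_swap, form_inv_right, D.form_swap a b]; simp

theorem exists_form_ne' (hc : Subgroup.center D.Q ≤ D.Zq) {a : D.W} (ha : a ≠ 1) :
    ∃ b, D.form a b ≠ 0 := by
  by_contra hne
  push Not at hne
  obtain ⟨x, hx, rfl⟩ := D.cls_surj a
  refine ha ((D.cls_eq_one hx).mpr ?_)
  have hxK : (⟨x, hx⟩ : D.Q) ∈ Subgroup.center D.Q := Subgroup.mem_center_iff.mpr fun y => by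
    refine Subtype.ext (Eq.symm ?_)
    show x * y = y * x
    rw [← commutatorElement_eq_one_iff_mul_comm, D.br_spec hx y.2, ← D.form_cls hx y.2, hne (D.cls y),
      ZMod.val_zero, pow_zero]
  exact Subgroup.mem_subgroupOf.mp (hc hxK)

/-- A point and a partner with value one. -/
theorem exists_partner (hc : Subgroup.center D.Q ≤ D.Zq) {a : D.W} (ha : a ≠ 1) :
    ∃ b, D.form a b = 1 := by
  obtain ⟨b, hb⟩ := exists_form_ne' D hc ha
  refine ⟨D.pw (D.form a b) b, ?_⟩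
  rw [D.form_pw_right]
  exact (by decide : ∀ x : ZMod 3, x ≠ 0 → x * x = 1) _ hb

/-- Four elements with the standard Gram matrix exist. -/
theorem exists_sbasis (hc : Subgroup.center D.Q ≤ D.Zq) : Nonempty (SBasis D) := by
  obtain ⟨e, he⟩ := D.exists_ne_one
  obtain ⟨f, hef⟩ := exists_partner D hc he
  have hfe : D.form f e = -1 := by rw [D.form_swap, hef]
  have hproj : ∀ w : D.W, ∃ w', D.form e w' = 0 ∧ D.form f w' = 0 ∧
      ∀ x, D.form e x = 0 → D.form f x = 0 → D.form x w' = D.form x w := fun w => by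
    refine ⟨w * D.pw (D.form f w) e * D.pw (-D.form e w) f, ?_, ?_, fun x hx hx' => ?_⟩
    · simp only [D.form_mul_right, D.form_pw_right, hef, D.form_self]; ring
    · simp only [D.form_mul_right, D.form_pw_right, hfe, D.form_self]; ring
    · simp only [D.form_mul_right, D.form_pw_right, D.form_swap e x, D.form_swap f x, hx, hx']; ring
  obtain ⟨g, hg, hg1, hg2⟩ : ∃ g, g ≠ 1 ∧ D.form e g = 0 ∧ D.form f g = 0 := by
    by_contra hno
    push Not at hno
    have hsurj : Function.Surjective fun p : ZMod 3 × ZMod 3 => D.pw p.1 e * D.pw p.2 f := by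
      intro w
      refine ⟨(-D.form f w, D.form e w), ?_⟩
      have hw : w * D.pw (D.form f w) e * D.pw (-D.form e w) f = 1 := by
        by_contra h1
        refine hno _ h1 ?_ ?_
        · simp only [D.form_mul_right, D.form_pw_right, hef, D.form_self]; ring
        · simp only [D.form_mul_right, D.form_pw_right, hfe, D.form_self]; ring
      show D.pw (-D.form f w) e * D.pw (D.form e w) f = w
      rw [D.pw_neg] at hw ⊢
      rw [mul_inv_eq_one] at hw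
      show (D.pw (D.form f w) e)⁻¹ * D.pw (D.form e w) f = w
      rw [← hw, mul_comm w, inv_mul_cancel_left]
    have := Nat.card_le_card_of_surjective _ hsurj
    rw [D.card_w] at this
    simp [Nat.card_prod] at this
  obtain ⟨k₀, hk₀⟩ := exists_partner D hc hg
  obtain ⟨k, hk1, hk2, hk3⟩ := hproj k₀
  exact ⟨⟨e, f, g, k, hef, by rw [hk3 g hg1 hg2, hk₀], hg1, hk1, hg2, hk2⟩⟩

variable {D}

/-- An involutive isometry other than `±1` has a basis of eigenvectors. -/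
theorem exists_eigenbasis (hc : Subgroup.center D.Q ≤ D.Zq) {φ : D.W →* D.W} (hφ : Isom D φ)
    (h2 : ∀ w, φ (φ w) = w) (h1 : ∃ w, φ w ≠ w) (hm : ∃ w, φ w ≠ w⁻¹) :
    ∃ b : SBasis D, φ b.e = b.e ∧ φ b.f = b.f ∧ φ b.g = b.g⁻¹ ∧ φ b.k = b.k⁻¹ := by
  have hsq : ∀ w : D.W, (w * w) * (w * w) = w := fun w => by
    calc w * w * (w * w) = w * w ^ 3 := by rw [pow_succ, pow_two]; ac_rfl
      _ = w := by rw [D.cube', mul_one]
  have hdec : ∀ w, ∃ p n, φ p = p ∧ φ n = n⁻¹ ∧ w = p * n := fun w => by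
    refine ⟨(w * φ w) * (w * φ w), (w * (φ w)⁻¹) * (w * (φ w)⁻¹), ?_, ?_, ?_⟩
    · simp only [map_mul, h2]; rw [mul_comm (φ w) w]
    · simp only [map_mul, map_inv, h2, mul_inv_rev, inv_inv]
    · calc w = (w * w) * (w * w) := (hsq w).symm
        _ = _ := by
          rw [show w * φ w * (w * φ w) * (w * (φ w)⁻¹ * (w * (φ w)⁻¹))
            = (w * w) * (w * w) * (φ w * (φ w)⁻¹) * (φ w * (φ w)⁻¹) by ac_rfl]
          simp
  have horth : ∀ p n, φ p = p → φ n = n⁻¹ → D.form p n = 0 := fun p n hp hn => by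
    have := hφ p n
    rw [hp, hn, form_inv_right] at this
    exact (by decide : ∀ x : ZMod 3, -x = x → x = 0) _ this
  obtain ⟨e, he, hep⟩ : ∃ e, e ≠ 1 ∧ φ e = e := by
    obtain ⟨w, hw⟩ := hm
    obtain ⟨p, n, hp, hn, rfl⟩ := hdec w
    refine ⟨p, fun e1 => hw ?_, hp⟩
    rw [e1, one_mul, hn]
  obtain ⟨g, hg, hgn⟩ : ∃ g, g ≠ 1 ∧ φ g = g⁻¹ := by
    obtain ⟨w, hw⟩ := h1
    obtain ⟨p, n, hp, hn, rfl⟩ := hdec w
    refine ⟨n, fun e1 => hw ?_, hn⟩
    rw [e1, mul_one, hp]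
  obtain ⟨f₀, hf₀⟩ := exists_partner D hc he
  obtain ⟨f, n, hf, hn, hfd⟩ := hdec f₀
  have hef : D.form e f = 1 := by
    rw [hfd, D.form_mul_right, horth e n hep hn, add_zero] at hf₀
    exact hf₀
  obtain ⟨k₀, hk₀⟩ := exists_partner D hc hg
  obtain ⟨p, k, hp, hk, hkd⟩ := hdec k₀
  have hgk : D.form g k = 1 := by
    rw [hkd, D.form_mul_right, D.form_swap p g, horth p g hp hgn, neg_zero, zero_add] at hk₀
    exact hk₀
  exact ⟨⟨e, f, g, k, hef, hgk, horth e g hep hgn, horth e k hep hk, horth f g hf hgn, horth f k hf hk⟩,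
    hep, hf, hgn, hk⟩

/-- An isometry commuting with `φ` preserves the eigenplanes and has determinant one on each. -/
theorem exists_plane_mat {φ ψ : D.W →* D.W} (hψ : Isom D ψ) (hcomm : ∀ w, ψ (φ w) = φ (ψ w))
    (b : SBasis D) (hφ : φ b.e = b.e ∧ φ b.f = b.f ∧ φ b.g = b.g⁻¹ ∧ φ b.k = b.k⁻¹) :
    ∃ A B : (ZMod 3 × ZMod 3) × (ZMod 3 × ZMod 3),
      A.1.1 * A.2.2 - A.1.2 * A.2.1 = 1 ∧ B.1.1 * B.2.2 - B.1.2 * B.2.1 = 1 ∧
      ψ b.e = D.pw A.1.1 b.e * D.pw A.1.2 b.f ∧ ψ b.f = D.pw A.2.1 b.e * D.pw A.2.2 b.f ∧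
      ψ b.g = D.pw B.1.1 b.g * D.pw B.1.2 b.k ∧ ψ b.k = D.pw B.2.1 b.g * D.pw B.2.2 b.k := by
  obtain ⟨h1, h2, h3, h4⟩ := hφ
  have hφpt : ∀ c : V4, φ (b.pt c) = b.pt (c.1, c.2.1, -c.2.2.1, -c.2.2.2) := fun c => by
    simp only [SBasis.pt, map_mul, SympData.pw, map_pow, h1, h2, h3, h4]
    congr 1
    · congr 1
      exact (D.pw_neg _ _).trans (inv_pow _ _).symm |>.symm
    · exact (D.pw_neg _ _).trans (inv_pow _ _).symm |>.symm
  have hfix : ∀ c : V4, φ (b.pt c) = b.pt c → c = (c.1, c.2.1, 0, 0) := fun c h => by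
    rw [hφpt] at h
    exact (by decide +kernel : ∀ c : V4, (c.1, c.2.1, -c.2.2.1, -c.2.2.2) = c → c = (c.1, c.2.1, 0, 0))
      c (b.pt_injective h)
  have hneg : ∀ c : V4, φ (b.pt c) = (b.pt c)⁻¹ → c = (0, 0, c.2.2.1, c.2.2.2) := fun c h => by
    rw [hφpt, eq_inv_iff_mul_eq_one, ← b.pt_add, ← b.pt_zero] at h
    exact (by decide +kernel : ∀ c : V4, (c.1, c.2.1, -c.2.2.1, -c.2.2.2) + c = 0 →
      c = (0, 0, c.2.2.1, c.2.2.2)) c (b.pt_injective h)
  have he := hfix (b.co (ψ b.e)) (by rw [b.pt_co, ← hcomm, h1])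
  have hf := hfix (b.co (ψ b.f)) (by rw [b.pt_co, ← hcomm, h2])
  have hg := hneg (b.co (ψ b.g)) (by rw [b.pt_co, ← hcomm, h3, map_inv])
  have hk := hneg (b.co (ψ b.k)) (by rw [b.pt_co, ← hcomm, h4, map_inv])
  have ee : ψ b.e = b.pt ((b.co (ψ b.e)).1, (b.co (ψ b.e)).2.1, 0, 0) := by rw [← he, b.pt_co]
  have ef : ψ b.f = b.pt ((b.co (ψ b.f)).1, (b.co (ψ b.f)).2.1, 0, 0) := by rw [← hf, b.pt_co]
  have eg : ψ b.g = b.pt (0, 0, (b.co (ψ b.g)).2.2.1, (b.co (ψ b.g)).2.2.2) := by rw [← hg, b.pt_co]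
  have ek : ψ b.k = b.pt (0, 0, (b.co (ψ b.k)).2.2.1, (b.co (ψ b.k)).2.2.2) := by rw [← hk, b.pt_co]
  refine ⟨(((b.co (ψ b.e)).1, (b.co (ψ b.e)).2.1), ((b.co (ψ b.f)).1, (b.co (ψ b.f)).2.1)),
    (((b.co (ψ b.g)).2.2.1, (b.co (ψ b.g)).2.2.2), ((b.co (ψ b.k)).2.2.1, (b.co (ψ b.k)).2.2.2)),
    ?_, ?_, ?_, ?_, ?_, ?_⟩
  · have := hψ b.e b.f
    rw [ee, ef, b.form_pt, b.ef] at this
    simpa [bB] using this
  · have := hψ b.g b.k
    rw [eg, ek, b.form_pt, b.gk] at this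
    simpa [bB] using this
  · refine ee.trans ?_; simp [SBasis.pt, D.pw_zero]
  · refine ef.trans ?_; simp [SBasis.pt, D.pw_zero]
  · refine eg.trans ?_; simp [SBasis.pt, D.pw_zero]
  · refine ek.trans ?_; simp [SBasis.pt, D.pw_zero]

theorem pw_pair (ψ : D.W →* D.W) {x y : D.W} {A : (ZMod 3 × ZMod 3) × (ZMod 3 × ZMod 3)}
    {a : ZMod 3 × ZMod 3} (hx : ψ x = D.pw A.1.1 x * D.pw A.1.2 y)
    (hy : ψ y = D.pw A.2.1 x * D.pw A.2.2 y) :
    ψ (D.pw a.1 x * D.pw a.2 y)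
      = D.pw (a.1 * A.1.1 + a.2 * A.2.1) x * D.pw (a.1 * A.1.2 + a.2 * A.2.2) y := by
  have hmul : ∀ p q : ZMod 3, ∀ w : D.W, (D.pw q w) ^ p.val = D.pw (p * q) w := fun p q w => by
    rw [SympData.pw, SympData.pw, ← pow_mul, ZMod.val_mul, mul_comm q.val]
    exact pow_eq_pow_mod _ (D.cube' w)
  simp only [map_mul, D.pw_add]
  rw [show ψ (D.pw a.1 x) = (ψ x) ^ a.1.val from map_pow _ _ _,
    show ψ (D.pw a.2 y) = (ψ y) ^ a.2.val from map_pow _ _ _, hx, hy, mul_pow, mul_pow, hmul, hmul, hmul,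
    hmul]
  ac_rfl

/-- Two commuting involutive isometries: one of the two and their product is `±1`. -/
theorem sign_of_commute (hc : Subgroup.center D.Q ≤ D.Zq) {φ ψ : D.W →* D.W} (hφ : Isom D φ)
    (hψ : Isom D ψ) (h2 : ∀ w, φ (φ w) = w) (k2 : ∀ w, ψ (ψ w) = w)
    (hcomm : ∀ w, ψ (φ w) = φ (ψ w)) (h1 : ∃ w, φ w ≠ w) (hm : ∃ w, φ w ≠ w⁻¹) :
    (∀ w, ψ w = w) ∨ (∀ w, ψ w = w⁻¹) ∨ (∀ w, ψ w = φ w) ∨ (∀ w, ψ w = (φ w)⁻¹) := by
  obtain ⟨b, hb⟩ := exists_eigenbasis hc hφ h2 h1 hm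
  obtain ⟨A, B, hA, hB, e1, e2, e3, e4⟩ := exists_plane_mat hψ hcomm b hb
  have two : ∀ (x y : D.W) (A : (ZMod 3 × ZMod 3) × (ZMod 3 × ZMod 3)),
      ψ x = D.pw A.1.1 x * D.pw A.1.2 y → ψ y = D.pw A.2.1 x * D.pw A.2.2 y →
      (∀ a c : ZMod 3 × ZMod 3, D.pw a.1 x * D.pw a.2 y = D.pw c.1 x * D.pw c.2 y → a = c) →
      m22 A A = ((1, 0), (0, 1)) := by
    intro x y A hx hy hinj
    have i1 := k2 x
    rw [hx, pw_pair ψ (a := A.1) hx hy] at i1
    have i2 := k2 y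
    rw [hy, pw_pair ψ (a := A.2) hx hy] at i2
    have j1 := hinj (_, _) (1, 0) (i1.trans (by simp [D.pw_one, D.pw_zero]))
    have j2 := hinj (_, _) (0, 1) (i2.trans (by simp [D.pw_one, D.pw_zero]))
    exact Prod.ext j1 j2
  have hA2 := two b.e b.f A e1 e2 fun a c h => by
    have e := b.pt_injective (a₁ := (a.1, a.2, 0, 0)) (a₂ := (c.1, c.2, 0, 0))
      (by simp [SBasis.pt, D.pw_zero, h])
    simpa [Prod.ext_iff] using e
  have hB2 := two b.g b.k B e3 e4 fun a c h => by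
    have e := b.pt_injective (a₁ := (0, 0, a.1, a.2)) (a₂ := (0, 0, c.1, c.2))
      (by simp [SBasis.pt, D.pw_zero, h])
    simpa [Prod.ext_iff] using e
  obtain ⟨h1', h2', h3', h4'⟩ := hb
  let ni : D.W →* D.W := MonoidHom.mk' (fun w => w⁻¹) fun a c => mul_inv a c
  have hneg : D.pw (-1) = fun w : D.W => w⁻¹ := funext fun w => by rw [D.pw_neg, D.pw_one]
  rcases (m22_facts A hA).1 hA2 with rfl | rfl <;> rcases (m22_facts B hB).1 hB2 with rfl | rfl <;>
    simp only [D.pw_one, D.pw_zero, hneg, mul_one, one_mul] at e1 e2 e3 e4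
  · left; intro w
    exact DFunLike.congr_fun (b.ext_hom (ψ := MonoidHom.id _) e1 e2 e3 e4) w
  · right; right; left; intro w
    exact DFunLike.congr_fun (b.ext_hom (e1.trans h1'.symm) (e2.trans h2'.symm) (e3.trans h3'.symm)
      (e4.trans h4'.symm)) w
  · right; right; right; intro w
    exact DFunLike.congr_fun (b.ext_hom (ψ := ni.comp φ)
      (e1.trans (congrArg _ h1').symm) (e2.trans (congrArg _ h2').symm)
      (e3.trans (by show b.g = (φ b.g)⁻¹; rw [h3', inv_inv]))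
      (e4.trans (by show b.k = (φ b.k)⁻¹; rw [h4', inv_inv]))) w
  · right; left; intro w
    exact DFunLike.congr_fun (b.ext_hom (ψ := ni) e1 e2 e3 e4) w

/-- An isometry of order five commuting with an involutive one other than `±1` is trivial. -/
theorem trivial_of_five (hc : Subgroup.center D.Q ≤ D.Zq) {φ ψ : D.W →* D.W} (hφ : Isom D φ)
    (hψ : Isom D ψ) (h2 : ∀ w, φ (φ w) = w) (h1 : ∃ w, φ w ≠ w) (hm : ∃ w, φ w ≠ w⁻¹)
    (hcomm : ∀ w, ψ (φ w) = φ (ψ w)) (h5 : ∀ w, ψ (ψ (ψ (ψ (ψ w)))) = w) (w : D.W) : ψ w = w := by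
  obtain ⟨b, hb⟩ := exists_eigenbasis hc hφ h2 h1 hm
  obtain ⟨A, B, hA, hB, e1, e2, e3, e4⟩ := exists_plane_mat hψ hcomm b hb
  have five : ∀ (x y : D.W) (A : (ZMod 3 × ZMod 3) × (ZMod 3 × ZMod 3)),
      A.1.1 * A.2.2 - A.1.2 * A.2.1 = 1 →
      ψ x = D.pw A.1.1 x * D.pw A.1.2 y → ψ y = D.pw A.2.1 x * D.pw A.2.2 y →
      (∀ a c : ZMod 3 × ZMod 3, D.pw a.1 x * D.pw a.2 y = D.pw c.1 x * D.pw c.2 y → a = c) →
      ψ x = x ∧ ψ y = y := by
    intro x y A hd hx hy hinj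
    have step : ∀ P : (ZMod 3 × ZMod 3) × (ZMod 3 × ZMod 3),
        ψ (D.pw P.1.1 x * D.pw P.1.2 y) = D.pw (m22 P A).1.1 x * D.pw (m22 P A).1.2 y ∧
        ψ (D.pw P.2.1 x * D.pw P.2.2 y) = D.pw (m22 P A).2.1 x * D.pw (m22 P A).2.2 y := fun P =>
      ⟨pw_pair ψ (a := P.1) hx hy, pw_pair ψ (a := P.2) hx hy⟩
    have i1 := h5 x
    rw [hx, (step A).1, (step _).1, (step _).1, (step _).1] at i1
    have i2 := h5 y
    rw [hy, (step A).2, (step _).2, (step _).2, (step _).2] at i2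
    have j1 := hinj (_, _) (1, 0) (i1.trans (by simp [D.pw_one, D.pw_zero]))
    have j2 := hinj (_, _) (0, 1) (i2.trans (by simp [D.pw_one, D.pw_zero]))
    have hA5 : m22 (m22 (m22 (m22 A A) A) A) A = ((1, 0), (0, 1)) := Prod.ext j1 j2
    have e : A = ((1, 0), (0, 1)) := (by decide +kernel : ∀ A : (ZMod 3 × ZMod 3) × (ZMod 3 × ZMod 3),
      A.1.1 * A.2.2 - A.1.2 * A.2.1 = 1 →
      m22 (m22 (m22 (m22 A A) A) A) A = ((1, 0), (0, 1)) → A = ((1, 0), (0, 1))) A hd hA5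
    subst e
    exact ⟨hx.trans (by simp [D.pw_one, D.pw_zero]), hy.trans (by simp [D.pw_one, D.pw_zero])⟩
  obtain ⟨pe, pf⟩ := five b.e b.f A hA e1 e2 fun a c h => by
    have e := b.pt_injective (a₁ := (a.1, a.2, 0, 0)) (a₂ := (c.1, c.2, 0, 0))
      (by simp [SBasis.pt, D.pw_zero, h])
    simpa [Prod.ext_iff] using e
  obtain ⟨pg, pk⟩ := five b.g b.k B hB e3 e4 fun a c h => by
    have e := b.pt_injective (a₁ := (0, 0, a.1, a.2)) (a₂ := (0, 0, c.1, c.2))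
      (by simp [SBasis.pt, D.pw_zero, h])
    simpa [Prod.ext_iff] using e
  exact DFunLike.congr_fun (b.ext_hom (ψ := MonoidHom.id _) pe pf pg pk) w

end Cfsg.Agent.CoTwoThree
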