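import Cfsg.Agent.CoTwoThree.A.Base
import Cfsg.Agent.CoTwoThree.A.Plane
import Cfsg.Agent.Fusion.Extraspecial

/-!
The local stage: `C / O₃(C)` acts faithfully on `O₃(C) / Z`, the central involution by inversion.
-/

set_option autoImplicit false

open Subgroup
open scoped commutatorElement

namespace Cfsg.Agent.CoTwoThree

universe u

/-- The number of fixed points of an element of order dividing five on a normal subgroup. -/
theorem fixed_mod_five {E : Type*} [Group E] [Finite E] {f : E} (h5 : f ^ 5 = 1) (X : Subgroup E)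
    [X.Normal] : Nat.card X ≡ Nat.card ↥(X ⊓ centralizer ({f} : Set E)) [MOD 5] := by
  haveI : Fact (Nat.Prime 5) := ⟨by norm_num⟩
  letI : MulAction (zpowers f) X := MulAction.compHom X ((MulAut.conjNormal (H := X)).comp (zpowers f).subtype)
  have hP : IsPGroup 5 (zpowers f) := fun x => ⟨1, by
    obtain ⟨k, hk⟩ := mem_zpowers_iff.mp x.2
    refine Subtype.ext ?_
    rw [pow_one, coe_pow, ← hk, ← zpow_natCast, ← zpow_mul, mul_comm, zpow_mul, zpow_natCast, h5, one_zpow]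
    rfl⟩
  have hc : Nat.card (MulAction.fixedPoints (zpowers f) X) =
      Nat.card ↥(X ⊓ centralizer ({f} : Set E)) := by
    refine Nat.card_congr ⟨fun x => ⟨x.1.1, x.1.2, mem_centralizer_singleton_iff.mpr ?_⟩,
    fun x => ⟨⟨x.1, x.2.1⟩, fun g => ?_⟩, fun _ => rfl, fun _ => rfl⟩
    · have e : f * (x.1 : E) * f⁻¹ = x.1 := congrArg Subtype.val (x.2 ⟨f, mem_zpowers f⟩)
      exact (mul_inv_eq_iff_eq_mul.mp e).symm
    · obtain ⟨k, hk⟩ := mem_zpowers_iff.mp g.2
      refine Subtype.ext ?_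
      show (g : E) * x.1 * (g : E)⁻¹ = x.1
      rw [← hk, ((show Commute f x.1 from (mem_centralizer_singleton_iff.mp x.2.2).symm).zpow_left k).eq,
        mul_inv_cancel_right]
  exact hc ▸ hP.card_modEq_card_fixedPoints X

namespace Base

variable {G : Type u} [Group G] [Finite G] (h : Base G)

theorem coreNormal : (Cfsg.pCore 3 ↥h.C).Normal := Core.pCore_normal

/-- The quotient by the largest normal three-subgroup. -/
abbrev E : Type u := ↥h.C ⧸ Cfsg.pCore 3 ↥h.C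

/-- Its largest normal two-subgroup. -/
abbrev Rb : Subgroup h.E := Cfsg.pCore 2 h.E

theorem cardRb : Nat.card h.Rb = 32 := h.twoCard.trans (by norm_num)

theorem cardE : Nat.card h.E = 1920 := by
  obtain ⟨e⟩ := h.alt
  rw [card_eq_card_quotient_mul_card_subgroup h.Rb, h.cardRb, Nat.card_congr e.toEquiv,
    nat_card_alternatingGroup, Nat.card_fin]
  rfl

theorem cardC : Nat.card ↥h.C = 1920 * 3 ^ 5 := by
  rw [card_eq_card_quotient_mul_card_subgroup (Cfsg.pCore 3 ↥h.C), h.cardE]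
  congr 1
  have := h.D.card
  rw [← h.coreQ, card_map_of_injective h.C.subtype_injective] at this
  exact this

theorem cardS : Nat.card ↥(h.S : Subgroup G) = 3 ^ 6 := by
  haveI : Fact (Nat.Prime 3) := ⟨Nat.prime_three⟩
  have e := (h.S.subtype h.S_le).card_eq_multiplicity
  rw [Sylow.coe_subtype, Nat.card_congr (subgroupOfEquivOfLe h.S_le).toEquiv, h.cardC] at e
  rw [e]
  congr 1
  rw [show (1920 * 3 ^ 5 : ℕ) = 3 ^ 6 * 640 by norm_num, Nat.factorization_mul (by norm_num) (by norm_num),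
    Finsupp.add_apply, Nat.Prime.factorization_pow Nat.prime_three, Finsupp.single_eq_same,
    Nat.factorization_eq_zero_of_not_dvd (by norm_num)]

theorem act_Q {q : G} (hq : q ∈ h.D.Q) : h.D.Triv q := by
  have hn := h.le_nm (h.leQ hq)
  intro w
  obtain ⟨x, hx, rfl⟩ := h.D.cls_surj w
  rw [h.D.act_cls hn hx, h.D.cls_eq (h.D.conj_mem hn hx) hx]
  have e : (q * x * q⁻¹)⁻¹ * x = x⁻¹ * ⁅q, x⁆⁻¹ * x := by rw [commutatorElement_def]; group
  rw [e]
  have hm := inv_mem (h.D.comm_mem q hq x hx)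
  rwa [mul_assoc, h.D.commute_of_mem hm hx, inv_mul_cancel_left]

/-- The action of an element of `C`. -/
noncomputable def auto (g : ↥h.C) : MulAut h.D.W where
  toFun := h.D.act g
  invFun := h.D.act (g : G)⁻¹
  left_inv := h.D.act_inv_act (h.le_nm g.2)
  right_inv w := by
    rw [← h.D.act_mul (h.le_nm g.2) (inv_mem (h.le_nm g.2)), mul_inv_cancel, h.D.act_one]
  map_mul' := map_mul _

/-- The action of `C` on `Q / Z`. -/
noncomputable def autoHom : ↥h.C →* MulAut h.D.W :=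
  MonoidHom.mk' h.auto fun a b => MulEquiv.ext fun w => h.D.act_mul (h.le_nm a.2) (h.le_nm b.2) w

/-- The action of the quotient. -/
noncomputable def rho : h.E →* MulAut h.D.W :=
  QuotientGroup.lift (Cfsg.pCore 3 ↥h.C) h.autoHom fun g hg => MulEquiv.ext fun w =>
    h.act_Q ((h.mem_Q g.2).mpr hg) w

theorem rho_mk (g : ↥h.C) (w : h.D.W) : h.rho g w = h.D.act g w := rfl

theorem rho_isom (e : h.E) : Isom h.D (h.rho e).toMonoidHom := by
  obtain ⟨g, rfl⟩ := QuotientGroup.mk_surjective e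
  exact fun a b => h.D.form_act (h.le_nm g.2) (h.fix_z g.2) a b

theorem commute_iff_apply (a b : MulAut h.D.W) : Commute a b ↔ ∀ w, b (a w) = a (b w) :=
  ⟨fun e w => (DFunLike.congr_fun e.eq w).symm, fun e => MulEquiv.ext fun w => (e w).symm⟩

/-- An element of the Sylow subgroup outside `Q` moves `Q / Z`. -/
theorem not_triv {s : G} (hs : s ∈ (h.S : Subgroup G)) (hq : s ∉ h.D.Q) : ¬ h.D.Triv s := by
  intro ht
  have hsC := h.S_le hs
  have hn := h.le_nm hsC
  have hz := h.fix_z hsC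
  have hcm : ∀ x ∈ h.D.Q, ⁅s, x⁆ ∈ zpowers h.D.z := fun x hx => by
    have e := ht (h.D.cls x)
    rw [h.D.act_cls hn hx, eq_comm, h.D.cls_eq hx (h.D.conj_mem hn hx)] at e
    rw [commutatorElement_def, show s * x * s⁻¹ * x⁻¹ = x * (x⁻¹ * (s * x * s⁻¹)) * x⁻¹ by group,
      ← h.D.commute_of_mem e hx, mul_inv_cancel_right]
    exact e
  choose f hf using fun w => h.D.exists_zpow (hcm (h.D.rep w) (h.D.rep_mem w))
  have hfx : ∀ x ∈ h.D.Q, ⁅s, x⁆ = h.D.z ^ (f (h.D.cls x)).val := fun x hx => by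
    have hr := h.D.rep_mem (h.D.cls x)
    have e := (h.D.cls_eq hr hx).mp (h.D.cls_rep _)
    obtain ⟨k, hk⟩ := mem_zpowers_iff.mp e
    rw [← hf]
    calc ⁅s, x⁆ = ⁅s, h.D.rep (h.D.cls x) * ((h.D.rep (h.D.cls x))⁻¹ * x)⁆ := by rw [mul_inv_cancel_left]
      _ = ⁅s, h.D.rep (h.D.cls x)⁆ := by
        rw [commutatorElement_mul_right_eq_mul_conj, ← hk, commutatorElement_def s (h.D.z ^ k),
          ← conj_zpow, hz, mul_inv_cancel, mul_one, mul_inv_cancel_right]
  have hadd : ∀ a b, f (a * b) = f a + f b := fun a b => by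
    have ha := h.D.rep_mem a
    have hb := h.D.rep_mem b
    have e := hfx _ (mul_mem ha hb)
    rw [commutatorElement_mul_right_eq_mul_conj, h.D.cls_mul ha hb, h.D.cls_rep, h.D.cls_rep, hf, hf,
      mul_assoc, mul_assoc, h.D.commute_of_mem (npow_mem_zpowers _ _) (inv_mem ha),
      mul_inv_cancel_left, h.D.zpow_add'] at e
    exact (h.D.zpow_inj e).symm
  obtain ⟨b⟩ := exists_sbasis h.D h.centerQ
  obtain ⟨a, ha⟩ := b.exists_form_eq f hadd
  have hqa := h.D.rep_mem a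
  obtain ⟨c, hc⟩ : ∃ c, c = (h.D.rep a)⁻¹ * s := ⟨_, rfl⟩
  have hcS : c ∈ (h.S : Subgroup G) := hc ▸ mul_mem (inv_mem (h.Q_le_S hqa)) hs
  have hcQ : c ∉ h.D.Q := fun e => hq (by
    have := mul_mem hqa e
    rwa [hc, mul_inv_cancel_left] at this)
  have hcc : ∀ x ∈ h.D.Q, Commute x c := fun x hx => by
    have e : ⁅s, x⁆ = ⁅h.D.rep a, x⁆ := by
      rw [hfx x hx, h.D.br_spec hqa hx, ← h.D.form_cls hqa hx, h.D.cls_rep, ha]
    rw [commutatorElement_def, commutatorElement_def, mul_left_inj] at e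
    show x * c = c * x
    rw [hc]
    calc x * ((h.D.rep a)⁻¹ * s) = (h.D.rep a)⁻¹ * (h.D.rep a * x * (h.D.rep a)⁻¹) * s := by group
      _ = (h.D.rep a)⁻¹ * (s * x * s⁻¹) * s := by rw [e]
      _ = (h.D.rep a)⁻¹ * s * x := by group
  haveI : Fact (Nat.Prime 3) := ⟨Nat.prime_three⟩
  have hle : h.D.Q ≤ (h.S : Subgroup G) ⊓ centralizer ({c} : Set G) := fun x hx =>
    ⟨h.Q_le_S hx, mem_centralizer_singleton_iff.mpr (hcc x hx).eq⟩
  have hlt : h.D.Q < (h.S : Subgroup G) ⊓ centralizer ({c} : Set G) :=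
    lt_of_le_of_ne hle fun e => hcQ (e ▸ ⟨hcS, mem_centralizer_singleton_iff.mpr rfl⟩)
  have hcard : Nat.card ↥((h.S : Subgroup G) ⊓ centralizer ({c} : Set G)) = 3 ^ 6 := by
    have hd := card_dvd_of_le (inf_le_left : (h.S : Subgroup G) ⊓ centralizer ({c} : Set G) ≤ _)
    rw [h.cardS] at hd
    obtain ⟨k, hk6, hk⟩ := (Nat.dvd_prime_pow Nat.prime_three).mp hd
    rcases lt_or_eq_of_le hk6 with hk' | rfl
    · refine absurd (eq_of_le_of_card_ge hle ?_) hlt.ne
      rw [hk, h.D.card]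
      exact Nat.pow_le_pow_right (by norm_num) (Nat.le_of_lt_succ hk')
    · exact hk
  have htop := eq_of_le_of_card_ge inf_le_left (le_of_eq (h.cardS.trans hcard.symm))
  have hcz : c ∈ zpowers h.D.z := h.centerS ▸ ⟨hcS, mem_centralizer_iff.mpr fun x hx => by
    rw [← htop] at hx
    exact mem_centralizer_singleton_iff.mp hx.2⟩
  exact hcQ (zpowers_le.mpr h.D.z_mem hcz)

theorem ker_le_Rb : h.rho.ker ≤ h.Rb := by
  haveI : Fact (Nat.Prime 3) := ⟨Nat.prime_three⟩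
  obtain ⟨α⟩ := h.alt
  have hs : Function.Surjective (α.toMonoidHom.comp (QuotientGroup.mk' h.Rb)) :=
    α.surjective.comp (QuotientGroup.mk'_surjective _)
  haveI := Normal.map (H := h.rho.ker) inferInstance _ hs
  intro e he
  rcases (alternatingGroup.isSimpleGroup (α := Fin 5) (by simp)).eq_bot_or_eq_top_of_normal
    (h.rho.ker.map (α.toMonoidHom.comp (QuotientGroup.mk' h.Rb))) inferInstance with hb | ht
  · have hm : α.toMonoidHom.comp (QuotientGroup.mk' h.Rb) e ∈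
        h.rho.ker.map (α.toMonoidHom.comp (QuotientGroup.mk' h.Rb)) := mem_map_of_mem _ he
    rw [hb, mem_bot] at hm
    exact (QuotientGroup.eq_one_iff e).mp (α.map_eq_one_iff.mp hm)
  exfalso
  have h3 : 3 ∣ Nat.card h.rho.ker := by
    refine dvd_trans ?_ (card_map_dvd (H := h.rho.ker) (α.toMonoidHom.comp (QuotientGroup.mk' h.Rb)))
    rw [ht, card_top, nat_card_alternatingGroup, Nat.card_fin]
    decide
  obtain ⟨⟨x, hx⟩, hxo⟩ := exists_prime_orderOf_dvd_card' 3 h3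
  obtain ⟨g, rfl⟩ := QuotientGroup.mk_surjective x
  rw [← Subgroup.orderOf_coe] at hxo
  change orderOf (g : h.E) = 3 at hxo
  have hg3 : g ^ 3 ∈ Cfsg.pCore 3 ↥h.C := by
    haveI := Core.pCore_normal (p := 3) (G := ↥h.C)
    have e : ((g ^ 3 : ↥h.C) : h.E) = 1 :=
      (QuotientGroup.mk_pow (Cfsg.pCore 3 ↥h.C) g 3).trans (orderOf_dvd_iff_pow_eq_one.mp hxo.dvd)
    exact (QuotientGroup.eq_one_iff (g ^ 3 : ↥h.C)).mp e
  obtain ⟨k, hk⟩ := Core.pCore_isPGroup (p := 3) (G := ↥h.C) ⟨g ^ 3, hg3⟩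
  have hg : IsPGroup 3 (zpowers g) := fun y => ⟨k + 1, by
    obtain ⟨j, hj⟩ := mem_zpowers_iff.mp y.2
    refine Subtype.ext ?_
    have e : g ^ 3 ^ (k + 1) = 1 := by
      rw [pow_succ', pow_mul]
      exact congrArg Subtype.val hk
    rw [coe_pow, ← hj, ← zpow_natCast, ← zpow_mul, mul_comm, zpow_mul, zpow_natCast, e, one_zpow]
    rfl⟩
  obtain ⟨P, hP⟩ := hg.exists_le_sylow
  obtain ⟨a, ha⟩ := MulAction.exists_smul_eq ↥h.C P (h.S.subtype h.S_le)
  have hs' : a * g * a⁻¹ ∈ (h.S.subtype h.S_le : Subgroup ↥h.C) := by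
    rw [← ha]
    exact ⟨g, hP (mem_zpowers g), rfl⟩
  rw [Sylow.coe_subtype, mem_subgroupOf] at hs'
  refine h.not_triv hs' (fun e => ?_) fun w => ?_
  · rw [h.mem_Q (a * g * a⁻¹).2] at e
    have e' := Core.pCore_normal.conj_mem _ e a⁻¹
    rw [inv_inv, show a⁻¹ * ⟨_, (a * g * a⁻¹).2⟩ * a = g by rw [Subtype.coe_eta]; group] at e'
    rw [(QuotientGroup.eq_one_iff _).mpr e', orderOf_one] at hxo
    norm_num at hxo
  · rw [← h.rho_mk (a * g * a⁻¹), QuotientGroup.mk_mul, QuotientGroup.mk_mul, map_mul, map_mul,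
      MonoidHom.mem_ker.mp hx, mul_one, ← map_mul, ← QuotientGroup.mk_mul, mul_inv_cancel]
    exact DFunLike.congr_fun (map_one h.rho) w

/-- Inversion as an automorphism. -/
noncomputable def neg : MulAut h.D.W := MulEquiv.inv h.D.W

theorem neg_apply (w : h.D.W) : h.neg w = w⁻¹ := rfl

theorem neg_comm (a : MulAut h.D.W) : Commute a h.neg :=
  (h.commute_iff_apply _ _).mpr fun w => (map_inv a w).symm

theorem conj_eq {a b : MulAut h.D.W} (hab : Commute a b) : a * b * a⁻¹ = b := by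
  rw [hab.eq, mul_inv_cancel_right]

/-- The four possibilities for an involution commuting with a non-scalar one. -/
theorem sign {φ ψ : MulAut h.D.W} (hφ : Isom h.D φ.toMonoidHom) (hψ : Isom h.D ψ.toMonoidHom)
    (h2 : φ * φ = 1) (k2 : ψ * ψ = 1) (hc : Commute φ ψ) (h1 : φ ≠ 1) (hm : φ ≠ h.neg) :
    ψ = 1 ∨ ψ = h.neg ∨ ψ = φ ∨ ψ = h.neg * φ := by
  obtain ⟨w1, hw1⟩ : ∃ w, φ w ≠ w := by
    by_contra e; push Not at e; exact h1 (MulEquiv.ext e)
  obtain ⟨w2, hw2⟩ : ∃ w, φ w ≠ w⁻¹ := by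
    by_contra e; push Not at e; exact hm (MulEquiv.ext e)
  exact (sign_of_commute h.centerQ hφ hψ (DFunLike.congr_fun h2) (DFunLike.congr_fun k2)
    ((h.commute_iff_apply _ _).mp hc) ⟨w1, hw1⟩ ⟨w2, hw2⟩).imp MulEquiv.ext
      (Or.imp MulEquiv.ext (Or.imp MulEquiv.ext MulEquiv.ext))

/-- An isometry of order five commuting with a non-scalar involution is trivial. -/
theorem five {φ ψ : MulAut h.D.W} (hφ : Isom h.D φ.toMonoidHom) (hψ : Isom h.D ψ.toMonoidHom)
    (h2 : φ * φ = 1) (h1 : φ ≠ 1) (hm : φ ≠ h.neg) (hc : Commute φ ψ) (h5 : ψ ^ 5 = 1) : ψ = 1 := by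
  obtain ⟨w1, hw1⟩ : ∃ w, φ w ≠ w := by
    by_contra e; push Not at e; exact h1 (MulEquiv.ext e)
  obtain ⟨w2, hw2⟩ : ∃ w, φ w ≠ w⁻¹ := by
    by_contra e; push Not at e; exact hm (MulEquiv.ext e)
  refine MulEquiv.ext (trivial_of_five h.centerQ hφ hψ (DFunLike.congr_fun h2) ⟨w1, hw1⟩ ⟨w2, hw2⟩
    ((h.commute_iff_apply _ _).mp hc) fun w => ?_)
  exact DFunLike.congr_fun h5 w

theorem exists_c : ∃ c ∈ h.Rb, orderOf c = 2 ∧ (∀ e, Commute e c) ∧
    (∀ x ∈ h.Rb, (∀ y ∈ h.Rb, Commute x y) → x ∈ zpowers c) ∧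
    (∀ x ∈ h.Rb, x * x ∈ zpowers c) ∧ (∀ x ∈ h.Rb, ∀ y ∈ h.Rb, ⁅x, y⁆ ∈ zpowers c) := by
  haveI : Fact (Nat.Prime 2) := ⟨Nat.prime_two⟩
  obtain ⟨a, ha1, -⟩ := Nat.card_eq_two_iff' (1 : ↥(center ↥h.Rb)) |>.mp h.two.2
  have hne : (a : ↥h.Rb) ≠ 1 := fun e => ha1 (Subtype.ext e)
  have hz := Fusion.es_center_zpowers h.two a.2 hne
  have hmem : ∀ x : ↥h.Rb, x ∈ center ↥h.Rb → (x : h.E) ∈ zpowers (((a : ↥h.Rb)) : h.E) := fun x hx => by
    rw [← hz] at hx
    obtain ⟨k, rfl⟩ := mem_zpowers_iff.mp hx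
    rw [coe_zpow]
    exact zpow_mem (mem_zpowers _) k
  have h2 : (((a : ↥h.Rb)) : h.E) ^ 2 = 1 := congrArg Subtype.val (Fusion.es_center_pow h.two a.2)
  have hne' : (((a : ↥h.Rb)) : h.E) ≠ 1 := fun e => hne (Subtype.ext e)
  refine ⟨_, (a : ↥h.Rb).2, orderOf_eq_prime h2 hne', fun e => ?_,
    fun x hx hc => hmem ⟨x, hx⟩ (mem_center_iff.mpr fun y => Subtype.ext (hc y y.2).eq.symm),
    fun x hx => ?_, fun x hx y hy => hmem ⁅(⟨x, hx⟩ : ↥h.Rb), ⟨y, hy⟩⁆ (Fusion.es_commutator_mem h.two _ _)⟩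
  · haveI : h.Rb.Normal := Core.pCore_normal
    have hm : MulAut.conjNormal e (a : ↥h.Rb) ∈ center ↥h.Rb := mem_center_iff.mpr fun y => by
      obtain ⟨y', rfl⟩ := (MulAut.conjNormal e : MulAut ↥h.Rb).surjective y
      rw [← map_mul, ← map_mul, mem_center_iff.mp a.2 y']
    replace hm : (MulAut.conjNormal e (a : ↥h.Rb) : ↥h.Rb) ∈ zpowers (a : ↥h.Rb) := by rw [hz]; exact hm
    have h3 : (MulAut.conjNormal e (a : ↥h.Rb) : ↥h.Rb) = a := by
      obtain ⟨k, hk⟩ := mem_zpowers_iff.mp hm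
      have h2' : (a : ↥h.Rb) ^ (2 : ℤ) = 1 := by
        exact_mod_cast Fusion.es_center_pow h.two a.2
      rcases Int.even_or_odd' k with ⟨j, rfl | rfl⟩
      · rw [zpow_mul, h2', one_zpow, eq_comm, MulEquiv.map_eq_one_iff] at hk
        exact absurd hk hne
      · rw [zpow_add, zpow_mul, h2', one_zpow, one_mul, zpow_one] at hk
        exact hk.symm
    exact mul_inv_eq_iff_eq_mul.mp (congrArg Subtype.val h3)
  · rw [← pow_two]
    exact hmem (⟨x, hx⟩ ^ 2) (Fusion.es_pow_mem_center h.two _)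

theorem exists_five : ∃ f : h.E, f ^ 5 = 1 ∧ f ∉ h.Rb := by
  haveI : Fact (Nat.Prime 5) := ⟨by norm_num⟩
  haveI : Fact (Nat.Prime 2) := ⟨Nat.prime_two⟩
  obtain ⟨f, hf⟩ := exists_prime_orderOf_dvd_card' (G := h.E) 5 (by rw [h.cardE]; norm_num)
  refine ⟨f, hf ▸ pow_orderOf_eq_one f, fun hm => ?_⟩
  have hd := orderOf_dvd_natCard (⟨f, hm⟩ : ↥h.Rb)
  rw [Subgroup.orderOf_mk, hf, h.cardRb] at hd
  norm_num at hd

theorem rho_sq_of_mem {c : h.E} (hc : h.rho c = 1) {x : h.E} (hx : x * x ∈ zpowers c) :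
    h.rho x * h.rho x = 1 := by
  obtain ⟨k, hk⟩ := mem_zpowers_iff.mp hx
  rw [← map_mul, ← hk, map_zpow, hc, one_zpow]

/-- If the centre of `O₂` acts trivially then `O₂` acts as scalars. -/
theorem scalar_of_trivial {c : h.E} (hsq : ∀ x ∈ h.Rb, x * x ∈ zpowers c)
    (hcm : ∀ x ∈ h.Rb, ∀ y ∈ h.Rb, ⁅x, y⁆ ∈ zpowers c) (hc : h.rho c = 1) {r : h.E} (hr : r ∈ h.Rb) :
    h.rho r = 1 ∨ h.rho r = h.neg := by
  by_contra hne
  push Not at hne
  haveI : h.Rb.Normal := Core.pCore_normal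
  obtain ⟨f, hf5, hf⟩ := h.exists_five
  have hr' : f * r * f⁻¹ ∈ h.Rb := Normal.conj_mem inferInstance r hr f
  have hcomm : Commute (h.rho r) (h.rho (f * r * f⁻¹)) := by
    obtain ⟨k, hk⟩ := mem_zpowers_iff.mp (hcm r hr _ hr')
    rw [← commutatorElement_eq_one_iff_commute, ← map_commutatorElement, ← hk, map_zpow, hc, one_zpow]
  have key := h.sign (h.rho_isom r) (h.rho_isom _) (h.rho_sq_of_mem hc (hsq r hr))
    (h.rho_sq_of_mem hc (hsq _ hr')) hcomm hne.1 hne.2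
  rw [map_mul, map_mul, map_inv] at key
  set φ := h.rho r
  set F := h.rho f
  have hF : F * φ * F⁻¹ = φ ∨ F * φ * F⁻¹ = h.neg * φ := by
    rcases key with e | e | e | e
    · exact absurd (conj_eq_one_iff.mp e) hne.1
    · exact absurd (mul_left_cancel (mul_right_cancel (e.trans (h.conj_eq (h.neg_comm F)).symm))) hne.2
    · exact Or.inl e
    · exact Or.inr e
  have h2 : F * F * φ * (F * F)⁻¹ = φ := by
    have nn : h.neg * h.neg = 1 := MulEquiv.ext fun w => inv_inv w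
    rw [show F * F * φ * (F * F)⁻¹ = F * (F * φ * F⁻¹) * F⁻¹ by group]
    rcases hF with e | e <;> rw [e]
    · exact e
    · rw [show F * (h.neg * φ) * F⁻¹ = F * h.neg * F⁻¹ * (F * φ * F⁻¹) by group,
        h.conj_eq (h.neg_comm F), e, ← mul_assoc, nn, one_mul]
  have hFF : F * F = 1 := by
    refine h.five (h.rho_isom r) (ψ := F * F) ?_ (h.rho_sq_of_mem hc (hsq r hr)) hne.1 hne.2
      (mul_inv_eq_iff_eq_mul.mp h2).symm ?_
    · have := h.rho_isom (f * f)
      rwa [map_mul] at this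
    · rw [← map_mul, ← map_pow, ← pow_two, ← pow_mul, mul_comm, pow_mul, hf5, one_pow, map_one]
  refine hf ?_
  have hm : f * f ∈ h.Rb := h.ker_le_Rb (MonoidHom.mem_ker.mpr (by rw [map_mul]; exact hFF))
  have := pow_mem hm 3
  rwa [← pow_two, ← pow_mul, show 2 * 3 = 5 + 1 by norm_num, pow_succ, hf5, one_mul] at this

theorem alt_no : ∀ x : alternatingGroup (Fin 5), (∀ y, x * y = y * x) → x = 1 := by decide +kernel

theorem alt_four : ∃ a b : alternatingGroup (Fin 5), a * a = 1 ∧ b * b = 1 ∧ a * b = b * a ∧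
    a ≠ 1 ∧ b ≠ 1 ∧ a * b ≠ 1 := by decide +kernel

/-- The centre of `O₂` acts non-trivially. -/
theorem c_moves {c : h.E} (hcR : c ∈ h.Rb) (hc1 : c ≠ 1) (hcc : ∀ e, Commute e c)
    (hz : ∀ x ∈ h.Rb, (∀ y ∈ h.Rb, Commute x y) → x ∈ zpowers c)
    (hsq : ∀ x ∈ h.Rb, x * x ∈ zpowers c) (hcm : ∀ x ∈ h.Rb, ∀ y ∈ h.Rb, ⁅x, y⁆ ∈ zpowers c) :
    h.rho c ≠ 1 := by
  intro hc
  haveI : h.Rb.Normal := Core.pCore_normal
  haveI : Fact (Nat.Prime 2) := ⟨Nat.prime_two⟩
  have hscal := fun r hr => h.scalar_of_trivial hsq hcm hc (r := r) hr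
  obtain ⟨α⟩ := h.alt
  set π := α.toMonoidHom.comp (QuotientGroup.mk' h.Rb)
  have hπ : Function.Surjective π := α.surjective.comp (QuotientGroup.mk'_surjective _)
  have hker : ∀ e, π e = 1 ↔ e ∈ h.Rb := fun e => by
    rw [← QuotientGroup.eq_one_iff (N := h.Rb), ← map_one α]
    exact α.injective.eq_iff
  obtain ⟨N, hNm, hNs, hNk⟩ : ∃ N : Subgroup h.E, N.Normal ∧ (∀ a, ∃ n ∈ N, π n = a) ∧
      ∀ n ∈ N, n ∈ h.Rb → h.rho n = 1 := by
    by_cases hall : ∀ r ∈ h.Rb, h.rho r = 1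
    · exact ⟨⊤, inferInstance, fun a => (hπ a).imp fun n e => ⟨mem_top n, e⟩, fun n _ hn => hall n hn⟩
    push Not at hall
    obtain ⟨r, hr, hr1⟩ := hall
    have hrn : h.rho r = h.neg := (hscal r hr).resolve_left hr1
    obtain ⟨f, hf5, hf⟩ := h.exists_five
    let Kf : Subgroup h.E := h.rho.ker
    have hKR : Kf ≤ h.Rb := h.ker_le_Rb
    have hidx : Nat.card h.Rb ≤ 2 * Nat.card Kf := by
      have hsurj : Function.Surjective fun p : Bool × ↥Kf =>
          (⟨(if p.1 then r else 1) * p.2, mul_mem (by split_ifs <;> first | exact hr | exact one_mem _)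
            (hKR p.2.2)⟩ : ↥h.Rb) := by
        intro x
        rcases hscal x x.2 with e | e
        · exact ⟨(false, ⟨x, MonoidHom.mem_ker.mpr e⟩), Subtype.ext (one_mul _)⟩
        · exact ⟨(true, ⟨r⁻¹ * x, MonoidHom.mem_ker.mpr (by rw [map_mul, map_inv, hrn, e, inv_mul_cancel])⟩),
            Subtype.ext (mul_inv_cancel_left r x)⟩
      have := Nat.card_le_card_of_surjective _ hsurj
      rwa [Nat.card_prod, Nat.card_eq_fintype_card (α := Bool), Fintype.card_bool] at this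
    have hlt : Nat.card Kf < 32 := by
      have hd := card_dvd_of_le hKR
      refine lt_of_le_of_ne (h.cardRb ▸ Nat.le_of_dvd Nat.card_pos hd) fun e => hr1 ?_
      have := eq_of_le_of_card_ge hKR (by rw [h.cardRb, e])
      exact MonoidHom.mem_ker.mp (this.symm ▸ hr : r ∈ Kf)
    have hK16 : Nat.card Kf = 16 := by
      have hd := card_dvd_of_le hKR
      rw [h.cardRb] at hd hidx
      rw [show (32 : ℕ) = 2 ^ 5 by norm_num] at hd
      obtain ⟨k, hk, e⟩ := (Nat.dvd_prime_pow Nat.prime_two).mp hd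
      rw [e] at hlt hidx ⊢
      interval_cases k <;> simp_all
    have hfix : ∀ (X : Subgroup h.E) [X.Normal], X ≤ h.Rb → ∀ a : ℕ, a ≤ Nat.card ↥(X ⊓ centralizer ({f} : Set h.E)) →
        (∀ d, d ∣ Nat.card X → a ≤ d → Nat.card X % 5 = d % 5 → d = Nat.card X) →
        X ≤ centralizer ({f} : Set h.E) := fun X _ _ a ha hd => by
      have := hd _ (card_dvd_of_le inf_le_left) ha (fixed_mod_five hf5 X)
      exact (eq_of_le_of_card_ge inf_le_left this.ge).symm.le.trans inf_le_right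
    have hcK : c ∈ Kf ⊓ centralizer ({f} : Set h.E) :=
      ⟨MonoidHom.mem_ker.mpr hc, mem_centralizer_singleton_iff.mpr (hcc f).eq.symm⟩
    have hKf : Kf ≤ centralizer ({f} : Set h.E) := hfix Kf hKR 2 (by
      have : Nontrivial ↥(Kf ⊓ centralizer ({f} : Set h.E)) :=
        ⟨⟨⟨c, hcK⟩, 1, fun e => hc1 (congrArg Subtype.val e)⟩⟩
      exact Finite.one_lt_card) (by
      rw [hK16, show (16 : ℕ) = 2 ^ 4 by norm_num]
      intro d hd
      obtain ⟨k, hk, rfl⟩ := (Nat.dvd_prime_pow Nat.prime_two).mp hd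
      interval_cases k <;> simp)
    have hR : h.Rb ≤ centralizer ({f} : Set h.E) := hfix h.Rb le_rfl 16 (hK16 ▸
      Subgroup.card_le_of_le (fun x hx => ⟨hKR hx, hKf hx⟩)) (by
      rw [h.cardRb, show (32 : ℕ) = 2 ^ 5 by norm_num]
      intro d hd
      obtain ⟨k, hk, rfl⟩ := (Nat.dvd_prime_pow Nat.prime_two).mp hd
      interval_cases k <;> simp)
    refine ⟨centralizer (h.Rb : Set h.E), inferInstance, fun a => ?_, fun n hn hnR => ?_⟩
    · haveI := Normal.map (H := centralizer (h.Rb : Set h.E)) inferInstance π hπ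
      rcases (alternatingGroup.isSimpleGroup (α := Fin 5) (by simp)).eq_bot_or_eq_top_of_normal
        ((centralizer (h.Rb : Set h.E)).map π) inferInstance with hb | ht
      · refine absurd ((hker f).mp (mem_bot.mp (hb ▸ mem_map_of_mem π ?_))) hf
        exact mem_centralizer_iff.mpr fun x hx => mem_centralizer_singleton_iff.mp (hR hx)
      · exact mem_map.mp (ht ▸ mem_top a)
    · obtain ⟨k, hk⟩ := mem_zpowers_iff.mp (hz n hnR fun y hy => (mem_centralizer_iff.mp hn y hy).symm)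
      rw [← hk, map_zpow, hc, one_zpow]
  haveI := hNm
  obtain ⟨a, b, ha, hb, hab, ha1, hb1, hab1⟩ := alt_four
  obtain ⟨g, hg, rfl⟩ := hNs a
  obtain ⟨k, hk, rfl⟩ := hNs b
  have htriv : ∀ n ∈ N, π n = 1 → h.rho n = 1 := fun n hn e => hNk n hn ((hker n).mp e)
  have hns : ∀ n ∈ N, (h.rho n = 1 ∨ h.rho n = h.neg) → π n = 1 := fun n hn e => by
    refine alt_no _ fun y => ?_
    obtain ⟨m, hm, rfl⟩ := hNs y
    rw [← commutatorElement_eq_one_iff_mul_comm, ← map_commutatorElement, hker]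
    refine h.ker_le_Rb (MonoidHom.mem_ker.mpr ?_)
    rw [map_commutatorElement, commutatorElement_eq_one_iff_commute]
    rcases e with e | e <;> rw [e]
    exacts [Commute.one_left _, (h.neg_comm _).symm]
  have hsq' : ∀ n ∈ N, π n * π n = 1 → h.rho n * h.rho n = 1 := fun n hn e => by
    rw [← map_mul]; exact htriv _ (mul_mem hn hn) (by rw [map_mul]; exact e)
  have hcomm : Commute (h.rho g) (h.rho k) := by
    rw [← commutatorElement_eq_one_iff_commute, ← map_commutatorElement]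
    refine htriv _ ?_ (by rw [map_commutatorElement, commutatorElement_eq_one_iff_mul_comm]; exact hab)
    rw [commutatorElement_def]
    exact mul_mem (mul_mem (mul_mem hg hk) (inv_mem hg)) (inv_mem hk)
  rcases h.sign (h.rho_isom g) (h.rho_isom k) (hsq' g hg ha) (hsq' k hk hb) hcomm
      (fun e => ha1 (hns g hg (Or.inl e))) (fun e => ha1 (hns g hg (Or.inr e))) with e | e | e | e
  · exact hb1 (hns k hk (Or.inl e))
  · exact hb1 (hns k hk (Or.inr e))
  · refine hab1 ((map_mul π g k).symm.trans (hns _ (mul_mem hg hk) (Or.inl ?_)))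
    rw [map_mul, e]; exact hsq' g hg ha
  · refine hab1 ((map_mul π g k).symm.trans (hns _ (mul_mem hg hk) (Or.inr ?_)))
    rw [map_mul, e, ← mul_assoc, (h.neg_comm (h.rho g)).eq, mul_assoc, hsq' g hg ha, mul_one]

/-- **Faithful action.** -/
theorem rho_injective : Function.Injective h.rho := by
  rw [injective_iff_map_eq_one]
  intro k hk
  by_contra hk1
  obtain ⟨c, hcR, hco, hcc, hz, hsq, hcm⟩ := h.exists_c
  have hc1 : c ≠ 1 := by intro e; rw [e, orderOf_one] at hco; norm_num at hco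
  refine h.c_moves hcR hc1 hcc hz hsq hcm ?_
  have hkR := h.ker_le_Rb (MonoidHom.mem_ker.mpr hk)
  have hone : ∀ x, x ∈ zpowers c → x ≠ 1 → x = c := fun x hx hx1 => by
    obtain ⟨j, rfl⟩ := mem_zpowers_iff.mp hx
    have h2 : c ^ (2 : ℤ) = 1 := by
      exact_mod_cast (hco ▸ pow_orderOf_eq_one c : c ^ 2 = 1)
    rcases Int.even_or_odd' j with ⟨i, rfl | rfl⟩
    · rw [zpow_mul, h2, one_zpow] at hx1; exact absurd rfl hx1
    · rw [zpow_add, zpow_mul, h2, one_zpow, one_mul, zpow_one]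
  by_cases hall : ∀ y ∈ h.Rb, Commute k y
  · rw [← hone k (hz k hkR hall) hk1]; exact hk
  push Not at hall
  obtain ⟨y, hy, hky⟩ := hall
  rw [← hone _ (hcm k hkR y hy) fun e => hky (commutatorElement_eq_one_iff_commute.mp e),
    map_commutatorElement, hk, commutatorElement_one_left]

/-- The central involution inverts `Q / Z`. -/
theorem rho_c : ∃ c ∈ h.Rb, orderOf c = 2 ∧ (∀ e, Commute e c) ∧ h.rho c = h.neg ∧
    (∀ x ∈ h.Rb, (∀ y ∈ h.Rb, Commute x y) → x ∈ zpowers c) ∧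
    (∀ x ∈ h.Rb, x * x ∈ zpowers c) ∧ (∀ x ∈ h.Rb, ∀ y ∈ h.Rb, ⁅x, y⁆ ∈ zpowers c) := by
  obtain ⟨c, hcR, hco, hcc, hz, hsq, hcm⟩ := h.exists_c
  refine ⟨c, hcR, hco, hcc, ?_, hz, hsq, hcm⟩
  by_contra hne
  have hc1 : c ≠ 1 := by intro e; rw [e, orderOf_one] at hco; norm_num at hco
  obtain ⟨f, hf5, hf⟩ := h.exists_five
  have h2 : h.rho c * h.rho c = 1 := by
    rw [← map_mul, ← pow_two, ← hco, pow_orderOf_eq_one, map_one]
  have h1 : h.rho c ≠ 1 := fun e => hc1 (h.rho_injective (e.trans (map_one _).symm))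
  have := h.five (h.rho_isom c) (h.rho_isom f) h2 h1 hne ((hcc f).symm.map h.rho)
    (by rw [← map_pow, hf5, map_one])
  exact hf (by rw [h.rho_injective (this.trans (map_one _).symm)]; exact one_mem _)

end Base

end Cfsg.Agent.CoTwoThree
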