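import Cfsg.Agent.CoTwoThree.A.Frame
import Mathlib.GroupTheory.SpecificGroups.Quaternion

/-!
The local stage: finite checks on the centraliser of the involution `(0, 0, u0)` in the model.
-/

set_option autoImplicit false
set_option maxRecDepth 100000
set_option synthInstance.maxSize 4000

namespace Cfsg.Agent.CoTwoThree

open Cfsg.Agent.McLLoc

/-- The unit matrix of size two. -/
def i2 : M2 := ((1, 0), (0, 1))

/-- A generator of order four of the quaternion group. -/
def qa : M4 := decM 1 3 72 45

/-- The second generator. -/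
def qx : M4 := decM 1 3 45 36

/-- The powers of the first generator. -/
def qpw (i : ZMod (2 * 2)) : M4 :=
  if i = 0 then m1 else if i = 1 then qa else if i = 2 then mcomp qa qa else mcomp qa (mcomp qa qa)

/-- The quaternion group as matrices. -/
def qM : QuaternionGroup 2 → M4
  | .a i => qpw i
  | .xa i => mcomp qx (qpw i)

theorem qM_mul : ∀ x y : QuaternionGroup 2, mcomp (qM x) (qM y) = qM (x * y) := by decide +kernel

theorem qM_one : qM 1 = m1 := by decide +kernel

theorem qM_inj : ∀ x y : QuaternionGroup 2, qM x = qM y → x = y := by decide +kernel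

theorem qM_q8 : ∀ x : QuaternionGroup 2, (q8.any fun r => qM x == dg2 i2 r) = true := by decide +kernel

theorem q8_qM : (q8.all fun r => decide (∃ x : QuaternionGroup 2, dg2 i2 r = qM x)) = true := by decide +kernel

theorem qM_u0 : qM (.a 2) = u0 := by decide +kernel

theorem u0_hl : hl.contains u0 = true := by decide +kernel

theorem sl24_nodup : sl24.Nodup ∧ sl24.length = 24 := by decide +kernel

theorem q8_nodup : q8.Nodup ∧ q8.length = 8 := by decide +kernel

theorem dg_hl : (sl24.all fun A => hl.contains (dg2 A A)) = true := by decide +kernel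

theorem dg_q8_hl : (q8.all fun r => hl.contains (dg2 i2 r)) = true := by decide +kernel

/-- The first block of a matrix. -/
def blockA (M : M4) : M2 := ((M.1.1, M.1.2.1), (M.2.1.1, M.2.1.2.1))

theorem cent_u0 : (hl.all fun M => decide (mcomp M u0 = mcomp u0 M →
    (sl24.contains (blockA M) && q8.any fun r => M == mcomp (dg2 (blockA M) (blockA M)) (dg2 i2 r)) = true))
    = true := by decide +kernel

theorem q8_norm : (sl24.all fun A => q8.all fun r =>
    q8.any fun r' => mcomp (dg2 A A) (dg2 i2 r) == mcomp (dg2 i2 r') (dg2 A A)) = true := by decide +kernel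

theorem q8_norm' : (q8.all fun s => q8.all fun r =>
    q8.any fun r' => mcomp (dg2 i2 s) (dg2 i2 r) == mcomp (dg2 i2 r') (dg2 i2 s)) = true := by decide +kernel

theorem blockA_dg : ∀ A : M2, blockA (dg2 A A) = A := by decide +kernel

theorem dg_plane : ∀ (A : M2) (a b : ZMod 3),
    lin (dg2 A A) (a, b, 0, 0) = (a * A.1.1 + b * A.2.1, a * A.1.2 + b * A.2.2, 0, 0) := by decide +kernel

theorem dg_q_plane : ∀ (r : M2) (a b : ZMod 3), lin (dg2 i2 r) (a, b, 0, 0) = (a, b, 0, 0) := by decide +kernel

theorem row_two : ∀ a : ZMod 3 × ZMod 3, a ≠ (0, 0) → (sl24.any fun A => A.2 == a) = true := by decide +kernel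

theorem u0_fixes : ∀ v : V4, lin u0 v = v → v = (v.1, v.2.1, 0, 0) := by decide +kernel

theorem u0_plane : ∀ a b : ZMod 3, lin u0 (a, b, 0, 0) = (a, b, 0, 0) := by decide +kernel

theorem swap_jel : ∀ a b : Fin 6, emul (0, 0, u0) (jel (jv a b))
    = emul (jel (jv (Equiv.swap 4 5 a) (Equiv.swap 4 5 b))) (0, 0, u0) := by decide +kernel

theorem u0_sq : mcomp u0 u0 = m1 ∧ u0 ≠ m1 := by decide +kernel

theorem sl24_det : (sl24.all fun A => A.1.1 * A.2.2 - A.1.2 * A.2.1 == 1) = true := by decide +kernel

theorem V4_units : ∀ M : M4, lin M (1, 0, 0, 0) = M.1 ∧ lin M (0, 1, 0, 0) = M.2.1 :=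
  fun M => ⟨(lin_unit M).1, (lin_unit M).2.1⟩

end Cfsg.Agent.CoTwoThree
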