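import Cfsg.Agent.CoTwoThree.A.Fusion
import Cfsg.Agent.CoTwoThree.A.ModelT
import Cfsg.Agent.LargeExtra.SingularSubgroup
import Cfsg.Agent.Coprime.Elementary
import Cfsg.Agent.Core.Solvable

/-!
The local stage: the fields of `Local` other than `quotA`.
-/

set_option autoImplicit false
set_option maxRecDepth 100000
set_option synthInstance.maxSize 4000

open Subgroup
open scoped commutatorElement

namespace Cfsg.Agent.CoTwoThree

open Cfsg.Agent.McLLoc

universe u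

theorem z3cases : ∀ a : ZMod 3, a = 0 ∨ a = 1 ∨ a = 2 := by decide

namespace Emb

variable {G : Type u} [Group G] [Finite G] {h : Base G} (F : Emb h)

/-- The root elements. -/
noncomputable def root (a b : Fin 6) : G := F.je (jv a b)

/-- The involution. -/
noncomputable def inv0 : G := F.el (0, 0, u0)

theorem je_sm (a : ZMod 3) (p : V4) : F.je (V4.sm a p) = F.je p ^ a.val := by
  have h0 : V4.sm 0 p = 0 := by ext <;> simp [V4.sm]
  have h1 : V4.sm 1 p = p := by ext <;> simp [V4.sm]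
  have h2 : V4.sm 2 p = p + p := by ext <;> simp [V4.sm] <;> ring
  rcases z3cases a with rfl | rfl | rfl
  · rw [h0, F.je_zero, ZMod.val_zero, pow_zero]
  · rw [h1, ZMod.val_one, pow_one]
  · rw [h2, F.je_add, show (2 : ZMod 3).val = 2 from rfl, pow_two]

theorem root_cocycle (a b c : Fin 6) : F.root a b * F.root b c = F.root a c := by
  rw [root, root, root, ← F.je_add]
  congr 1
  simp [jv]

theorem span : F.J = closure (Set.range fun x : Fin 6 × Fin 6 => F.root x.1 x.2) := by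
  refine le_antisymm (fun g hg => ?_) ((closure_le _).mpr ?_)
  · obtain ⟨p, rfl⟩ := F.mem_J.mp hg
    have e : lin (jv 0 1, jv 1 2, jv 2 3, jv 3 4) (lin jinv p) = p := by
      rw [← lin_mcomp, jv_facts.2.2.2.2.2.2, lin_one]
    rw [← e]
    have hm : ∀ (a : ZMod 3) (i j : Fin 6), F.je (V4.sm a (jv i j)) ∈
        closure (Set.range fun x : Fin 6 × Fin 6 => F.root x.1 x.2) := fun a i j => by
      have hs : F.root i j ∈ Set.range (fun x : Fin 6 × Fin 6 => F.root x.1 x.2) := ⟨(i, j), rfl⟩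
      rw [F.je_sm]; exact pow_mem (subset_closure hs) _
    simp only [lin, F.je_add]
    exact mul_mem (mul_mem (mul_mem (hm _ 0 1) (hm _ 1 2)) (hm _ 2 3)) (hm _ 3 4)
  · rintro _ ⟨x, rfl⟩
    exact F.je_J _

theorem root_z : h.D.z = F.root 0 1 * F.root 2 1 := by
  rw [root, root, ← F.je_add, jv_facts.2.1, F.je_z]

theorem interQ : h.D.Q ⊓ F.J = closure {F.root 0 1, F.root 3 4, F.root 4 5} := by
  refine le_antisymm (fun g hg => ?_) ((closure_le _).mpr ?_)
  · obtain ⟨p, rfl⟩ := F.mem_J.mp hg.2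
    have hk := (F.je_Q p).mp hg.1
    obtain ⟨x, y, w, e⟩ := jv_facts.2.2.1 p.2.1 p.2.2.1 p.1
    have hp : p = (p.1, p.2.1, p.2.2.1, 0) := Prod.ext rfl (Prod.ext rfl (Prod.ext rfl hk))
    rw [hp, e, F.je_add, F.je_add, F.je_sm, F.je_sm, F.je_sm]
    exact mul_mem (mul_mem (pow_mem (subset_closure (by simp [root])) _)
      (pow_mem (subset_closure (by simp [root])) _)) (pow_mem (subset_closure (by simp [root])) _)
  · obtain ⟨-, -, -, a, b, c, -⟩ := jv_facts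
    rintro _ (rfl | rfl | rfl)
    exacts [mem_inf.mpr ⟨(F.je_Q _).mpr a, F.je_J _⟩, mem_inf.mpr ⟨(F.je_Q _).mpr b, F.je_J _⟩,
      mem_inf.mpr ⟨(F.je_Q _).mpr c, F.je_J _⟩]

include F in
theorem selfQ : centralizer (h.D.Q : Set G) ≤ h.D.Q := by
  intro g hg
  have hC : g ∈ h.C := mem_centralizer_singleton_iff.mpr (mem_centralizer_iff.mp hg _ h.D.z_mem).symm
  obtain ⟨c, v, hM, e⟩ := F.mof_spec hC
  refine (F.mof_Q hC).mpr ?_
  have key : ∀ w : V4, lin (F.mof g) w = w := fun w => by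
    have hc : F.el (0, w, m1) * F.el (c, v, F.mof g) = F.el (c, v, F.mof g) * F.el (0, w, m1) := by
      rw [e]; exact mem_centralizer_iff.mp hg _ (F.el_q _ _)
    rw [F.mul _ _ m1_mem hM, F.mul _ _ hM m1_mem] at hc
    have e2 := congrArg (fun y : El => y.2.1)
      (F.inj _ _ (F.closed _ m1_mem _ hM) (F.closed _ hM _ m1_mem) hc)
    simp only [emul, lin_one] at e2
    rw [add_comm w] at e2
    exact (add_left_cancel e2).symm
  obtain ⟨a1, a2, a3, a4⟩ := lin_unit (F.mof g)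
  exact Prod.ext (a1 ▸ key _) (Prod.ext (a2 ▸ key _) (Prod.ext (a3 ▸ key _) (a4 ▸ key _)))

theorem centJ : centralizer (F.J : Set G) = F.J := by
  refine le_antisymm (fun g hg => ?_) fun a ha => mem_centralizer_iff.mpr fun b hb => ?_
  · have hC : g ∈ h.C := mem_centralizer_singleton_iff.mpr (mem_centralizer_iff.mp hg _ F.z_J).symm
    obtain ⟨c, v, hM, e⟩ := F.mof_spec hC
    have key : ∀ p : V4, emul (c, v, F.mof g) (jel p) = emul (jel p) (c, v, F.mof g) := fun p => by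
      refine F.inj _ _ (F.closed _ hM _ (jel_mem p)) (F.closed _ (jel_mem p) _ hM) ?_
      rw [← F.mul _ _ hM (jel_mem p), ← F.mul _ _ (jel_mem p) hM, e]
      exact (mem_centralizer_iff.mp hg _ (F.je_J p)).symm
    have hfix : ∀ b e : ZMod 3, lin (F.mof g) (0, b, e, 0) = (0, b, e, 0) := fun b e => by
      have e2 := congrArg (fun y : El => y.2.1) (key (0, b, e, 0))
      simp only [emul, jel, ypw_zero, lin_one] at e2
      rw [add_comm ((0, b, e, 0) : V4)] at e2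
      exact add_left_cancel e2
    obtain ⟨k, hk⟩ : ∃ k, F.mof g = ypw k := by
      rcases of_decide_eq_true (List.all_eq_true.mp fix_p0 _ hM) (hfix 1 0) (hfix 0 1) with e | e | e <;>
        exact ⟨_, e⟩
    have e3 := congrArg (fun y : El => y.2.1) (key (0, 0, 0, 1))
    simp only [emul, jel, show ((0, 0, 0, 0) : V4) = 0 from rfl, lin_zero, add_zero, zero_add] at e3
    obtain ⟨v1, v4⟩ := ypw_fixes 1 one_ne_zero v e3.symm
    refine F.mem_J.mpr ⟨(c, v.2.1, v.2.2.1, k), ?_⟩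
    rw [← e, hk]
    show F.el (c, (0, v.2.1, v.2.2.1, 0), ypw k) = _
    rw [show ((0, v.2.1, v.2.2.1, 0) : V4) = v by ext <;> simp [v1, v4]]
  · obtain ⟨p, rfl⟩ := F.mem_J.mp ha
    obtain ⟨q, rfl⟩ := F.mem_J.mp hb
    exact (F.je_comm q p).eq

/-- The action of a permutation of the six indices. -/
theorem perm (σ : Equiv.Perm (Fin 6)) :
    ∃ n ∈ normalizer (F.J : Set G), ∀ a b, n * F.root a b * n⁻¹ = F.root (σ a) (σ b) := by
  induction σ using Equiv.Perm.swap_induction_on with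
  | one => exact ⟨1, one_mem _, fun a b => by simp⟩
  | swap_mul σ x y _ ih =>
    obtain ⟨n, hn, hne⟩ := ih
    obtain ⟨hT, hj, hsq⟩ := perm_swap x y
    have hT' : ∀ p ∈ tpts, lin (permMat (Equiv.swap x y)) p ∈ tpts := fun p hp =>
      List.contains_iff_mem.mp (List.all_eq_true.mp hT p hp)
    obtain ⟨m, hm⟩ := F.realise hT' (tpts_facts.1.map fun p q e => by
      have := congrArg (lin (permMat (Equiv.swap x y))) e
      rwa [← lin_mcomp, ← lin_mcomp, hsq, lin_one, lin_one] at this)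
    refine ⟨m * n, mul_mem hm.mem_normalizer hn, fun a b => ?_⟩
    rw [show m * n * F.root a b * (m * n)⁻¹ = m * (n * F.root a b * n⁻¹) * m⁻¹ by group, hne, root,
      hm, hj]
    rfl

theorem swap : ∃ n ∈ normalizer (F.J : Set G), n * F.root 0 1 * n⁻¹ = F.root 0 1 * F.root 2 3 := by
  obtain ⟨hT, hn, e⟩ := swap_facts
  obtain ⟨m, hm⟩ := F.realise (fun p hp => List.contains_iff_mem.mp (List.all_eq_true.mp hT p hp)) hn
  exact ⟨m, hm.mem_normalizer, by rw [root, root, hm, e, F.je_add]⟩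

theorem neg : ∃ n ∈ normalizer (F.J : Set G), ∀ a ∈ F.J, n * a * n⁻¹ = a⁻¹ := by
  obtain ⟨hT, hn, e⟩ := neg_facts
  obtain ⟨m, hm⟩ := F.realise (fun p hp => List.contains_iff_mem.mp (List.all_eq_true.mp hT p hp)) hn
  refine ⟨m, hm.mem_normalizer, fun a ha => ?_⟩
  obtain ⟨p, rfl⟩ := F.mem_J.mp ha
  rw [hm, e, F.je_neg]

theorem points {a : G} (ha : a ∈ F.J) (hc : IsConj h.D.z a) :
    ∃ σ : Equiv.Perm (Fin 6), a = F.root (σ 0) (σ 1) * F.root (σ 2) (σ 1) := by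
  obtain ⟨p, rfl⟩ := F.mem_J.mp ha
  obtain ⟨x, y, w, hxy, hxw, hyw, e⟩ := jv_triples p ((F.conj_iff p).mp hc)
  obtain ⟨e0, e1, e2⟩ := three_points x y w hxy hxw hyw
  exact ⟨_, by rw [e, F.je_add, e0, e1, e2]; rfl⟩

theorem centOut {a : G} (ha : a ∈ F.J) (hq : a ∉ h.D.Q) :
    h.C ⊓ centralizer ({a} : Set G) ≤ normalizer (F.J : Set G) := by
  obtain ⟨p, rfl⟩ := F.mem_J.mp ha
  have hk : p.2.2.2 ≠ 0 := fun e => hq ((F.je_Q p).mpr e)
  rintro g ⟨hgC, hga⟩
  obtain ⟨c, v, hM, e⟩ := F.mof_spec hgC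
  have hcm : mcomp (F.mof g) (ypw p.2.2.2) = mcomp (ypw p.2.2.2) (F.mof g) := by
    have := congrArg F.mof (mem_centralizer_singleton_iff.mp hga)
    rwa [F.mof_mul hgC (F.je_mem p), F.mof_mul (F.je_mem p) hgC, je, F.mof_el (jel_mem p)] at this
  have hny : F.mof g ∈ nyList := by
    refine List.mem_filter.mpr ⟨hM, ?_⟩
    have hy : mcomp (F.mof g) yM = mcomp yM (F.mof g) := by
      rcases (by decide : ∀ a : ZMod 3, a ≠ 0 → a = 1 ∨ a = 2) _ hk with ek | ek <;> rw [ek] at hcm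
      · exact hcm
      · rw [show yM = mcomp (ypw 2) (ypw 2) by rw [ypw_add]; rfl, ← mcomp_assoc, hcm, mcomp_assoc, hcm,
          mcomp_assoc]
    simp [hy]
  rw [← e, F.el_eq c v hM]
  refine mul_mem (pow_mem ?_ _) (F.ny_conj hny v)
  exact mem_normalizer_fintype fun x hx => mul_mem (mul_mem F.z_J hx) (inv_mem F.z_J)

theorem J_elem : Cfsg.IsElementaryAbelian 3 F.J := by
  refine ⟨⟨⟨fun a b => Subtype.ext ?_⟩⟩, fun a ha => ?_⟩
  · obtain ⟨p, hp⟩ := F.mem_J.mp a.2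
    obtain ⟨q, hq⟩ := F.mem_J.mp b.2
    show (a : G) * b = b * a
    rw [← hp, ← hq]
    exact (F.je_comm p q).eq
  · obtain ⟨p, rfl⟩ := F.mem_J.mp ha
    exact F.je_cube p

theorem sig (X : Subgroup G) (hX : (Nat.card ↥X).Coprime 3) (hJX : F.J ≤ normalizer (X : Set G)) : X = ⊥ := by
  haveI : Fact (Nat.Prime 3) := ⟨Nat.prime_three⟩
  by_contra hne
  haveI := F.J_elem.1
  have hcop : (Nat.card ↥F.J).Coprime (Nat.card ↥X) := by
    rw [F.card_J, show (81 : ℕ) = 3 ^ 4 from rfl]; exact (hX.symm).pow_left 4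
  obtain ⟨B, hB, hBX⟩ : ∃ B ∈ Coprime.Cocyclic F.J, X ⊓ centralizer (B : Set G) ≠ ⊥ := by
    by_contra hno
    push Not at hno
    exact hne (le_bot_iff.mp ((Coprime.iSup_cocyclic_centralizer_eq hJX hcop).symm.le.trans
      (iSup₂_le fun B hB => (hno B hB).le)))
  obtain ⟨D, hDB, hD⟩ := Coprime.ea_exists_hyperplane_le F.J_elem (fun e => by
    have := F.card_J; rw [e, card_bot] at this; norm_num at this) hB
  -- a functional with kernel `D`
  obtain ⟨f, hf, hfD⟩ : ∃ f : V4, f ≠ 0 ∧ ∀ p : V4,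
      f.1 * p.1 + f.2.1 * p.2.1 + f.2.2.1 * p.2.2.1 + f.2.2.2 * p.2.2.2 = 0 → F.je p ∈ D := by
    haveI := F.J_elem.1
    haveI : (D.subgroupOf F.J).Normal := ⟨fun a ha g => by
      rwa [mul_comm' g a, mul_inv_cancel_right]⟩
    have hidx : Nat.card (↥F.J ⧸ D.subgroupOf F.J) = 3 := hD
    let e := mulEquivOfPrimeCardEq (p := 3) hidx (show Nat.card (Multiplicative (ZMod 3)) = 3 by
      rw [Nat.card_congr Multiplicative.toAdd, Nat.card_zmod])
    let φ : V4 → ZMod 3 := fun p => (e (QuotientGroup.mk ⟨F.je p, F.je_J p⟩)).toAdd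
    have hadd : ∀ p q, φ (p + q) = φ p + φ q := fun p q => by
      show (e (QuotientGroup.mk _)).toAdd = _
      rw [show (⟨F.je (p + q), F.je_J _⟩ : ↥F.J) = ⟨F.je p, F.je_J p⟩ * ⟨F.je q, F.je_J q⟩ from
        Subtype.ext (F.je_add p q), QuotientGroup.mk_mul, map_mul, toAdd_mul]
    have h0 : φ 0 = 0 := by simpa using hadd 0 0
    have hsm : ∀ (a : ZMod 3) (p : V4), φ (V4.sm a p) = a * φ p := fun a p => by
      have h1 : V4.sm 1 p = p := by ext <;> simp [V4.sm]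
      have h2 : V4.sm 2 p = p + p := by ext <;> simp [V4.sm] <;> ring
      have h3 : V4.sm 0 p = 0 := by ext <;> simp [V4.sm]
      rcases z3cases a with rfl | rfl | rfl
      · rw [h3, h0, zero_mul]
      · rw [h1, one_mul]
      · rw [h2, hadd]; ring
    have hlin : ∀ p : V4, φ p = φ (1, 0, 0, 0) * p.1 + φ (0, 1, 0, 0) * p.2.1 + φ (0, 0, 1, 0) * p.2.2.1
        + φ (0, 0, 0, 1) * p.2.2.2 := fun p => by
      conv_lhs => rw [show p = V4.sm p.1 (1, 0, 0, 0) + V4.sm p.2.1 (0, 1, 0, 0) + V4.sm p.2.2.1 (0, 0, 1, 0)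
        + V4.sm p.2.2.2 (0, 0, 0, 1) by ext <;> simp [V4.sm]]
      simp only [hadd, hsm]
      ring
    refine ⟨(φ (1, 0, 0, 0), φ (0, 1, 0, 0), φ (0, 0, 1, 0), φ (0, 0, 0, 1)), fun e0 => ?_, fun p hp => ?_⟩
    · obtain ⟨x, hx⟩ := e.surjective (Multiplicative.ofAdd 1)
      obtain ⟨⟨y, hy⟩, rfl⟩ := QuotientGroup.mk_surjective x
      obtain ⟨p, rfl⟩ := F.mem_J.mp hy
      have hp1 : φ p = 1 := by show (e _).toAdd = _; rw [hx]; rfl
      simp only [Prod.ext_iff, Prod.fst_zero, Prod.snd_zero] at e0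
      rw [hlin, e0.1, e0.2.1, e0.2.2.1, e0.2.2.2] at hp1
      simp at hp1
    · rw [← hlin] at hp
      have : QuotientGroup.mk' (D.subgroupOf F.J) ⟨F.je p, F.je_J p⟩ = 1 :=
        e.map_eq_one_iff.mp (toAdd_eq_zero.mp hp)
      exact mem_subgroupOf.mp ((QuotientGroup.eq_one_iff _).mp this)
  obtain ⟨p, hpT, hp⟩ := List.any_eq_true.mp (hyper f hf)
  have hpD := hfD p (beq_iff_eq.mp hp)
  obtain ⟨n, hn, hne'⟩ := F.fuse F.z_J (F.je_J p) ((F.conj_iff p).mpr hpT)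
  obtain ⟨⟨x, hx⟩, hx1⟩ := (Subgroup.ne_bot_iff_exists_ne_one).mp hBX
  have hxp : Commute x (F.je p) := (mem_centralizer_iff.mp hx.2 _ (hDB hpD)).symm
  obtain ⟨y, hyd⟩ : ∃ y, y = n⁻¹ * x * n := ⟨_, rfl⟩
  have hyC : y ∈ h.C := mem_centralizer_singleton_iff.mpr (by
    have := (Commute.conj_iff n⁻¹).mpr hxp
    rw [inv_inv, ← hne', show n⁻¹ * (n * h.D.z * n⁻¹) * n = h.D.z by group, ← hyd] at this
    exact this.eq)
  have hy1 : y ≠ 1 := fun e => hx1 (Subtype.ext (by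
    have h1 : x = n * y * n⁻¹ := by rw [hyd]; group
    show x = 1
    rw [h1, e, mul_one, mul_inv_cancel]))
  have hcx : Nat.Coprime (orderOf y) 3 := by
    have h1 : orderOf y = orderOf x := by
      have := (MulAut.conj n⁻¹).orderOf_eq x
      rwa [MulAut.conj_apply, inv_inv, ← hyd] at this
    rw [h1]
    exact hX.coprime_dvd_left ((Subgroup.orderOf_mk x hx.1) ▸ orderOf_dvd_natCard (⟨x, hx.1⟩ : ↥X))
  have hcq : ∀ b e : ZMod 3, Commute (F.je (0, b, e, 0)) y := fun b e => by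
    set q := F.je (0, b, e, 0)
    have hqJ : n * q * n⁻¹ ∈ F.J := (mem_normalizer_iff.mp hn q).mp (F.je_J _)
    have h1 : n * (q * y * q⁻¹ * y⁻¹) * n⁻¹ ∈ X := by
      rw [show n * (q * y * q⁻¹ * y⁻¹) * n⁻¹ = (n * q * n⁻¹) * x * (n * q * n⁻¹)⁻¹ * x⁻¹ by rw [hyd]; group]
      exact mul_mem ((mem_normalizer_iff.mp (hJX hqJ) x).mp hx.1) (inv_mem hx.1)
    have hqQ : q ∈ h.D.Q := (F.je_Q _).mpr rfl
    have h2 : q * y * q⁻¹ * y⁻¹ ∈ h.D.Q := by
      rw [show q * y * q⁻¹ * y⁻¹ = q * (y * q⁻¹ * y⁻¹) by group]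
      exact mul_mem hqQ ((mof_conj_Q (h := h) hyC).mpr (inv_mem hqQ))
    have ho1 : orderOf (q * y * q⁻¹ * y⁻¹) ∣ Nat.card ↥X := by
      rw [← (MulAut.conj n).orderOf_eq, MulAut.conj_apply]
      exact (Subgroup.orderOf_mk _ h1) ▸ orderOf_dvd_natCard (⟨_, h1⟩ : ↥X)
    have ho2 : orderOf (q * y * q⁻¹ * y⁻¹) ∣ 3 ^ 5 := by
      rw [← h.D.card]
      exact (Subgroup.orderOf_mk _ h2) ▸ orderOf_dvd_natCard (⟨_, h2⟩ : ↥h.D.Q)
    have h3 := orderOf_eq_one_iff.mp (Nat.eq_one_of_dvd_coprimes (hX.pow_right 5) ho1 ho2)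
    rwa [← commutatorElement_def, commutatorElement_eq_one_iff_commute] at h3
  obtain ⟨c, v, hM, e⟩ := F.mof_spec hyC
  have hfix : ∀ b e : ZMod 3, lin (F.mof y) (0, b, e, 0) = (0, b, e, 0) := fun b e' => by
    have hc := (hcq b e').eq
    rw [je, ← e, F.mul _ _ (jel_mem _) hM, F.mul _ _ hM (jel_mem _)] at hc
    have e2 := congrArg (fun y : El => y.2.1)
      (F.inj _ _ (F.closed _ (jel_mem _) _ hM) (F.closed _ hM _ (jel_mem _)) hc)
    simp only [emul, jel, ypw_zero, lin_one] at e2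
    rw [add_comm ((0, b, e', 0) : V4)] at e2
    exact (add_left_cancel e2).symm
  have hSY : y ∈ F.SY := by
    rcases of_decide_eq_true (List.all_eq_true.mp fix_p0 _ hM) (hfix 1 0) (hfix 0 1) with e' | e' | e' <;>
      exact ⟨c, v, _, e' ▸ e⟩
  have hd := orderOf_dvd_natCard (⟨y, hSY⟩ : ↥F.SY)
  rw [Subgroup.orderOf_mk, F.card_SY] at hd
  exact hy1 (orderOf_eq_one_iff.mp (Nat.eq_one_of_dvd_coprimes (hcx.pow_right 6) dvd_rfl hd))

include F in
theorem minimal (N : Subgroup G) (hN : N.Normal) (hp : IsPGroup 3 ↥N) (hne : N ≠ ⊥) : h.D.z ∈ N := by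
  haveI : Fact (Nat.Prime 3) := ⟨Nat.prime_three⟩
  haveI := hN
  have hle : N ≤ (h.S : Subgroup G) := hp.le_sylow_of_normal h.S
  haveI : Group.IsNilpotent ↥(h.S : Subgroup G) := h.S.isPGroup'.isNilpotent
  have hb : N.subgroupOf (h.S : Subgroup G) ≠ ⊥ := fun e => hne (by
    rw [← inf_of_le_left hle]
    exact (subgroupOf_eq_bot (H := N) (K := (h.S : Subgroup G))).mp e |>.eq_bot)
  obtain ⟨⟨x, hx⟩, hx1⟩ := Subgroup.ne_bot_iff_exists_ne_one.mp (Core.inf_center_ne_bot hb)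
  have hxz : (x : G) ∈ zpowers h.D.z := h.centerS ▸ mem_inf.mpr ⟨x.2, mem_centralizer_iff.mpr fun b hb =>
    congrArg Subtype.val (mem_center_iff.mp hx.2 ⟨b, hb⟩)⟩
  have hx1' : (x : G) ≠ 1 := fun e => hx1 (Subtype.ext (Subtype.ext e))
  have := zpowers_eq_of_prime (p := 3) (Z := zpowers h.D.z) (by rw [Nat.card_zpowers, h.D.z_ord]) hxz hx1'
  exact zpowers_le.mpr (show (x : G) ∈ N from hx.1) (this ▸ mem_zpowers h.D.z)

/-- The quaternion group. -/
noncomputable def qHom : QuaternionGroup 2 →* G :=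
  MonoidHom.mk' (fun x => F.el (0, 0, qM x)) fun x y => by
    have hq : ∀ x, qM x ∈ hl := fun x => by
      obtain ⟨r, hr, e⟩ := List.any_eq_true.mp (qM_q8 x)
      rw [beq_iff_eq.mp e]
      exact List.contains_iff_mem.mp (List.all_eq_true.mp dg_q8_hl r hr)
    rw [F.mul _ _ (hq x) (hq y)]
    congr 1
    simp [emul, lin_zero, bB_zero_right, qM_mul]

theorem mem_R {r : G} (hr : r ∈ F.qHom.range) :
    ∃ q ∈ q8, dg2 i2 q ∈ hl ∧ r = F.el (0, 0, dg2 i2 q) := by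
  obtain ⟨x, rfl⟩ := hr
  obtain ⟨q, hq, e⟩ := List.any_eq_true.mp (qM_q8 x)
  exact ⟨q, hq, List.contains_iff_mem.mp (List.all_eq_true.mp dg_q8_hl q hq),
    congrArg (fun M => F.el (0, 0, M)) (beq_iff_eq.mp e)⟩

theorem R_of_q8 {q : M2} (hq : q ∈ q8) : F.el (0, 0, dg2 i2 q) ∈ F.qHom.range := by
  obtain ⟨x, hx⟩ := of_decide_eq_true (List.all_eq_true.mp q8_qM q hq)
  exact ⟨x, by rw [hx]; rfl⟩

theorem u0_mem : u0 ∈ hl := List.contains_iff_mem.mp u0_hl

/-- The centraliser of the involution in `C` in coordinates. -/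
theorem mem_CT {g : G} : g ∈ h.C ⊓ centralizer ({F.inv0} : Set G) ↔
    ∃ c a b, ∃ A ∈ sl24, ∃ q ∈ q8, F.el (c, (a, b, 0, 0), mcomp (dg2 A A) (dg2 i2 q)) = g := by
  constructor
  · rintro ⟨hgC, hgt⟩
    obtain ⟨c, v, hM, e⟩ := F.mof_spec hgC
    have hc := mem_centralizer_singleton_iff.mp hgt
    rw [← e, inv0, F.mul _ _ hM u0_mem, F.mul _ _ u0_mem hM] at hc
    have e' := F.inj _ _ (F.closed _ hM _ u0_mem) (F.closed _ u0_mem _ hM) hc
    simp only [emul, lin_zero, add_zero, zero_add, Prod.mk.injEq] at e'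
    have hd := of_decide_eq_true (List.all_eq_true.mp cent_u0 _ hM) e'.2.2
    rw [Bool.and_eq_true] at hd
    obtain ⟨q, hq, hq'⟩ := List.any_eq_true.mp hd.2
    refine ⟨c, v.1, v.2.1, _, List.contains_iff_mem.mp hd.1, q, hq, ?_⟩
    rw [← u0_fixes v e'.2.1.symm, ← beq_iff_eq.mp hq', e]
  · rintro ⟨c, a, b, A, hA, q, hq, rfl⟩
    have hM : mcomp (dg2 A A) (dg2 i2 q) ∈ hl := F.closed _
      (List.contains_iff_mem.mp (List.all_eq_true.mp dg_hl A hA)) _
      (List.contains_iff_mem.mp (List.all_eq_true.mp dg_q8_hl q hq))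
    refine mem_inf.mpr ⟨F.mem _, mem_centralizer_singleton_iff.mpr ?_⟩
    rw [inv0, F.mul _ _ hM u0_mem, F.mul _ _ u0_mem hM]
    congr 1
    simp only [emul, lin_zero, u0_plane, bB_zero_right]
    refine Prod.ext (by simp [bB]) (Prod.ext (by simp) ?_)
    have key : ∀ B C : M2, mcomp (dg2 B C) u0 = mcomp u0 (dg2 B C) := by decide +kernel
    rw [mcomp_assoc, key, ← mcomp_assoc, key, mcomp_assoc]

theorem mem_E {g : G} : g ∈ h.D.Q ⊓ centralizer ({F.inv0} : Set G) ↔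
    ∃ c a b, F.el (c, (a, b, 0, 0), m1) = g := by
  constructor
  · rintro ⟨hgQ, hgt⟩
    obtain ⟨c, v, e⟩ := F.exists_q hgQ
    have hc := mem_centralizer_singleton_iff.mp hgt
    rw [← e, inv0, F.mul _ _ m1_mem u0_mem, F.mul _ _ u0_mem m1_mem] at hc
    have e' := F.inj _ _ (F.closed _ m1_mem _ u0_mem) (F.closed _ u0_mem _ m1_mem) hc
    simp only [emul, lin_zero, add_zero, zero_add, Prod.mk.injEq] at e'
    exact ⟨c, v.1, v.2.1, by rw [← u0_fixes v e'.2.1.symm, e]⟩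
  · rintro ⟨c, a, b, rfl⟩
    refine mem_inf.mpr ⟨F.el_q _ _, mem_centralizer_singleton_iff.mpr ?_⟩
    rw [inv0, F.mul _ _ m1_mem u0_mem, F.mul _ _ u0_mem m1_mem]
    congr 1
    simp [emul, lin_zero, u0_plane, bB, mcomp_one_left, mcomp_one_right]

theorem el_split (c a b : ZMod 3) {A : M2} (hA : A ∈ sl24) {q : M2} (hq : q ∈ q8) :
    F.el (c, (a, b, 0, 0), mcomp (dg2 A A) (dg2 i2 q))
      = F.el (c, (a, b, 0, 0), m1) * F.el (0, 0, dg2 A A) * F.el (0, 0, dg2 i2 q) := by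
  have h1 : dg2 A A ∈ hl := List.contains_iff_mem.mp (List.all_eq_true.mp dg_hl A hA)
  have h2 : dg2 i2 q ∈ hl := List.contains_iff_mem.mp (List.all_eq_true.mp dg_q8_hl q hq)
  rw [F.mul _ _ m1_mem h1, F.mul _ _ (F.closed _ m1_mem _ h1) h2]
  congr 1
  simp [emul, lin_zero, bB, mcomp_one_left]

theorem commR {r e : G} (hr : r ∈ F.qHom.range) (he : e ∈ h.D.Q ⊓ centralizer ({F.inv0} : Set G)) :
    Commute r e := by
  obtain ⟨q, -, hqh, rfl⟩ := F.mem_R hr
  obtain ⟨c, a, b, rfl⟩ := F.mem_E.mp he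
  show _ * _ = _ * _
  rw [F.mul _ _ hqh m1_mem, F.mul _ _ m1_mem hqh]
  congr 1
  simp [emul, lin_zero, bB, dg_q_plane, mcomp_one_left, mcomp_one_right]

theorem normalR : h.C ⊓ centralizer ({F.inv0} : Set G) ≤ normalizer (F.qHom.range : Set G) := by
  intro g hg
  refine mem_normalizer_fintype fun r hr => ?_
  obtain ⟨c, a, b, A, hA, s, hs, rfl⟩ := F.mem_CT.mp hg
  rw [F.el_split c a b hA hs]
  obtain ⟨q, hq, hqh, rfl⟩ := F.mem_R hr
  obtain ⟨q1, hq1, e1⟩ := List.any_eq_true.mp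
    (List.all_eq_true.mp (List.all_eq_true.mp q8_norm' s hs) q hq)
  obtain ⟨q2, hq2, e2⟩ := List.any_eq_true.mp
    (List.all_eq_true.mp (List.all_eq_true.mp q8_norm A hA) q1 hq1)
  have hh : ∀ r ∈ q8, dg2 i2 r ∈ hl := fun r hr =>
    List.contains_iff_mem.mp (List.all_eq_true.mp dg_q8_hl r hr)
  have hAh : dg2 A A ∈ hl := List.contains_iff_mem.mp (List.all_eq_true.mp dg_hl A hA)
  have step : ∀ {M R R' : M4}, M ∈ hl → R ∈ hl → R' ∈ hl → mcomp M R = mcomp R' M →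
      F.el (0, 0, M) * F.el (0, 0, R) * (F.el (0, 0, M))⁻¹ = F.el (0, 0, R') := by
    intro M R R' hM hR hR' e
    rw [mul_inv_eq_iff_eq_mul, F.mul _ _ hM hR, F.mul _ _ hR' hM]
    congr 1
    simp [emul, lin_zero, bB_zero_right, e]
  rw [SetLike.mem_coe]
  have e3 : ∀ x m s r : G, x * m * s * r * (x * m * s)⁻¹ = x * (m * (s * r * s⁻¹) * m⁻¹) * x⁻¹ := by
    intros; group
  rw [e3, step (hh s hs) hqh (hh q1 hq1) (beq_iff_eq.mp e1),
    step hAh (hh q1 hq1) (hh q2 hq2) (beq_iff_eq.mp e2)]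
  rw [(F.commR (F.R_of_q8 hq2) (F.mem_E.mpr ⟨c, a, b, rfl⟩)).symm.eq, mul_inv_cancel_right]
  exact F.R_of_q8 hq2

theorem cardE : Nat.card ↥(h.D.Q ⊓ centralizer ({F.inv0} : Set G)) = 27 := by
  refine (Nat.card_eq_of_bijective (fun x : ZMod 3 × ZMod 3 × ZMod 3 =>
    (⟨F.el (x.1, (x.2.1, x.2.2, 0, 0), m1), F.mem_E.mpr ⟨_, _, _, rfl⟩⟩ :
      ↥(h.D.Q ⊓ centralizer ({F.inv0} : Set G)))) ⟨fun x y e => ?_, fun g => ?_⟩).symm.trans ?_
  · have e' := F.inj _ _ m1_mem m1_mem (congrArg Subtype.val e)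
    simp only [Prod.mk.injEq] at e'
    exact Prod.ext e'.1 (Prod.ext e'.2.1.1 e'.2.1.2.1)
  · obtain ⟨c, a, b, e⟩ := F.mem_E.mp g.2
    exact ⟨(c, a, b), Subtype.ext e⟩
  · simp only [Nat.card_prod, Nat.card_zmod]

theorem centreE {e : G} (he : e ∈ h.D.Q ⊓ centralizer ({F.inv0} : Set G))
    (hc : ∀ f ∈ h.D.Q ⊓ centralizer ({F.inv0} : Set G), Commute e f) : e ∈ zpowers h.D.z := by
  obtain ⟨c, a, b, rfl⟩ := F.mem_E.mp he
  have key : ∀ x y : ZMod 3, a * y - b * x = 0 := fun x y => by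
    have h1 := hc _ (F.mem_E.mpr ⟨0, x, y, rfl⟩)
    rw [commute_iff_eq, F.mul _ _ m1_mem m1_mem, F.mul _ _ m1_mem m1_mem] at h1
    have e1 := congrArg (fun y : El => y.1) (F.inj _ _ (F.closed _ m1_mem _ m1_mem) (F.closed _ m1_mem _ m1_mem) h1)
    simp only [emul, lin_one, bB] at e1
    exact (by decide : ∀ t : ZMod 3, t + t = 0 → t = 0) _ (by linear_combination -e1)
  have ha : a = 0 := by simpa using key 0 1
  have hb : b = 0 := by simpa using key 1 0
  rw [ha, hb, show ((0, 0, 0, 0) : V4) = 0 from rfl, F.el_central]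
  exact npow_mem_zpowers _ _

theorem cardZT : Nat.card ↥(h.C ⊓ centralizer ({F.inv0} : Set G)) = 5184 := by
  refine (Nat.card_eq_of_bijective (fun x : (ZMod 3 × ZMod 3 × ZMod 3) × ({A // A ∈ sl24} × {q // q ∈ q8}) =>
    (⟨F.el (x.1.1, (x.1.2.1, x.1.2.2, 0, 0), mcomp (dg2 x.2.1.1 x.2.1.1) (dg2 i2 x.2.2.1)),
      F.mem_CT.mpr ⟨_, _, _, _, x.2.1.2, _, x.2.2.2, rfl⟩⟩ :
      ↥(h.C ⊓ centralizer ({F.inv0} : Set G)))) ⟨fun x y e => ?_, fun g => ?_⟩).symm.trans ?_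
  · have hh : ∀ r ∈ q8, dg2 i2 r ∈ hl := fun r hr =>
      List.contains_iff_mem.mp (List.all_eq_true.mp dg_q8_hl r hr)
    have hA : ∀ A ∈ sl24, dg2 A A ∈ hl := fun A hA =>
      List.contains_iff_mem.mp (List.all_eq_true.mp dg_hl A hA)
    have e' := F.inj _ _ (F.closed _ (hA _ x.2.1.2) _ (hh _ x.2.2.2))
      (F.closed _ (hA _ y.2.1.2) _ (hh _ y.2.2.2)) (congrArg Subtype.val e)
    simp only [Prod.mk.injEq] at e'
    obtain ⟨ec, ⟨ea, eb, -⟩, eM⟩ := e'
    have key : ∀ A : M2, ∀ r : M2, blockA (mcomp (dg2 A A) (dg2 i2 r)) = A := fun A r => by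
      obtain ⟨⟨a11, a12⟩, ⟨a21, a22⟩⟩ := A
      simp [blockA, mcomp, lin, dg2, i2, V4.sm]
    have eA : x.2.1.1 = y.2.1.1 := by rw [← key x.2.1.1 x.2.2.1, eM, key]
    have eq : dg2 i2 x.2.2.1 = dg2 i2 y.2.2.1 := by
      have h1 : F.el (0, 0, dg2 x.2.1.1 x.2.1.1) * F.el (0, 0, dg2 i2 x.2.2.1)
          = F.el (0, 0, dg2 x.2.1.1 x.2.1.1) * F.el (0, 0, dg2 i2 y.2.2.1) := by
        rw [F.mul _ _ (hA _ x.2.1.2) (hh _ x.2.2.2), F.mul _ _ (hA _ x.2.1.2) (hh _ y.2.2.2)]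
        congr 1
        rw [eA] at eM ⊢
        simp only [emul, eM]
      exact congrArg (fun y : El => y.2.2) (F.inj _ _ (hh _ x.2.2.2) (hh _ y.2.2.2) (mul_left_cancel h1))
    have eq' : x.2.2.1 = y.2.2.1 := by
      simp only [dg2, Prod.mk.injEq] at eq
      exact Prod.ext (Prod.ext eq.2.2.1.2.2.1 eq.2.2.1.2.2.2) (Prod.ext eq.2.2.2.2.2.1 eq.2.2.2.2.2.2)
    exact Prod.ext (Prod.ext ec (Prod.ext ea eb)) (Prod.ext (Subtype.ext eA) (Subtype.ext eq'))
  · obtain ⟨c, a, b, A, hA, q, hq, e⟩ := F.mem_CT.mp g.2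
    exact ⟨((c, a, b), ⟨A, hA⟩, ⟨q, hq⟩), Subtype.ext e⟩
  · rw [Nat.card_prod, Nat.card_prod, Nat.card_prod, Nat.card_prod, Nat.card_zmod,
      Nat.card_congr (Equiv.subtypeEquivRight fun M => (List.mem_toFinset (l := sl24)).symm),
      Nat.card_congr (Equiv.subtypeEquivRight fun M => (List.mem_toFinset (l := q8)).symm),
      Nat.card_eq_fintype_card, Fintype.card_coe, Nat.card_eq_fintype_card, Fintype.card_coe,
      List.toFinset_card_of_nodup sl24_nodup.1, List.toFinset_card_of_nodup q8_nodup.1, sl24_nodup.2, q8_nodup.2]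

theorem projZT : ∃ f : ↥(h.C ⊓ centralizer ({F.inv0} : Set G)) →*
    Matrix.SpecialLinearGroup (Fin 2) (ZMod 3), Function.Surjective f ∧
    ∀ g, f g = 1 ↔ (g : G) ∈ F.qHom.range ⊔ (h.D.Q ⊓ centralizer ({F.inv0} : Set G)) := by
  set CT := h.C ⊓ centralizer ({F.inv0} : Set G)
  have hdet : ∀ A : M2, A ∈ sl24 → A.1.1 * A.2.2 - A.1.2 * A.2.1 = 1 := fun A hA =>
    beq_iff_eq.mp (List.all_eq_true.mp sl24_det A hA)
  have hblock : ∀ g : ↥CT, blockA (F.mof (g : G)) ∈ sl24 ∧ ∀ a b : ZMod 3,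
      lin (F.mof (g : G)) (a, b, 0, 0) = (a * (blockA (F.mof (g : G))).1.1 + b * (blockA (F.mof (g : G))).2.1,
        a * (blockA (F.mof (g : G))).1.2 + b * (blockA (F.mof (g : G))).2.2, 0, 0) := fun g => by
    obtain ⟨c, x, y, A, hA, q, hq, e⟩ := F.mem_CT.mp g.2
    rw [← e, F.mof_el (F.closed _ (List.contains_iff_mem.mp (List.all_eq_true.mp dg_hl A hA)) _
      (List.contains_iff_mem.mp (List.all_eq_true.mp dg_q8_hl q hq)))]
    have hb : blockA (mcomp (dg2 A A) (dg2 i2 q)) = A := by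
      obtain ⟨⟨a11, a12⟩, ⟨a21, a22⟩⟩ := A
      simp [blockA, mcomp, lin, dg2, i2, V4.sm]
    rw [hb]
    exact ⟨hA, fun a b => by rw [lin_mcomp, dg_q_plane, dg_plane]⟩
  let f0 : ↥CT → Matrix.SpecialLinearGroup (Fin 2) (ZMod 3) := fun g =>
    ⟨!![(blockA (F.mof (g : G))).1.1, (blockA (F.mof (g : G))).2.1;
        (blockA (F.mof (g : G))).1.2, (blockA (F.mof (g : G))).2.2], by
      rw [Matrix.det_fin_two_of]
      linear_combination hdet _ (hblock g).1⟩
  let f : ↥CT →* Matrix.SpecialLinearGroup (Fin 2) (ZMod 3) := MonoidHom.mk' f0 fun g k => by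
    have hm : F.mof ((g * k : ↥CT) : G) = mcomp (F.mof (g : G)) (F.mof (k : G)) := F.mof_mul g.2.1 k.2.1
    have h1 : (mcomp (F.mof (g : G)) (F.mof (k : G))).1
        = lin (F.mof (g : G)) (lin (F.mof (k : G)) (1, 0, 0, 0)) := by rw [(lin_unit _).1]; rfl
    have h2 : (mcomp (F.mof (g : G)) (F.mof (k : G))).2.1
        = lin (F.mof (g : G)) (lin (F.mof (k : G)) (0, 1, 0, 0)) := by rw [(lin_unit _).2.1]; rfl
    rw [(hblock k).2, (hblock g).2] at h1 h2
    refine Subtype.ext ?_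
    show !![_, _; _, _] = (!![_, _; _, _] : Matrix (Fin 2) (Fin 2) (ZMod 3)) * !![_, _; _, _]
    rw [Matrix.mul_fin_two, hm]
    simp only [blockA, h1, h2]
    ext i j
    fin_cases i <;> fin_cases j <;> simp <;> ring
  refine ⟨f, fun S => ?_, fun g => ?_⟩
  · have hd : S.1 0 0 * S.1 1 1 - S.1 1 0 * S.1 0 1 = 1 := by
      have := S.2
      rw [Matrix.det_fin_two] at this
      linear_combination this
    let A : M2 := ((S.1 0 0, S.1 1 0), (S.1 0 1, S.1 1 1))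
    have hA : A ∈ sl24 := mem_sl24 A hd
    have hq : (i2 : M2) ∈ q8 := by decide +kernel
    have hmem : F.el (0, (0, 0, 0, 0), mcomp (dg2 A A) (dg2 i2 i2)) ∈ CT :=
      F.mem_CT.mpr ⟨0, 0, 0, A, hA, i2, hq, rfl⟩
    refine ⟨⟨_, hmem⟩, Subtype.ext ?_⟩
    show !![_, _; _, _] = S.1
    rw [F.mof_el (F.closed _ (List.contains_iff_mem.mp (List.all_eq_true.mp dg_hl A hA)) _
      (List.contains_iff_mem.mp (List.all_eq_true.mp dg_q8_hl _ hq)))]
    ext i j
    fin_cases i <;> fin_cases j <;> simp [A, blockA, mcomp, lin, dg2, i2, V4.sm]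
  · constructor
    · intro hf
      have hA1 : blockA (F.mof (g : G)) = i2 := by
        have e := congrArg Subtype.val hf
        change !![_, _; _, _] = (1 : Matrix (Fin 2) (Fin 2) (ZMod 3)) at e
        have e00 := congrFun (congrFun e 0) 0
        have e01 := congrFun (congrFun e 0) 1
        have e10 := congrFun (congrFun e 1) 0
        have e11 := congrFun (congrFun e 1) 1
        simp at e00 e01 e10 e11
        exact Prod.ext (Prod.ext e00 e10) (Prod.ext e01 e11)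
      obtain ⟨c, x, y, A, hA, q, hq, e⟩ := F.mem_CT.mp g.2
      have hA2 : A = i2 := by
        rw [← hA1, ← e, F.mof_el (F.closed _ (List.contains_iff_mem.mp (List.all_eq_true.mp dg_hl A hA)) _
          (List.contains_iff_mem.mp (List.all_eq_true.mp dg_q8_hl q hq)))]
        obtain ⟨⟨a11, a12⟩, ⟨a21, a22⟩⟩ := A
        simp [blockA, mcomp, lin, dg2, i2, V4.sm]
      rw [← e, F.el_split c x y hA hq, hA2, show dg2 i2 i2 = m1 from rfl,
        show F.el (0, 0, m1) = 1 from F.one, mul_one]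
      exact mul_mem (mem_sup_right (F.mem_E.mpr ⟨_, _, _, rfl⟩)) (mem_sup_left (F.R_of_q8 hq))
    · intro hg
      have hle : F.qHom.range ⊔ (h.D.Q ⊓ centralizer ({F.inv0} : Set G)) ≤ f.ker.map CT.subtype := by
        have hker : ∀ c a b, ∀ q, ∀ hq : q ∈ q8,
            F.el (c, (a, b, 0, 0), dg2 i2 q) ∈ f.ker.map CT.subtype := by
          intro c a b q hq
          have hi : (i2 : M2) ∈ sl24 := by decide +kernel
          have e0 : mcomp (dg2 i2 i2) (dg2 i2 q) = dg2 i2 q := mcomp_one_left _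
          refine ⟨⟨_, e0 ▸ F.mem_CT.mpr ⟨c, a, b, i2, hi, q, hq, rfl⟩⟩, ?_, rfl⟩
          refine MonoidHom.mem_ker.mpr (Subtype.ext ?_)
          show !![_, _; _, _] = (1 : Matrix (Fin 2) (Fin 2) (ZMod 3))
          rw [F.mof_el (List.contains_iff_mem.mp (List.all_eq_true.mp dg_q8_hl q hq))]
          ext i j
          fin_cases i <;> fin_cases j <;> simp [blockA, dg2, i2]
        refine sup_le (fun r hr => ?_) fun e he => ?_
        · obtain ⟨q, hq, -, rfl⟩ := F.mem_R hr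
          exact hker 0 0 0 q hq
        · obtain ⟨c, a, b, rfl⟩ := F.mem_E.mp he
          exact hker c a b i2 (by decide +kernel)
      obtain ⟨k, hk, hkg⟩ := hle hg
      rwa [Subtype.ext hkg] at hk

theorem transE {e : G} (he : e ∈ h.D.Q ⊓ centralizer ({F.inv0} : Set G)) (hz : e ∉ zpowers h.D.z) :
    ∃ c ∈ h.C ⊓ centralizer ({F.inv0} : Set G), ∃ w ∈ zpowers h.D.z, c * F.root 0 1 * c⁻¹ = e * w := by
  obtain ⟨c, a, b, rfl⟩ := F.mem_E.mp he
  have hab : (a, b) ≠ ((0, 0) : ZMod 3 × ZMod 3) := fun e => hz (by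
    simp only [Prod.mk.injEq] at e
    rw [e.1, e.2, show ((0, 0, 0, 0) : V4) = 0 from rfl, F.el_central]
    exact npow_mem_zpowers _ _)
  obtain ⟨A, hA, hA'⟩ := List.any_eq_true.mp (row_two _ hab)
  rw [beq_iff_eq] at hA'
  have hAh : dg2 A A ∈ hl := List.contains_iff_mem.mp (List.all_eq_true.mp dg_hl A hA)
  have hi : (i2 : M2) ∈ q8 := by decide +kernel
  have hm : F.el (0, 0, dg2 A A) ∈ h.C ⊓ centralizer ({F.inv0} : Set G) := F.mem_CT.mpr
    ⟨0, 0, 0, A, hA, i2, hi, by rw [show dg2 i2 i2 = m1 from rfl, mcomp_one_right]; rfl⟩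
  refine ⟨_, hm, (h.D.z ^ c.val)⁻¹, inv_mem (npow_mem_zpowers _ _), ?_⟩
  have hcz : F.el (c, (a, b, 0, 0), m1) * (h.D.z ^ c.val)⁻¹ = F.el (0, (a, b, 0, 0), m1) := by
    rw [mul_inv_eq_iff_eq_mul, ((h.D.z_comm _ (F.el_q 0 _)).symm |> fun e =>
      (show Commute (F.el (0, (a, b, 0, 0), m1)) h.D.z from e).pow_right c.val).eq]
    exact F.el_eq c _ m1_mem
  rw [hcz, mul_inv_eq_iff_eq_mul, root, je, jv_facts.1, F.mul _ _ hAh (jel_mem _), F.mul _ _ m1_mem hAh]
  congr 1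
  simp only [emul, jel, ypw_zero, lin_one, lin_zero, dg_plane, mcomp_one_left, mcomp_one_right]
  refine Prod.ext ?_ (Prod.ext ?_ rfl)
  · simp [bB]
  · simp [hA']

/-- All fields, given the quotient of `C(a)`. -/
theorem exists_local
    (hq : ∃ (_ : ((zpowers (F.root 0 1)).subgroupOf (centralizer ({F.root 0 1} : Set G))).Normal),
      Nonempty (↥(centralizer ({F.root 0 1} : Set G)) ⧸
        (zpowers (F.root 0 1)).subgroupOf (centralizer ({F.root 0 1} : Set G)) ≃* MulAut (PSp 2 (ZMod 3))))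
    (hext : IsExtraspecial 3 ↥(Cfsg.pCore 3 ↥h.C)) : Nonempty (Local G) := by
  obtain ⟨hu2, hu1⟩ := u0_sq
  have ht2 : F.inv0 * F.inv0 = 1 := by
    rw [inv0, F.mul _ _ u0_mem u0_mem, ← F.one]
    congr 1
  refine ⟨{
    z := h.D.z
    Q := h.D.Q
    oz := h.D.z_ord
    extQ := ?_
    cardQ := h.D.card
    cubeQ := ?_
    zQ := h.D.z_mem
    leQ := h.leQ
    normalQ := h.normalQ
    selfQ := F.selfQ
    j := F.root
    J := F.J
    span := F.span
    cube := fun a b => by rw [root, ← F.je_add, ← F.je_add, show jv a b + jv a b + jv a b = 0 from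
      (by decide +kernel : ∀ p : V4, p + p + p = 0) _, F.je_zero]
    comm := fun _ _ _ _ => F.je_comm _ _
    cocycle := F.root_cocycle
    card := F.card_J
    hz := F.root_z
    interQ := F.interQ
    centJ := F.centJ
    perm := F.perm
    swap := F.swap
    neg := F.neg
    cardN := F.card_normalizer
    points := fun _ => F.points
    fuse := fun _ ha _ hb => F.fuse ha hb
    centOut := fun _ => F.centOut
    sig := F.sig
    minimal := F.minimal
    quotA := hq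
    t := F.inv0
    ot := orderOf_eq_prime (by rw [pow_two, ht2]) fun e => hu1
      (congrArg (fun y : El => y.2.2) (F.inj _ _ u0_mem m1_mem (e.trans F.one.symm)))
    tz := mem_centralizer_singleton_iff.mp (F.mem _)
    tJ := fun a b => by
      rw [mul_inv_eq_iff_eq_mul, root, root, inv0, je, je, F.mul _ _ u0_mem (jel_mem _),
        F.mul _ _ (jel_mem _) u0_mem, swap_jel]
    cardE := F.cardE
    centreE := fun _ he hc => F.centreE he hc
    R := F.qHom.range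
    quatR := ?_
    tR := ⟨.a 2, by show F.el (0, 0, qM _) = _; rw [qM_u0]; rfl⟩
    leR := ?_
    normalR := F.normalR
    commR := fun _ hr _ he => F.commR hr he
    cardZT := F.cardZT
    projZT := F.projZT
    transE := fun _ he hz => F.transE he hz }⟩
  · exact LargeExtra.extraspecial_congr
      (((Cfsg.pCore 3 ↥h.C).equivMapOfInjective _ h.C.subtype_injective).trans
        (MulEquiv.subgroupCongr h.coreQ)) hext
  · intro q hq'
    obtain ⟨c, v, rfl⟩ := F.exists_q hq'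
    rw [pow_succ, pow_two, F.mul _ _ m1_mem m1_mem, F.mul _ _ (F.closed _ m1_mem _ m1_mem) m1_mem, ← F.one]
    congr 1
    simp only [emul, lin_one, mcomp_one_left]
    refine Prod.ext ?_ (Prod.ext ((by decide +kernel : ∀ p : V4, p + p + p = 0) v) rfl)
    simp [bB]
    ring_nf
    exact (by decide : ∀ t : ZMod 3, t * 3 = 0) c
  · refine ⟨(MonoidHom.ofInjective (f := F.qHom) ?_).symm⟩
    intro x y e
    refine qM_inj x y (congrArg (fun y : El => y.2.2) (F.inj (0, 0, qM x) (0, 0, qM y) ?_ ?_ e)) <;>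
    · obtain ⟨r, hr, e'⟩ := List.any_eq_true.mp (qM_q8 _)
      show qM _ ∈ hl
      rw [beq_iff_eq.mp e']
      exact List.contains_iff_mem.mp (List.all_eq_true.mp dg_q8_hl r hr)
  · intro r hr
    obtain ⟨q, hq', hqh, rfl⟩ := F.mem_R hr
    refine F.mem_CT.mpr ⟨0, 0, 0, i2, by decide +kernel, q, hq', ?_⟩
    rw [show dg2 i2 i2 = m1 from rfl, mcomp_one_left]
    rfl

end Emb

end Cfsg.Agent.CoTwoThree
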