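import Cfsg.Agent.CoTwoThree.A.Model
import Mathlib.GroupTheory.Perm.Fin
import Mathlib.Data.List.Nodup

/-!
The local stage: finite checks on the coordinates `(c, b, e, k)` of `J`, standing for the element
`(c, (0, b, e, 0), yM ^ k)` of the model.
-/

set_option autoImplicit false
set_option maxRecDepth 100000
set_option synthInstance.maxSize 4000

namespace Cfsg.Agent.CoTwoThree

open Cfsg.Agent.McLLoc

/-- A matrix from the codes of its columns. -/
def decM (a b c d : ℕ) : M4 := (dec4 a, dec4 b, dec4 c, dec4 d)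

/-- The element of order three in the model group. -/
def yM : M4 := decM 4 3 9 45

/-- Its powers. -/
def ypw (k : ZMod 3) : M4 := if k = 0 then m1 else if k = 1 then yM else mcomp yM yM

/-- The potentials of the six frame indices. -/
def pot : Fin 6 → V4 := ![dec4 0, dec4 6, dec4 4, dec4 30, dec4 49, dec4 40]

/-- The coordinates of a root element. -/
def jv (a b : Fin 6) : V4 := pot a - pot b

/-- The twenty points conjugate to `z`. -/
def tpts : List V4 :=
  [1, 2, 27, 31, 34, 37, 41, 44, 46, 50, 53, 54, 59, 62, 65, 67, 70, 74, 76, 79].map dec4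

/-- The invariant of the points outside `Q`. -/
def iota (p : V4) : ZMod 3 := p.1 - p.2.2.2 * (p.2.1 * p.2.1 + p.2.2.1 * p.2.2.1)

/-- Ten representatives with first columns covering all lines. -/
def reps10 : List M4 :=
  ([0, 8, 16, 24, 32, 40, 48, 56, 64, 72].map fun i => repCodes.getD i (0, 0, 0, 0)).map
    fun c => decM c.1 c.2.1 c.2.2.1 c.2.2.2

/-- Two elements of order three fixing the first basis vector. -/
def stA : M4 := decM 1 4 72 9

/-- The second one. -/
def stB : M4 := decM 1 5 36 27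

/-- The normalizer of `⟨yM⟩`. -/
def nyList : List M4 :=
  hl.filter fun M => mcomp M yM == mcomp yM M || mcomp M yM == mcomp (ypw 2) M

/-- Translations and inversions moving `(0, 0, 0, 1)` to all points of the invariant zero: the vector,
the matrix of the element, its action on `J`. -/
def moves : List (V4 × M4) :=
  (([0, 1, 2, 27, 28, 29, 54, 55, 56].map fun v => (dec4 v, yM)) ++
    [0, 1, 2, 27, 28, 29, 54, 55, 56].map fun v => (dec4 v, decM 49 15 12 67))

/-- The elements fixing `z` and `(0, 0, 0, 1)`. -/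
def stab8 : List (M4 × M4) :=
  [(decM 4 3 9 45, decM 1 3 9 27), (decM 8 6 18 63, decM 1 6 18 27), (decM 4 3 18 63, decM 1 3 18 27),
    (decM 8 6 9 45, decM 1 6 9 27), (decM 63 9 6 4, decM 1 9 6 27), (decM 45 18 3 8, decM 1 18 3 27),
    (decM 63 9 3 8, decM 1 9 3 27), (decM 45 18 6 4, decM 1 18 6 27)]

/-- The inverse of the basis `z, (0,0,0,1), (1,0,1,1), (1,1,0,1)`. -/
def binv : M4 := decM 1 35 17 3

/-- The inverse of the basis `j 0 1, j 1 2, j 2 3, j 3 4`. -/
def jinv : M4 := decM 7 1 34 25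

/-- The map of `J` belonging to a permutation of the six indices. -/
def permMat (σ : Fin 6 → Fin 6) : M4 :=
  mcomp (jv (σ 0) (σ 1), jv (σ 1) (σ 2), jv (σ 2) (σ 3), jv (σ 3) (σ 4)) jinv

/-- A map with `j 0 1 ↦ j 0 1 + j 2 3`. -/
def swapMat : M4 := decM 37 58 66 79

theorem ypw_fix : ∀ k b e : ZMod 3, lin (ypw k) (0, b, e, 0) = (0, b, e, 0) := by decide +kernel

theorem ypw_add : ∀ k l : ZMod 3, mcomp (ypw k) (ypw l) = ypw (k + l) := by decide +kernel

theorem ypw_inj : ∀ k l : ZMod 3, ypw k = ypw l → k = l := by decide +kernel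

theorem ypw_fixes : ∀ k : ZMod 3, k ≠ 0 → ∀ v : V4, lin (ypw k) v = v → v.1 = 0 ∧ v.2.2.2 = 0 := by
  decide +kernel

theorem ypw_cube : ∀ k : ZMod 3, k ≠ 0 → ∀ v : V4, v + lin (ypw k) v + lin (ypw k) (lin (ypw k) v) = 0 →
    bB v (lin (ypw k) v) + bB (v + lin (ypw k) v) (lin (ypw k) (lin (ypw k) v)) = 0 →
    v.1 = 0 ∧ v.2.2.2 = 0 := by decide +kernel

theorem ypw_hl : ∀ k : ZMod 3, hl.contains (ypw k) = true := by decide +kernel

theorem reps10_mem : (reps10.all fun r => reps.contains r) = true := by decide +kernel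

theorem first_col : ∀ v : V4, v ≠ 0 →
    (reps10.any fun r => p3.any fun a => a != (0, 0) && lin r (a.1, a.2, 0, 0) == v) = true := by
  decide +kernel

theorem sl_row : ∀ a : ZMod 3 × ZMod 3, a ≠ (0, 0) → (sl24.any fun A => A.1 == a) = true := by decide +kernel

theorem st_facts : hl.contains stA = true ∧ hl.contains stB = true ∧ stA.1 = (1, 0, 0, 0) ∧
    stB.1 = (1, 0, 0, 0) ∧ stA ≠ m1 ∧ mcomp stA (mcomp stA stA) = m1 := by decide +kernel

theorem st_no : (hl.all fun M => decide (M.1 = (1, 0, 0, 0) → M ≠ m1 → mcomp M (mcomp M M) = m1 →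
    ¬ ((mcomp stA M = mcomp M stA ∨ mcomp stA M = mcomp (mcomp M M) stA) ∧
      (mcomp stB M = mcomp M stB ∨ mcomp stB M = mcomp (mcomp M M) stB)))) = true := by
  decide +kernel

theorem fix_p0 : (hl.all fun M => decide (lin M (0, 1, 0, 0) = (0, 1, 0, 0) → lin M (0, 0, 1, 0) = (0, 0, 1, 0) →
    M = ypw 0 ∨ M = ypw 1 ∨ M = ypw 2)) = true := by decide +kernel

theorem ny_facts : nyList.length = 48 ∧ nyList.Nodup ∧ (nyList.all fun M =>
    (p3.all fun a => (lin M (0, a.1, a.2, 0)).1 == 0 && (lin M (0, a.1, a.2, 0)).2.2.2 == 0)) = true := by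
  decide +kernel

theorem tpts_facts : tpts.Nodup ∧ tpts.length = 20 ∧
    (∀ p : V4, p ∈ tpts ↔ (p = (1, 0, 0, 0) ∨ p = (2, 0, 0, 0)) ∨ (p.2.2.2 ≠ 0 ∧ iota p = 0)) := by
  decide +kernel

theorem moves_mem : (moves.all fun x => nyList.contains x.2) = true := by decide +kernel

theorem stab8_mem : (stab8.all fun x => nyList.contains x.1) = true := by decide +kernel

theorem rigid8 : (tpts.all fun a => tpts.all fun b =>
    decide ((tpts.all fun p => tpts.contains (lin (mcomp ((1, 0, 0, 0), (0, 0, 0, 1), a, b) binv) p)) = true →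
      (tpts.map fun p => lin (mcomp ((1, 0, 0, 0), (0, 0, 0, 1), a, b) binv) p).Nodup →
      (stab8.any fun x => x.2 == mcomp ((1, 0, 0, 0), (0, 0, 0, 1), a, b) binv) = true)) = true := by
  decide +kernel

theorem binv_eq : mcomp ((1, 0, 0, 0), (0, 0, 0, 1), (1, 0, 1, 1), (1, 1, 0, 1)) binv = m1 ∧
    tpts.contains ((1, 0, 1, 1) : V4) = true ∧ tpts.contains ((1, 1, 0, 1) : V4) = true := by decide +kernel

theorem perm_swap : ∀ x y : Fin 6,
    (tpts.all fun p => tpts.contains (lin (permMat (Equiv.swap x y)) p)) = true ∧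
    (∀ a b : Fin 6, lin (permMat (Equiv.swap x y)) (jv a b) = jv (Equiv.swap x y a) (Equiv.swap x y b)) ∧
    mcomp (permMat (Equiv.swap x y)) (permMat (Equiv.swap x y)) = m1 := by
  decide +kernel

theorem swap_facts : (tpts.all fun p => tpts.contains (lin swapMat p)) = true ∧
    (tpts.map (lin swapMat)).Nodup ∧ lin swapMat (jv 0 1) = jv 0 1 + jv 2 3 := by decide +kernel

theorem neg_facts : (tpts.all fun p => tpts.contains (lin mneg p)) = true ∧
    (tpts.map (lin mneg)).Nodup ∧ ∀ p : V4, lin mneg p = -p := by decide +kernel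

theorem jv_facts : jv 0 1 = (0, 1, 0, 0) ∧ jv 0 1 + jv 2 1 = (1, 0, 0, 0) ∧
    (∀ b e c : ZMod 3, ∃ x y w : ZMod 3, (c, b, e, 0) = V4.sm x (jv 0 1) + V4.sm y (jv 3 4) + V4.sm w (jv 4 5)) ∧
    (jv 0 1).2.2.2 = 0 ∧ (jv 3 4).2.2.2 = 0 ∧ (jv 4 5).2.2.2 = 0 ∧
    mcomp (jv 0 1, jv 1 2, jv 2 3, jv 3 4) jinv = m1 := by decide +kernel

theorem jv_triples : ∀ p : V4, p ∈ tpts → ∃ a b c : Fin 6, a ≠ b ∧ a ≠ c ∧ b ≠ c ∧ p = jv a b + jv c b := by
  decide +kernel

theorem three_points : ∀ a b c : Fin 6, a ≠ b → a ≠ c → b ≠ c →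
    let σ := Equiv.swap 0 a * Equiv.swap 1 (Equiv.swap 0 a b)
    (σ * Equiv.swap 2 (σ⁻¹ c)) 0 = a ∧ (σ * Equiv.swap 2 (σ⁻¹ c)) 1 = b ∧
      (σ * Equiv.swap 2 (σ⁻¹ c)) 2 = c := by decide +kernel

theorem hyper : ∀ f : V4, f ≠ 0 →
    (tpts.any fun p => f.1 * p.1 + f.2.1 * p.2.1 + f.2.2.1 * p.2.2.1 + f.2.2.2 * p.2.2.2 == 0) = true := by
  decide +kernel

end Cfsg.Agent.CoTwoThree
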