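import Cfsg.Agent.CoTwoThree.A.Emb
import Cfsg.Agent.CoTwoThree.A.ModelJ

/-!
The local stage: the subgroup `J` and the model Sylow subgroup inside `C`.
-/

set_option autoImplicit false
set_option synthInstance.maxSize 4000

open Subgroup
open scoped commutatorElement

namespace Cfsg.Agent.CoTwoThree

open Cfsg.Agent.McLLoc

universe u

theorem lin_zero (M : M4) : lin M 0 = 0 := by
  ext <;> simp [lin, V4.sm]

theorem bB_zero_right (v : V4) : bB v 0 = 0 := by simp [bB]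

theorem mcomp_assoc (A B C : M4) : mcomp (mcomp A B) C = mcomp A (mcomp B C) := by
  exact Prod.ext (lin_mcomp A B _) (Prod.ext (lin_mcomp A B _) (Prod.ext (lin_mcomp A B _) (lin_mcomp A B _)))

theorem mcomp_one_left (A : M4) : mcomp m1 A = A := by simp only [mcomp, lin_one]

theorem mcomp_one_right (A : M4) : mcomp A m1 = A := by
  obtain ⟨a, b, c, d⟩ := lin_unit A
  show (lin A _, lin A _, lin A _, lin A _) = A
  simp only [m1, a, b, c, d]

theorem ypw_zero : ypw 0 = m1 := rfl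

theorem ypw_mem (k : ZMod 3) : ypw k ∈ hl := List.contains_iff_mem.mp (ypw_hl k)

theorem m1_mem : m1 ∈ hl := ypw_mem 0

/-- The model element of a point of `J`. -/
def jel (p : V4) : El := (p.1, (0, p.2.1, p.2.2.1, 0), ypw p.2.2.2)

theorem jel_mem (p : V4) : (jel p).2.2 ∈ hl := ypw_mem _

theorem emul_jel (p q : V4) : emul (jel p) (jel q) = jel (p + q) := by
  simp only [emul, jel, ypw_fix, ypw_add, Prod.fst_add, Prod.snd_add]
  refine Prod.ext ?_ (Prod.ext ?_ rfl)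
  · simp [bB]
  · simp

namespace Emb

variable {G : Type u} [Group G] [Finite G] {h : Base G} (F : Emb h)

theorem el_q (c : ZMod 3) (v : V4) : F.el (c, v, m1) ∈ h.D.Q := (F.hQ _ m1_mem).mpr rfl

theorem el_central (c : ZMod 3) : F.el (c, 0, m1) = h.D.z ^ c.val := by
  have e : ∀ a b : ZMod 3, F.el (a, 0, m1) * F.el (b, 0, m1) = F.el (a + b, 0, m1) := fun a b => by
    rw [F.mul _ _ m1_mem m1_mem]
    simp [emul, lin_zero, bB_zero_right, mcomp_one_left]
  rcases (by decide : ∀ a : ZMod 3, a = 0 ∨ a = 1 ∨ a = 1 + 1) c with rfl | rfl | rfl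
  · rw [F.one, ZMod.val_zero, pow_zero]
  · rw [F.hz, ZMod.val_one, pow_one]
  · rw [← e, F.hz, ← h.D.zpow_add', ZMod.val_one, pow_one]

theorem el_eq (c : ZMod 3) (v : V4) {M : M4} (hM : M ∈ hl) :
    F.el (c, v, M) = h.D.z ^ c.val * F.el (0, v, M) := by
  rw [← F.el_central, F.mul _ _ m1_mem hM]
  simp [emul, lin_one, mcomp_one_left, bB]

theorem z_comm {g : G} (hg : g ∈ h.C) (c : ZMod 3) : Commute (h.D.z ^ c.val) g :=
  Commute.pow_left (Commute.symm (mem_centralizer_singleton_iff.mp hg)) _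

/-- `J` as the image of its coordinates. -/
noncomputable def jh : Multiplicative V4 →* G :=
  MonoidHom.mk' (fun p => F.el (jel p.toAdd)) fun p q => by
    rw [F.mul _ _ (jel_mem _) (jel_mem _), emul_jel]
    rfl

/-- The element of `J` with the given coordinates. -/
noncomputable def je (p : V4) : G := F.el (jel p)

theorem je_add (p q : V4) : F.je (p + q) = F.je p * F.je q := by
  rw [je, je, je, F.mul _ _ (jel_mem _) (jel_mem _), emul_jel]

theorem je_zero : F.je 0 = 1 := map_one F.jh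

theorem je_neg (p : V4) : F.je (-p) = (F.je p)⁻¹ :=
  eq_inv_of_mul_eq_one_left (by rw [← F.je_add, neg_add_cancel, F.je_zero])

theorem je_comm (p q : V4) : Commute (F.je p) (F.je q) := by
  show _ * _ = _ * _
  rw [← F.je_add, ← F.je_add, add_comm]

theorem je_injective : Function.Injective F.je := fun p q e => by
  have e' := F.inj _ _ (jel_mem p) (jel_mem q) e
  simp only [jel, Prod.mk.injEq] at e'
  obtain ⟨a, ⟨-, b, c, -⟩, d⟩ := e'
  exact Prod.ext a (Prod.ext b (Prod.ext c (ypw_inj _ _ d)))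

theorem je_mem (p : V4) : F.je p ∈ h.C := F.mem _

theorem je_z : F.je (1, 0, 0, 0) = h.D.z := F.hz

theorem je_Q (p : V4) : F.je p ∈ h.D.Q ↔ p.2.2.2 = 0 := by
  rw [je, F.hQ _ (jel_mem p)]
  exact ⟨fun e => ypw_inj _ _ e, fun e => by rw [show (jel p).2.2 = ypw p.2.2.2 from rfl, e, ypw_zero]⟩

/-- The subgroup `J`. -/
noncomputable def J : Subgroup G := F.jh.range

theorem mem_J {g : G} : g ∈ F.J ↔ ∃ p, F.je p = g :=
  ⟨fun ⟨p, hp⟩ => ⟨p.toAdd, hp⟩, fun ⟨p, hp⟩ => ⟨Multiplicative.ofAdd p, hp⟩⟩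

theorem je_J (p : V4) : F.je p ∈ F.J := F.mem_J.mpr ⟨p, rfl⟩

theorem J_le : F.J ≤ h.C := fun g hg => by obtain ⟨p, rfl⟩ := F.mem_J.mp hg; exact F.je_mem p

theorem z_J : h.D.z ∈ F.J := F.je_z ▸ F.je_J _

theorem card_J : Nat.card ↥F.J = 81 := by
  have e : Function.Bijective fun p : V4 => (⟨F.je p, F.je_J p⟩ : ↥F.J) :=
    ⟨fun p q e => F.je_injective (congrArg Subtype.val e),
      fun g => (F.mem_J.mp g.2).imp fun p hp => Subtype.ext hp⟩
  rw [← Nat.card_congr (Equiv.ofBijective _ e), Nat.card_eq_fintype_card]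
  rfl

/-- The model Sylow subgroup. -/
noncomputable def SY : Subgroup G where
  carrier := {g | ∃ c v k, F.el (c, v, ypw k) = g}
  one_mem' := ⟨0, 0, 0, F.one⟩
  mul_mem' := by
    rintro _ _ ⟨c, v, k, rfl⟩ ⟨c', v', k', rfl⟩
    refine ⟨(emul (c, v, ypw k) (c', v', ypw k')).1, (emul (c, v, ypw k) (c', v', ypw k')).2.1, k + k', ?_⟩
    rw [F.mul _ _ (ypw_mem k) (ypw_mem k')]
    simp only [emul, ypw_add]
  inv_mem' := by
    rintro _ ⟨c, v, k, rfl⟩
    have e : lin (ypw (-k)) 0 = 0 := lin_zero _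
    refine ⟨-c - bB (lin (ypw (-k)) v) (lin (ypw (-k)) v), -lin (ypw (-k)) v, -k, eq_inv_of_mul_eq_one_left ?_⟩
    rw [F.mul _ _ (ypw_mem _) (ypw_mem k), ← F.one]
    congr 1
    simp only [emul, ypw_add, neg_add_cancel, ypw_zero]
    refine Prod.ext ?_ rfl
    simp [bB]
    ring

theorem SY_le : F.SY ≤ h.C := by rintro _ ⟨c, v, k, rfl⟩; exact F.mem _

theorem J_le_SY : F.J ≤ F.SY := fun g hg => by
  obtain ⟨p, rfl⟩ := F.mem_J.mp hg
  exact ⟨p.1, (0, p.2.1, p.2.2.1, 0), p.2.2.2, rfl⟩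

theorem card_SY : Nat.card ↥F.SY = 3 ^ 6 := by
  have e : Function.Bijective fun x : ZMod 3 × V4 × ZMod 3 =>
      (⟨F.el (x.1, x.2.1, ypw x.2.2), x.1, x.2.1, x.2.2, rfl⟩ : ↥F.SY) := by
    refine ⟨fun x y e => ?_, fun g => ?_⟩
    · have e' := F.inj _ _ (ypw_mem _) (ypw_mem _) (congrArg Subtype.val e)
      simp only [Prod.mk.injEq] at e'
      exact Prod.ext e'.1 (Prod.ext e'.2.1 (ypw_inj _ _ e'.2.2))
    · obtain ⟨c, v, k, e⟩ := g.2
      exact ⟨(c, v, k), Subtype.ext e⟩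
  rw [← Nat.card_congr (Equiv.ofBijective _ e)]
  simp only [Nat.card_prod, Nat.card_zmod]
  norm_num

/-- The Sylow subgroup of `G` in coordinates. -/
noncomputable def sylow : Sylow 3 G :=
  haveI : Fact (Nat.Prime 3) := ⟨Nat.prime_three⟩
  Sylow.ofCard F.SY (by rw [F.card_SY, ← h.S.card_eq_multiplicity, h.cardS])

theorem coe_sylow : (F.sylow : Subgroup G) = F.SY := rfl

/-- Every three-element of `C` is conjugate in `C` to an element of the model Sylow subgroup. -/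
theorem exists_to_SY {P : Subgroup G} (hP : IsPGroup 3 P) (hC : P ≤ h.C) :
    ∃ c ∈ h.C, ∀ x ∈ P, c * x * c⁻¹ ∈ F.SY := by
  haveI : Fact (Nat.Prime 3) := ⟨Nat.prime_three⟩
  obtain ⟨R, hR⟩ := (hP.of_equiv (subgroupOfEquivOfLe hC).symm).exists_le_sylow
  obtain ⟨c, hc⟩ := MulAction.exists_smul_eq ↥h.C R (F.sylow.subtype (F.coe_sylow ▸ F.SY_le))
  refine ⟨c, c.2, fun x hx => ?_⟩
  have hm : c * ⟨x, hC hx⟩ * c⁻¹ ∈ (F.sylow.subtype (F.coe_sylow ▸ F.SY_le) : Subgroup ↥h.C) := by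
    rw [← hc]
    exact ⟨⟨x, hC hx⟩, hR (mem_subgroupOf.mpr hx), rfl⟩
  rw [Sylow.coe_subtype, mem_subgroupOf] at hm
  exact hm

/-- The elements of order three of the model Sylow subgroup outside `Q` lie in `J`. -/
theorem mem_J_of_cube {g : G} (hg : g ∈ F.SY) (h3 : g ^ 3 = 1) (hq : g ∉ h.D.Q) : g ∈ F.J := by
  obtain ⟨c, v, k, rfl⟩ := hg
  have hk : k ≠ 0 := fun e => hq (by rw [e, ypw_zero]; exact F.el_q c v)
  rw [F.el_eq c v (ypw_mem k), Commute.mul_pow (Emb.z_comm (h := h) (F.mem (0, v, ypw k)) c)] at h3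
  have hz : (h.D.z ^ c.val) ^ 3 = 1 := by
    rw [← pow_mul, mul_comm, pow_mul, orderOf_dvd_iff_pow_eq_one.mp h.D.z_ord.dvd, one_pow]
  rw [hz, one_mul, pow_succ, pow_two, F.mul _ _ (ypw_mem k) (ypw_mem k),
    F.mul _ _ (F.closed _ (ypw_mem k) _ (ypw_mem k)) (ypw_mem k), ← F.one] at h3
  have e := F.inj _ _ (F.closed _ (F.closed _ (ypw_mem k) _ (ypw_mem k)) _ (ypw_mem k)) m1_mem h3
  simp only [emul, Prod.mk.injEq, lin_mcomp, zero_add] at e
  obtain ⟨v1, v4⟩ := ypw_cube k hk v e.2.1 (by linear_combination -e.1)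
  exact F.mem_J.mpr ⟨(c, v.2.1, v.2.2.1, k), by
    show F.el (c, (0, v.2.1, v.2.2.1, 0), ypw k) = _
    have e' : v = (0, v.2.1, v.2.2.1, 0) := by ext <;> simp [v1, v4]
    exact congrArg (fun w => F.el (c, w, ypw k)) e'.symm⟩

end Emb

end Cfsg.Agent.CoTwoThree
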