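import Cfsg.Agent.CoTwoThree.A.Weak

/-!
The local stage: the twenty points conjugate to `z` and the automorphisms realised on `J`.
-/

set_option autoImplicit false
set_option maxRecDepth 100000
set_option synthInstance.maxSize 4000

open Subgroup
open scoped commutatorElement

namespace Cfsg.Agent.CoTwoThree

open Cfsg.Agent.McLLoc

universe u

theorem ny_pow_all : (nyList.all fun M => [0, 1, 2].all fun k =>
    [0, 1, 2].any fun l => mcomp M (ypw k) == mcomp (ypw l) M) = true := by decide +kernel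

theorem shift_fix : ∀ (k : ZMod 3) (v : V4), (v - lin (ypw k) v).1 = 0 ∧ (v - lin (ypw k) v).2.2.2 = 0 := by
  decide +kernel

theorem moves_orbit : ∀ p : V4, p.2.2.2 ≠ 0 → (moves.any fun x =>
    emul (0, x.1, x.2) (jel (iota p, 0, 0, 1)) == emul (jel p) (0, x.1, x.2)) = true := by decide +kernel

theorem moves_z : ∀ c : ZMod 3, (moves.all fun x =>
    emul (0, x.1, x.2) (jel (c, 0, 0, 0)) == emul (jel (c, 0, 0, 0)) (0, x.1, x.2)) = true := by decide +kernel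

theorem stab8_act : (stab8.all fun x =>
    [(1, 0, 0, 0), (0, 1, 0, 0), (0, 0, 1, 0), (0, 0, 0, 1)].all fun p : V4 =>
      emul (0, 0, x.1) (jel p) == emul (jel (lin x.2 p)) (0, 0, x.1)) = true := by decide +kernel

/-- The set of points given by the answers for the four possible orbits. -/
def orbSet (b : Bool) (f : ZMod 3 → Bool) : Finset V4 :=
  Finset.univ.filter fun p => p = (1, 0, 0, 0) ∨ (p = (2, 0, 0, 0) ∧ b = true) ∨
    (p.2.2.2 ≠ 0 ∧ f (iota p) = true)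

theorem orbSet_card : ∀ (b : Bool) (f : ZMod 3 → Bool), (f 0 = true ∨ f 1 = true ∨ f 2 = true) →
    (b = true → f 1 = f 2) →
    (∀ ℓ ∈ ([7, 11, 19, 37] : List ℕ), ¬ ℓ ∣ (orbSet b f).card) →
    b = true ∧ f 0 = true ∧ f 1 = false ∧ f 2 = false := by decide +kernel

theorem no_fix : ∀ ℓ ∈ ([7, 11, 19, 37] : List ℕ), ∀ k ≤ 4, 81 % ℓ = 3 ^ k % ℓ → k = 4 := by decide +kernel

theorem jv_iota : ∀ p : V4, iota (-p) = -iota p := by decide +kernel

namespace Emb

variable {G : Type u} [Group G] [Finite G] {h : Base G} (F : Emb h)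

theorem ny_hl {M : M4} (hM : M ∈ nyList) : M ∈ hl := (List.mem_filter.mp hM).1

theorem ny_conj {M : M4} (hM : M ∈ nyList) (v : V4) :
    F.el (0, v, M) ∈ normalizer (F.J : Set G) := by
  refine mem_normalizer_fintype fun a ha => ?_
  obtain ⟨p, rfl⟩ := F.mem_J.mp ha
  obtain ⟨l, hl'⟩ : ∃ l, mcomp M (ypw p.2.2.2) = mcomp (ypw l) M := by
    have h1 := List.all_eq_true.mp (List.all_eq_true.mp ny_pow_all M hM) p.2.2.2
      (by rcases (by decide : ∀ a : ZMod 3, a = 0 ∨ a = 1 ∨ a = 2) p.2.2.2 with e | e | e <;> simp [e])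
    obtain ⟨l, -, hl'⟩ := List.any_eq_true.mp h1
    exact ⟨l, beq_iff_eq.mp hl'⟩
  have hp0 := List.all_eq_true.mp (List.all_eq_true.mp ny_facts.2.2 M hM) (p.2.1, p.2.2.1)
    (by exact (by decide +kernel : ∀ a : ZMod 3 × ZMod 3, a ∈ p3) _)
  simp only [Bool.and_eq_true, beq_iff_eq] at hp0
  obtain ⟨w, hw⟩ : ∃ w, w = lin M (0, p.2.1, p.2.2.1, 0) + (v - lin (ypw l) v) := ⟨_, rfl⟩
  have hw1 : w.1 = 0 := by rw [hw, Prod.fst_add, hp0.1, (shift_fix l v).1, add_zero]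
  have hw4 : w.2.2.2 = 0 := by
    rw [hw]
    show (lin M (0, p.2.1, p.2.2.1, 0)).2.2.2 + (v - lin (ypw l) v).2.2.2 = 0
    rw [hp0.2, (shift_fix l v).2, add_zero]
  have hwe : w = (0, w.2.1, w.2.2.1, 0) := by ext <;> simp [hw1, hw4]
  refine F.mem_J.mpr ⟨(p.1 - bB v (lin M (0, p.2.1, p.2.2.1, 0)) + bB w (lin (ypw l) v), w.2.1, w.2.2.1, l), ?_⟩
  rw [eq_mul_inv_iff_mul_eq, je, je, F.mul _ _ (jel_mem _) (ny_hl hM), F.mul _ _ (ny_hl hM) (jel_mem _)]
  congr 1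
  simp only [emul, jel]
  rw [← hwe, hl']
  refine Prod.ext ?_ (Prod.ext ?_ rfl)
  · ring
  · show w + lin (ypw l) v = v + lin M (0, p.2.1, p.2.2.1, 0)
    rw [hw]; abel

/-- Conjugate to `z`. -/
def Conj (p : V4) : Prop := IsConj h.D.z (F.je p)

theorem conj_z : F.Conj (1, 0, 0, 0) := by rw [Conj, F.je_z]

theorem je_c (b : ZMod 3) : F.je (b, 0, 0, 0) = h.D.z ^ b.val := F.el_central b

theorem conj_Q {p : V4} (hp : F.Conj p) (hk : p.2.2.2 = 0) : p = (1, 0, 0, 0) ∨ p = (2, 0, 0, 0) := by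
  have hz : F.je p ∈ zpowers h.D.z := by
    by_contra hn
    exact F.not_fused ((F.je_Q p).mpr hk) hn hp
  obtain ⟨b, hb⟩ := h.D.exists_zpow hz
  rw [← F.je_c] at hb
  rw [F.je_injective hb]
  rcases (by decide : ∀ a : ZMod 3, a = 0 ∨ a = 1 ∨ a = 2) b with rfl | rfl | rfl
  · exfalso
    have h0 : ((0, 0, 0, 0) : V4) = 0 := rfl
    rw [Conj, hb, h0, F.je_zero] at hp
    obtain ⟨g, hg⟩ := isConj_iff.mp hp
    rw [conj_eq_one_iff] at hg
    have := h.D.z_ord
    rw [hg, orderOf_one] at this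
    norm_num at this
  · exact Or.inl rfl
  · exact Or.inr rfl

theorem exists_out : ∃ p, p.2.2.2 ≠ 0 ∧ F.Conj p := by
  obtain ⟨g, hgS, hgz⟩ := h.moved
  have hC : g * h.D.z * g⁻¹ ∈ h.C := h.S_le hgS
  have ha : orderOf (g * h.D.z * g⁻¹) = 3 := by
    rw [← MulAut.conj_apply, MulEquiv.orderOf_eq, h.D.z_ord]
  obtain ⟨c, hc, hcP⟩ := F.exists_to_SY (P := zpowers (g * h.D.z * g⁻¹))
    (IsPGroup.of_card (n := 1) (by rw [Nat.card_zpowers, ha, pow_one])) (zpowers_le.mpr hC)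
  have hconj : IsConj h.D.z (c * (g * h.D.z * g⁻¹) * c⁻¹) := isConj_iff.mpr ⟨c * g, by group⟩
  have hQ : c * (g * h.D.z * g⁻¹) * c⁻¹ ∉ h.D.Q := fun e => by
    refine F.not_fused e (fun hz => hgz ?_) hconj
    obtain ⟨k, hk⟩ := mem_zpowers_iff.mp hz
    refine ⟨k, ?_⟩
    show h.D.z ^ k = g * h.D.z * g⁻¹
    have := congrArg (fun x => c⁻¹ * x * c) hk
    simp only [mul_assoc, inv_mul_cancel_left, inv_mul_cancel, mul_one] at this
    rw [← mul_assoc, ((h.zpow_comm (inv_mem hc) k)).eq, mul_assoc, inv_mul_cancel, mul_one] at this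
    rw [this, mul_assoc]
  have h3 : (c * (g * h.D.z * g⁻¹) * c⁻¹) ^ 3 = 1 := by
    rw [conj_pow, ← ha, pow_orderOf_eq_one, mul_one, mul_inv_cancel]
  obtain ⟨p, hp⟩ := F.mem_J.mp (F.mem_J_of_cube (hcP _ (mem_zpowers _)) h3 hQ)
  exact ⟨p, fun e => hQ (hp ▸ (F.je_Q p).mpr e), by rw [Conj, hp]; exact hconj⟩

theorem conj_move {x : V4 × M4} (hx : x ∈ moves) {p q : V4}
    (e : emul (0, x.1, x.2) (jel p) = emul (jel q) (0, x.1, x.2)) :
    IsConj (F.je p) (F.je q) := by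
  have hM : x.2 ∈ hl := ny_hl (List.contains_iff_mem.mp (List.all_eq_true.mp moves_mem x hx))
  refine isConj_iff.mpr ⟨F.el (0, x.1, x.2), mul_inv_eq_iff_eq_mul.mpr ?_⟩
  rw [je, je, F.mul _ _ (jel_mem q) hM, F.mul _ _ hM (jel_mem p), e]

theorem conj_iota {p q : V4} (hp : p.2.2.2 ≠ 0) (hq : q.2.2.2 ≠ 0) (e : iota p = iota q) (hc : F.Conj p) :
    F.Conj q := by
  obtain ⟨x, hx, hx'⟩ := List.any_eq_true.mp (moves_orbit p hp)
  obtain ⟨y, hy, hy'⟩ := List.any_eq_true.mp (moves_orbit q hq)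
  exact (IsConj.trans hc (F.conj_move hx (beq_iff_eq.mp hx')).symm).trans
    (e ▸ F.conj_move hy (beq_iff_eq.mp hy'))

theorem conj_neg (h2 : F.Conj (2, 0, 0, 0)) {p : V4} (hp : F.Conj p) : F.Conj (-p) := by
  have e : ((2, 0, 0, 0) : V4) = -((1, 0, 0, 0) : V4) := by decide
  rw [Conj, e, F.je_neg, F.je_z] at h2
  obtain ⟨g, hg⟩ := isConj_iff.mp hp
  exact h2.trans (isConj_iff.mpr ⟨g, by rw [← conj_inv, hg, F.je_neg]⟩)

/-- The action of the normalizer on `J`. -/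
noncomputable abbrev nuHom : ↥(normalizer (F.J : Set G)) →* MulAut ↥F.J := F.J.normalizerMonoidHom

theorem card_normalizer_aux : Nat.card ↥(normalizer (F.J : Set G)) = Nat.card {p // F.Conj p} * (3 * 81 * 48) ∧
    ∀ ℓ ∈ ([7, 11, 19, 37] : List ℕ), ¬ ℓ ∣ Nat.card {p // F.Conj p} := by
  classical
  letI : MulAction ↥(normalizer (F.J : Set G)) ↥F.J := MulAction.compHom ↥F.J F.nuHom
  let zJ : ↥F.J := ⟨h.D.z, F.z_J⟩
  set St := MulAction.stabilizer ↥(normalizer (F.J : Set G)) zJ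
  have hsm : ∀ (n : ↥(normalizer (F.J : Set G))) (a : ↥F.J), ((n • a : ↥F.J) : G) = n * a * (n : G)⁻¹ :=
    fun n a => rfl
  have horb : Nat.card ↥(MulAction.orbit ↥(normalizer (F.J : Set G)) zJ) = Nat.card {p // F.Conj p} := by
    refine (Nat.card_eq_of_bijective (fun p : {p // F.Conj p} => (⟨⟨F.je p.1, F.je_J _⟩, by
      obtain ⟨n, hn, hne⟩ := F.fuse F.z_J (F.je_J p.1) p.2
      exact ⟨⟨n, hn⟩, Subtype.ext hne⟩⟩ : ↥(MulAction.orbit ↥(normalizer (F.J : Set G)) zJ))) ⟨?_, ?_⟩).symm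
    · exact fun p q e => Subtype.ext (F.je_injective (congrArg (fun y => ((y.1 : ↥F.J) : G)) e))
    · rintro ⟨a, n, hn⟩
      obtain ⟨p, hp⟩ := F.mem_J.mp a.2
      refine ⟨⟨p, isConj_iff.mpr ⟨(n : G), ?_⟩⟩, Subtype.ext (Subtype.ext hp)⟩
      rw [hp, ← hn, hsm]
  have hidx : St.index = Nat.card {p // F.Conj p} := by
    rw [MulAction.index_stabilizer, ← horb]; rfl
  have hmemSt : ∀ n : ↥(normalizer (F.J : Set G)), n ∈ St ↔ (n : G) ∈ h.C := fun n => by
    rw [MulAction.mem_stabilizer_iff, Subtype.ext_iff, hsm, mul_inv_eq_iff_eq_mul]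
    exact mem_centralizer_singleton_iff.symm
  constructor
  · rw [← St.card_mul_index, hidx, mul_comm]
    congr 1
    refine (Nat.card_eq_of_bijective (fun x : ZMod 3 × V4 × {M // M ∈ nyList} =>
      (⟨⟨F.el (x.1, x.2.1, x.2.2.1), ?_⟩, (hmemSt _).mpr (F.mem _)⟩ : ↥St)) ⟨?_, ?_⟩).symm.trans ?_
    · rw [F.el_eq _ _ (ny_hl x.2.2.2)]
      refine mul_mem (pow_mem ?_ _) (F.ny_conj x.2.2.2 _)
      exact mem_normalizer_fintype fun a ha => mul_mem (mul_mem F.z_J ha) (inv_mem F.z_J)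
    · intro x y e
      have e' := F.inj _ _ (ny_hl x.2.2.2) (ny_hl y.2.2.2) (congrArg (fun n : ↥St => ((n.1 : _) : G)) e)
      simp only [Prod.mk.injEq] at e'
      exact Prod.ext e'.1 (Prod.ext e'.2.1 (Subtype.ext e'.2.2))
    · rintro ⟨⟨n, hn⟩, hnS⟩
      have hnC : n ∈ h.C := (hmemSt _).mp hnS
      obtain ⟨c, v, hM, e⟩ := F.mof_spec hnC
      obtain ⟨q, hq⟩ := F.mem_J.mp ((mem_normalizer_iff.mp hn _).mp (F.je_J (0, 0, 0, 1)))
      have hqk : q.2.2.2 ≠ 0 := fun e0 => by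
        have := (F.je_Q q).mpr e0
        rw [hq, mof_conj_Q (h := h) hnC, F.je_Q] at this
        exact one_ne_zero this
      have hm : mcomp (F.mof n) yM = mcomp (ypw q.2.2.2) (F.mof n) := by
        have e1 := congrArg F.mof (mul_inv_eq_iff_eq_mul.mp hq.symm)
        rw [F.mof_mul hnC (F.je_mem _), F.mof_mul (F.je_mem _) hnC, je, je, F.mof_el (jel_mem _),
          F.mof_el (jel_mem _)] at e1
        exact e1
      have hny : F.mof n ∈ nyList := by
        refine List.mem_filter.mpr ⟨hM, ?_⟩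
        rcases (by decide : ∀ a : ZMod 3, a ≠ 0 → a = 1 ∨ a = 2) _ hqk with ek | ek <;> rw [ek] at hm
        · rw [show ypw 1 = yM from rfl] at hm; simp [hm]
        · simp [hm]
      exact ⟨(c, v, ⟨_, hny⟩), Subtype.ext (Subtype.ext e)⟩
    · rw [Nat.card_prod, Nat.card_prod, Nat.card_zmod,
        Nat.card_congr (Equiv.subtypeEquivRight fun M => (List.mem_toFinset (l := nyList)).symm),
        Nat.card_eq_fintype_card (α := ↥nyList.toFinset), Fintype.card_coe,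
        List.toFinset_card_of_nodup ny_facts.2.1, ny_facts.1, show Nat.card V4 = 81 by
          simp only [Nat.card_prod, Nat.card_zmod]]
  · intro ℓ hℓ hd
    have hker : F.nuHom.rangeRestrict.ker ≤ St := fun n hn => by
      rw [MonoidHom.ker_rangeRestrict, MonoidHom.mem_ker] at hn
      rw [MulAction.mem_stabilizer_iff]
      show F.nuHom n zJ = zJ
      rw [hn]; rfl
    have hd2 : ℓ ∣ Nat.card F.nuHom.range := by
      refine hd.trans ?_
      rw [← hidx, ← Subgroup.index_map_eq St F.nuHom.rangeRestrict_surjective hker]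
      exact Subgroup.index_dvd_card _
    haveI : Fact ℓ.Prime := ⟨by fin_cases hℓ <;> norm_num⟩
    obtain ⟨α, hα⟩ := exists_prime_orderOf_dvd_card' ℓ hd2
    have hα1 : (α : MulAut ↥F.J) ≠ 1 := fun e => by
      rw [← Subgroup.orderOf_coe, e, orderOf_one] at hα
      exact (Fact.out : ℓ.Prime).one_lt.ne hα
    refine hα1 ?_
    letI : MulAction ↥(zpowers (α : MulAut ↥F.J)) ↥F.J := MulAction.compHom _ (zpowers _).subtype
    have hP : IsPGroup ℓ ↥(zpowers (α : MulAut ↥F.J)) := IsPGroup.of_card (n := 1) (by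
      rw [Nat.card_zpowers, Subgroup.orderOf_coe, hα, pow_one])
    have hmod := hP.card_modEq_card_fixedPoints ↥F.J
    let Fx : Subgroup ↥F.J := MonoidHom.eqLocus (α : MulAut ↥F.J).toMonoidHom (MonoidHom.id _)
    have hFx : Nat.card ↥(MulAction.fixedPoints ↥(zpowers (α : MulAut ↥F.J)) ↥F.J) = Nat.card ↥Fx := by
      refine Nat.card_congr ⟨fun a => ⟨a.1, a.2 ⟨_, mem_zpowers _⟩⟩, fun a => ⟨a.1, fun g => ?_⟩,
        fun _ => rfl, fun _ => rfl⟩
      obtain ⟨k, hk⟩ := mem_zpowers_iff.mp g.2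
      show (g : MulAut ↥F.J) a.1 = a.1
      have hst : (α : MulAut ↥F.J) ∈ MulAction.stabilizer (MulAut ↥F.J) a.1 := a.2
      rw [← hk]
      exact zpow_mem hst k
    rw [hFx, F.card_J] at hmod
    have hdv := Subgroup.card_subgroup_dvd_card Fx
    rw [F.card_J, show (81 : ℕ) = 3 ^ 4 from rfl] at hdv
    obtain ⟨k, hk4, hk⟩ := (Nat.dvd_prime_pow Nat.prime_three).mp hdv
    rw [hk] at hmod
    have hk' := no_fix ℓ hℓ k hk4 hmod
    have htop : Fx = ⊤ := Subgroup.eq_top_of_card_eq Fx (by rw [hk, hk', F.card_J]; norm_num)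
    exact MulEquiv.ext fun a => (htop ▸ mem_top a : a ∈ Fx)

/-- **The points conjugate to `z`.** -/
theorem conj_iff (p : V4) : F.Conj p ↔ p ∈ tpts := by
  classical
  set f : ZMod 3 → Bool := fun i => decide (F.Conj (i, 0, 0, 1))
  set b : Bool := decide (F.Conj (2, 0, 0, 0))
  have hiota : ∀ i : ZMod 3, iota (i, 0, 0, 1) = i := fun i => by simp [iota]
  have hrep : ∀ q : V4, q.2.2.2 ≠ 0 → (F.Conj q ↔ f (iota q) = true) := fun q hq => by
    rw [decide_eq_true_iff]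
    exact ⟨F.conj_iota hq (one_ne_zero (α := ZMod 3)) (hiota _).symm,
      F.conj_iota (one_ne_zero (α := ZMod 3)) hq (hiota _)⟩
  have hchar : ∀ q, F.Conj q ↔ q ∈ orbSet b f := fun q => by
    simp only [orbSet, Finset.mem_filter, Finset.mem_univ, true_and]
    constructor
    · intro hq
      by_cases hk : q.2.2.2 = 0
      · rcases F.conj_Q hq hk with e | e
        · exact Or.inl e
        · exact Or.inr (Or.inl ⟨e, decide_eq_true (e ▸ hq)⟩)
      · exact Or.inr (Or.inr ⟨hk, (hrep q hk).mp hq⟩)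
    · rintro (e | ⟨e, hb⟩ | ⟨hk, hf⟩)
      · exact e ▸ F.conj_z
      · exact e ▸ (decide_eq_true_iff.mp hb)
      · exact (hrep q hk).mpr hf
  obtain ⟨q0, hq0, hc0⟩ := F.exists_out
  have hone : f 0 = true ∨ f 1 = true ∨ f 2 = true := by
    have := (hrep q0 hq0).mp hc0
    rcases (by decide : ∀ a : ZMod 3, a = 0 ∨ a = 1 ∨ a = 2) (iota q0) with e | e | e <;> rw [e] at this
    exacts [Or.inl this, Or.inr (Or.inl this), Or.inr (Or.inr this)]
  have hsym : b = true → f 1 = f 2 := fun hb => by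
    have hn : ∀ i : ZMod 3, f i = true → f (-i) = true := fun i hi => by
      have h2 := F.conj_neg (decide_eq_true_iff.mp hb) (decide_eq_true_iff.mp hi)
      have := (hrep (-(i, 0, 0, 1)) (neg_ne_zero.mpr one_ne_zero)).mp h2
      rwa [jv_iota, hiota] at this
    have h12 := hn 1
    have h21 := hn 2
    rw [show -(1 : ZMod 3) = 2 from rfl] at h12
    rw [show -(2 : ZMod 3) = 1 from rfl] at h21
    cases e1 : f 1 <;> cases e2 : f 2 <;> simp_all
  have hcard : Nat.card {q // F.Conj q} = (orbSet b f).card := by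
    rw [Nat.card_congr (Equiv.subtypeEquivRight hchar), Nat.card_eq_fintype_card, Fintype.card_coe]
  obtain ⟨hb, h0, h1, h2⟩ := orbSet_card b f hone hsym fun ℓ hℓ => hcard ▸ F.card_normalizer_aux.2 ℓ hℓ
  rw [hchar, tpts_facts.2.2 p]
  simp only [orbSet, Finset.mem_filter, Finset.mem_univ, true_and, hb, and_true]
  rw [or_assoc]
  refine or_congr_right (or_congr_right (and_congr_right fun _ => ?_))
  rcases (by decide : ∀ a : ZMod 3, a = 0 ∨ a = 1 ∨ a = 2) (iota p) with e | e | e <;> rw [e] <;>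
    simp [h0, h1, h2] <;> exact (by decide : (2 : ZMod 3) ≠ 0)

theorem card_normalizer : Nat.card ↥(normalizer (F.J : Set G)) = 81 * 2880 := by
  classical
  rw [F.card_normalizer_aux.1, Nat.card_congr (Equiv.subtypeEquivRight fun q =>
      (F.conj_iff q).trans (List.mem_toFinset (l := tpts)).symm), Nat.card_eq_fintype_card,
    Fintype.card_coe, List.toFinset_card_of_nodup tpts_facts.1, tpts_facts.2.1]

theorem points_closed {n : G} {M : M4} (hn : F.RealBy n M) {p : V4} (hp : p ∈ tpts) : lin M p ∈ tpts := by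
  rw [← F.conj_iff] at hp ⊢
  exact IsConj.trans hp (isConj_iff.mpr ⟨n, hn p⟩)

/-- **Every map preserving the points is realised.** -/
theorem realise {M : M4} (hT : ∀ p ∈ tpts, lin M p ∈ tpts) (hn : (tpts.map (lin M)).Nodup) : F.Real M := by
  have hinj : ∀ p ∈ tpts, ∀ q ∈ tpts, lin M p = lin M q → p = q :=
    fun p hp q hq e => List.inj_on_of_nodup_map hn hp hq e
  obtain ⟨t1, t2, -⟩ : ((1, 0, 0, 0) : V4) ∈ tpts ∧ ((0, 0, 0, 1) : V4) ∈ tpts ∧ True :=
    ⟨(tpts_facts.2.2 _).mpr (Or.inl (Or.inl rfl)), (tpts_facts.2.2 _).mpr (Or.inr (by decide)), trivial⟩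
  obtain ⟨n, hnN, hne⟩ := F.fuse F.z_J (F.je_J (lin M (1, 0, 0, 0))) ((F.conj_iff _).mpr (hT _ t1))
  obtain ⟨A, hA⟩ := F.exists_realBy hnN
  obtain ⟨A', hA', hAA, -⟩ := F.realBy_inv hA
  have hAz : lin A (1, 0, 0, 0) = lin M (1, 0, 0, 0) := F.je_injective (by rw [← hA, F.je_z, hne])
  have hinvl : ∀ {P Q : M4}, mcomp P Q = m1 → ∀ x, lin P (lin Q x) = x := fun e x => by
    rw [← lin_mcomp, e, lin_one]
  have hA'A : mcomp A' A = m1 := by
    obtain ⟨A'', hA'', e1, e2⟩ := F.realBy_inv hA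
    rwa [RealBy.unique hA' hA'']
  obtain ⟨M1, hM1⟩ : ∃ M1, M1 = mcomp A' M := ⟨_, rfl⟩
  have h1T : ∀ p ∈ tpts, lin M1 p ∈ tpts := fun p hp => by
    rw [hM1, lin_mcomp]; exact F.points_closed hA' (hT p hp)
  have h1z : lin M1 (1, 0, 0, 0) = (1, 0, 0, 0) := by rw [hM1, lin_mcomp, ← hAz, hinvl hA'A]
  have h1i : ∀ p ∈ tpts, ∀ q ∈ tpts, lin M1 p = lin M1 q → p = q := fun p hp q hq e => by
    refine hinj p hp q hq ?_
    have := congrArg (lin A) e
    rwa [hM1, lin_mcomp, lin_mcomp, hinvl hAA, hinvl hAA] at this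
  obtain ⟨q, hq⟩ : ∃ q, q = lin M1 (0, 0, 0, 1) := ⟨_, rfl⟩
  have hqT : q ∈ tpts := hq ▸ h1T _ t2
  have hqk : q.2.2.2 ≠ 0 ∧ iota q = 0 := by
    rcases (tpts_facts.2.2 q).mp hqT with (e | e) | e
    · exact absurd (h1i _ t2 _ t1 (by rw [← hq, e, h1z])) (by decide)
    · refine absurd (h1i _ t2 (2, 0, 0, 0) ((tpts_facts.2.2 _).mpr (Or.inl (Or.inr rfl))) ?_) (by decide)
      rw [← hq, e, show ((2, 0, 0, 0) : V4) = V4.sm 2 (1, 0, 0, 0) by decide, lin_sm, h1z]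
    · exact e
  obtain ⟨x, hx, hx'⟩ := List.any_eq_true.mp (moves_orbit q hqk.1)
  have hxy : x.2 ∈ nyList := List.contains_iff_mem.mp (List.all_eq_true.mp moves_mem x hx)
  obtain ⟨E, hE⟩ := F.exists_realBy (F.ny_conj hxy x.1)
  have hEb : lin E (0, 0, 0, 1) = q := by
    refine F.je_injective ?_
    rw [← hE, mul_inv_eq_iff_eq_mul, je, je, F.mul _ _ (jel_mem q) (ny_hl hxy),
      F.mul _ _ (ny_hl hxy) (jel_mem _), ← beq_iff_eq.mp hx', hqk.2]
  have hEz : lin E (1, 0, 0, 0) = (1, 0, 0, 0) := by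
    refine F.je_injective ?_
    rw [← hE, mul_inv_eq_iff_eq_mul, je, F.mul _ _ (jel_mem _) (ny_hl hxy),
      F.mul _ _ (ny_hl hxy) (jel_mem _)]
    exact congrArg F.el (beq_iff_eq.mp (List.all_eq_true.mp (moves_z 1) x hx))
  obtain ⟨E', hE', hEE, hE'E⟩ := F.realBy_inv hE
  obtain ⟨M2, hM2⟩ : ∃ M2, M2 = mcomp E' M1 := ⟨_, rfl⟩
  have h2z : lin M2 (1, 0, 0, 0) = (1, 0, 0, 0) := by
    rw [hM2, lin_mcomp, h1z]
    nth_rewrite 1 [← hEz]
    exact hinvl hE'E _
  have h2b : lin M2 (0, 0, 0, 1) = (0, 0, 0, 1) := by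
    rw [hM2, lin_mcomp, ← hq, ← hEb, hinvl hE'E]
  obtain ⟨-, hb2, hb3⟩ := binv_eq
  have h2T : ∀ p ∈ tpts, lin M2 p ∈ tpts := fun p hp => by
    rw [hM2, lin_mcomp]; exact F.points_closed hE' (h1T p hp)
  have h2i : ∀ p ∈ tpts, ∀ q ∈ tpts, lin M2 p = lin M2 q → p = q := fun p hp q hq e => by
    refine h1i p hp q hq ?_
    have := congrArg (lin E) e
    rwa [hM2, lin_mcomp, lin_mcomp, hinvl hEE, hinvl hEE] at this
  have hM2eq : M2 = mcomp ((1, 0, 0, 0), (0, 0, 0, 1), lin M2 (1, 0, 1, 1), lin M2 (1, 1, 0, 1)) binv := by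
    conv_lhs => rw [← mcomp_one_right M2, ← binv_eq.1, ← mcomp_assoc]
    congr 1
    show (lin M2 _, lin M2 _, lin M2 _, lin M2 _) = _
    rw [h2z, h2b]
  have hr := of_decide_eq_true (List.all_eq_true.mp (List.all_eq_true.mp rigid8 _
    (h2T _ (List.contains_iff_mem.mp hb2))) _ (h2T _ (List.contains_iff_mem.mp hb3)))
  rw [← hM2eq] at hr
  obtain ⟨y, hy, hy'⟩ := List.any_eq_true.mp (hr (List.all_eq_true.mpr fun p hp =>
    List.contains_iff_mem.mpr (h2T p hp)) (tpts_facts.1.map_on fun a ha c hc e => h2i a ha c hc e))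
  have hy2 : y.1 ∈ nyList := List.contains_iff_mem.mp (List.all_eq_true.mp stab8_mem y hy)
  obtain ⟨B, hB⟩ := F.exists_realBy (F.ny_conj hy2 0)
  have hBM : B = M2 := by
    rw [← beq_iff_eq.mp hy']
    have key : ∀ p ∈ [(1, 0, 0, 0), (0, 1, 0, 0), (0, 0, 1, 0), ((0, 0, 0, 1) : V4)],
        lin B p = lin y.2 p := fun p hp => by
      refine F.je_injective ?_
      rw [← hB, mul_inv_eq_iff_eq_mul, je, je, F.mul _ _ (jel_mem _) (ny_hl hy2),
        F.mul _ _ (ny_hl hy2) (jel_mem _)]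
      exact congrArg F.el (beq_iff_eq.mp (List.all_eq_true.mp (List.all_eq_true.mp stab8_act y hy) p hp))
    obtain ⟨a1, a2, a3, a4⟩ := lin_unit B
    obtain ⟨b1, b2, b3, b4⟩ := lin_unit y.2
    have k1 := key (1, 0, 0, 0) (by simp)
    have k2 := key (0, 1, 0, 0) (by simp)
    have k3 := key (0, 0, 1, 0) (by simp)
    have k4 := key (0, 0, 0, 1) (by simp)
    rw [a1, b1] at k1
    rw [a2, b2] at k2
    rw [a3, b3] at k3
    rw [a4, b4] at k4
    exact Prod.ext k1 (Prod.ext k2 (Prod.ext k3 k4))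
  refine ⟨n * (F.el (0, x.1, x.2) * F.el (0, 0, y.1)), ?_⟩
  have := hA.mul (hE.mul (hBM ▸ hB))
  rwa [hM2, ← mcomp_assoc E, hEE, mcomp_one_left, hM1, ← mcomp_assoc, hAA, mcomp_one_left] at this

end Emb

end Cfsg.Agent.CoTwoThree
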