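import Cfsg.Agent.CoTwoThree.A.Quot

/-!
The local stage from the hypotheses of the statement.
-/

set_option autoImplicit false

namespace Cfsg.Agent.CoTwoThree

universe u

/-- **The local stage.** -/
theorem localStmt : LocalStmt.{u} := by
  intro G _ _ S Z C hh
  obtain ⟨h⟩ := exists_base hh
  obtain ⟨F⟩ := Base.exists_emb (h := h)
  exact F.exists_local F.quotA h.ext

end Cfsg.Agent.CoTwoThree
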