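import Cfsg.Agent.CoTwoThree.A.Frame

/-!
The local stage: no element of `Q` outside `⟨z⟩` is conjugate to `z`.
-/

set_option autoImplicit false
set_option maxRecDepth 20000
set_option synthInstance.maxSize 4000

open Subgroup
open scoped commutatorElement

namespace Cfsg.Agent.CoTwoThree

open Cfsg.Agent.McLLoc

universe u

theorem mcomp_hl_first {v : V4} (hv : v ≠ 0) : ∃ r ∈ reps, ∃ A ∈ sl24,
    mcomp r (dg2 A A) ∈ hl ∧ (mcomp r (dg2 A A)).1 = v := by
  obtain ⟨r, hr, hr'⟩ := List.any_eq_true.mp (first_col v hv)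
  obtain ⟨a, -, ha⟩ := List.any_eq_true.mp hr'
  simp only [Bool.and_eq_true, bne_iff_ne, ne_eq, beq_iff_eq] at ha
  obtain ⟨A, hA, hA'⟩ := List.any_eq_true.mp (sl_row a ha.1)
  rw [beq_iff_eq] at hA'
  have hr2 : r ∈ reps := List.contains_iff_mem.mp (List.all_eq_true.mp reps10_mem r hr)
  refine ⟨r, hr2, A, hA, List.mem_flatMap.mpr ⟨r, hr2, List.mem_map.mpr ⟨A, hA, rfl⟩⟩, ?_⟩
  rw [← ha.2, ← hA']
  rfl

theorem e1_ne : ((1, 0, 0, 0) : V4) ≠ 0 := by decide

theorem three_add : ∀ k : ZMod 3, k + (k + k) = 0 := by decide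

namespace Emb

variable {G : Type u} [Group G] [Finite G] {h : Base G} (F : Emb h)

open Classical in
/-- The matrix of an element of `C`. -/
noncomputable def mof (g : G) : M4 := if hg : g ∈ h.C then (F.surj g hg).choose.2.2 else m1

theorem mof_spec {g : G} (hg : g ∈ h.C) :
    ∃ c v, F.mof g ∈ hl ∧ F.el (c, v, F.mof g) = g := by
  rw [mof, dif_pos hg]
  exact ⟨_, _, (F.surj g hg).choose_spec.1, (F.surj g hg).choose_spec.2⟩

theorem mof_el {x : El} (hx : x.2.2 ∈ hl) : F.mof (F.el x) = x.2.2 := by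
  obtain ⟨c, v, hm, e⟩ := F.mof_spec (F.mem x)
  exact congrArg (fun y : El => y.2.2) (F.inj _ _ hm hx e)

theorem mof_mem {g : G} (hg : g ∈ h.C) : F.mof g ∈ hl := by
  obtain ⟨c, v, hm, -⟩ := F.mof_spec hg
  exact hm

theorem mof_mul {g g' : G} (hg : g ∈ h.C) (hg' : g' ∈ h.C) :
    F.mof (g * g') = mcomp (F.mof g) (F.mof g') := by
  obtain ⟨c, v, hm, e⟩ := F.mof_spec hg
  obtain ⟨c', v', hm', e'⟩ := F.mof_spec hg'
  conv_lhs => rw [← e, ← e', F.mul _ _ hm hm']
  rw [F.mof_el (F.closed _ hm _ hm')]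
  rfl

theorem mof_one : F.mof (1 : G) = m1 := F.one ▸ F.mof_el (x := (0, 0, m1)) m1_mem

theorem mof_inv {g : G} (hg : g ∈ h.C) :
    mcomp (F.mof g⁻¹) (F.mof g) = m1 ∧ mcomp (F.mof g) (F.mof g⁻¹) = m1 := by
  rw [← F.mof_mul (inv_mem hg) hg, ← F.mof_mul hg (inv_mem hg), inv_mul_cancel, mul_inv_cancel]
  exact ⟨F.mof_one, F.mof_one⟩

theorem mof_Q {g : G} (hg : g ∈ h.C) : g ∈ h.D.Q ↔ F.mof g = m1 := by
  obtain ⟨c, v, hm, e⟩ := F.mof_spec hg
  exact (e ▸ F.hQ _ hm :)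

theorem exists_q {g : G} (hg : g ∈ h.D.Q) : ∃ c v, F.el (c, v, m1) = g := by
  obtain ⟨c, v, hm, e⟩ := F.mof_spec (h.leQ hg)
  rw [(F.mof_Q (h.leQ hg)).mp hg] at e
  exact ⟨c, v, e⟩

theorem mof_SY {g : G} (hg : g ∈ F.SY) : ∃ k, F.mof g = ypw k := by
  obtain ⟨c, v, k, rfl⟩ := hg
  exact ⟨k, F.mof_el (ypw_mem k)⟩

theorem mof_conj_Q {c g : G} (hc : c ∈ h.C) : c * g * c⁻¹ ∈ h.D.Q ↔ g ∈ h.D.Q :=
  (mem_normalizer_iff.mp (h.normalQ hc) g).symm

include F in
/-- A three-subgroup of `C` has at most three cosets of `Q`. -/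
theorem three_group {P : Subgroup G} (hP : IsPGroup 3 P) (hC : P ≤ h.C) {a b : G} (ha : a ∈ P)
    (hb : b ∈ P) (haQ : a ∉ h.D.Q) : ∃ j : ℕ, j < 3 ∧ (a ^ j)⁻¹ * b ∈ h.D.Q := by
  obtain ⟨c, hc, hcP⟩ := F.exists_to_SY hP hC
  obtain ⟨k, hk⟩ := F.mof_SY (hcP a ha)
  obtain ⟨l, hl'⟩ := F.mof_SY (hcP b hb)
  have haC : c * a * c⁻¹ ∈ h.C := mul_mem (mul_mem hc (hC ha)) (inv_mem hc)
  have hk0 : k ≠ 0 := fun e => haQ ((mof_conj_Q (h := h) hc).mp ((F.mof_Q haC).mpr (by rw [hk, e, ypw_zero])))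
  refine ⟨(l * k).val, ZMod.val_lt _, (mof_conj_Q (h := h) hc).mp ?_⟩
  have hpow : ∀ n : ℕ, F.mof ((c * a * c⁻¹) ^ n) = ypw ((n : ZMod 3) * k) := fun n => by
    induction n with
    | zero => rw [pow_zero, F.mof_one, Nat.cast_zero, zero_mul, ypw_zero]
    | succ n ih =>
      rw [pow_succ, F.mof_mul (pow_mem haC n) haC, ih, hk, ypw_add, Nat.cast_succ]
      congr 1
      ring
  have hbC : c * b * c⁻¹ ∈ h.C := mul_mem (mul_mem hc (hC hb)) (inv_mem hc)
  have hinv := (F.mof_inv (pow_mem haC (l * k).val)).1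
  have hl2 : l = (((l * k).val : ℕ) : ZMod 3) * k := by
    rw [ZMod.natCast_zmod_val, mul_assoc, (by decide : ∀ k : ZMod 3, k ≠ 0 → k * k = 1) k hk0, mul_one]
  rw [show c * ((a ^ (l * k).val)⁻¹ * b) * c⁻¹ = ((c * a * c⁻¹) ^ (l * k).val)⁻¹ * (c * b * c⁻¹) by
    rw [conj_pow]; group]
  refine (F.mof_Q (mul_mem (inv_mem (pow_mem haC _)) hbC)).mpr ?_
  rw [F.mof_mul (inv_mem (pow_mem haC _)) hbC, hl', hl2, ← hpow]
  rwa [← hl2]

include F in
theorem card_le_inf {P : Subgroup G} (hP : IsPGroup 3 P) (hC : P ≤ h.C) :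
    Nat.card P ≤ 3 * Nat.card ↥(P ⊓ h.D.Q) := by
  by_cases hle : P ≤ h.D.Q
  · rw [inf_of_le_left hle]; omega
  obtain ⟨a, ha, haQ⟩ := SetLike.not_le_iff_exists.mp hle
  have hs : Function.Surjective fun x : Fin 3 × ↥(P ⊓ h.D.Q) =>
      (⟨a ^ (x.1 : ℕ) * x.2, mul_mem (pow_mem ha _) x.2.2.1⟩ : ↥P) := by
    intro b
    obtain ⟨j, hj, hjb⟩ := F.three_group hP hC ha b.2 haQ
    exact ⟨(⟨j, hj⟩, ⟨(a ^ j)⁻¹ * b, mem_inf.mpr ⟨P.mul_mem (P.inv_mem (P.pow_mem ha j)) b.2, hjb⟩⟩),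
      Subtype.ext (mul_inv_cancel_left _ _)⟩
  have := Nat.card_le_card_of_surjective _ hs
  rwa [Nat.card_prod, Nat.card_fin] at this

/-- Every element of `Q` outside the centre is conjugate in `C` to a standard one. -/
theorem conj_e1 {x : G} (hx : x ∈ h.D.Q) (hz : x ∉ zpowers h.D.z) :
    ∃ c ∈ h.C, ∃ a, c * x * c⁻¹ = F.el (a, (1, 0, 0, 0), m1) := by
  obtain ⟨a, v, rfl⟩ := F.exists_q hx
  have hv : v ≠ 0 := fun e => hz (by rw [e, F.el_central]; exact npow_mem_zpowers _ _)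
  obtain ⟨r, -, A, -, hM, hM1⟩ := mcomp_hl_first hv
  refine ⟨(F.el (0, 0, mcomp r (dg2 A A)))⁻¹, inv_mem (F.mem _), a, ?_⟩
  rw [inv_inv, mul_assoc, inv_mul_eq_iff_eq_mul, F.mul _ _ m1_mem hM, F.mul _ _ hM m1_mem]
  congr 1
  simp only [emul, lin_one, lin_unit, hM1, mcomp_one_left, mcomp_one_right]
  refine Prod.ext ?_ (Prod.ext ?_ rfl) <;> simp [bB]

theorem el_comm {M : M4} (hM : M ∈ hl) (h1 : M.1 = (1, 0, 0, 0)) (c : ZMod 3) :
    Commute (F.el (0, 0, M)) (F.el (c, (1, 0, 0, 0), m1)) := by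
  show _ * _ = _ * _
  rw [F.mul _ _ hM m1_mem, F.mul _ _ m1_mem hM]
  congr 1
  simp only [emul, lin_one, lin_unit, h1, mcomp_one_left, mcomp_one_right]
  refine Prod.ext ?_ (Prod.ext ?_ rfl) <;> simp [bB]

theorem mem_cent_e1 {a c : ZMod 3} {v : V4} :
    F.el (c, v, m1) ∈ centralizer ({F.el (a, (1, 0, 0, 0), m1)} : Set G) ↔ v.2.1 = 0 := by
  rw [mem_centralizer_singleton_iff, F.mul _ _ m1_mem m1_mem, F.mul _ _ m1_mem m1_mem]
  constructor
  · intro e
    have e' := congrArg (fun x : El => x.1)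
      (F.inj _ _ (F.closed _ m1_mem _ m1_mem) (F.closed _ m1_mem _ m1_mem) e)
    simp only [emul, lin_one, bB] at e'
    have : v.2.1 + v.2.1 = 0 := by linear_combination e'
    exact (by decide : ∀ x : ZMod 3, x + x = 0 → x = 0) _ this
  · intro e
    congr 1
    simp only [emul, lin_one]
    refine Prod.ext ?_ (Prod.ext (add_comm _ _) rfl)
    simp [bB, e]
    ring

theorem card_cent_e1 (a : ZMod 3) :
    Nat.card ↥(h.D.Q ⊓ centralizer ({F.el (a, (1, 0, 0, 0), m1)} : Set G)) = 81 := by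
  have e : Function.Bijective fun x : ZMod 3 × ZMod 3 × ZMod 3 × ZMod 3 =>
      (⟨F.el (x.1, (x.2.1, 0, x.2.2.1, x.2.2.2), m1), F.el_q _ _, F.mem_cent_e1.mpr rfl⟩ :
        ↥(h.D.Q ⊓ centralizer ({F.el (a, (1, 0, 0, 0), m1)} : Set G))) := by
    refine ⟨fun x y e => ?_, fun g => ?_⟩
    · have e' := F.inj _ _ m1_mem m1_mem (congrArg Subtype.val e)
      simp only [Prod.mk.injEq] at e'
      exact Prod.ext e'.1 (Prod.ext e'.2.1.1 (Prod.ext e'.2.1.2.2.1 e'.2.1.2.2.2))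
    · obtain ⟨c, v, e⟩ := F.exists_q g.2.1
      have hv := F.mem_cent_e1.mp (e ▸ g.2.2 : F.el (c, v, m1) ∈ centralizer _)
      refine ⟨(c, v.1, v.2.2.1, v.2.2.2), Subtype.ext ?_⟩
      rw [← e]
      show F.el (c, (v.1, 0, v.2.2.1, v.2.2.2), m1) = _
      rw [← hv]
  rw [← Nat.card_congr (Equiv.ofBijective _ e)]
  simp only [Nat.card_prod, Nat.card_zmod]

theorem pair_comm : F.el (0, (0, 0, 1, 0), m1) * F.el (0, (0, 0, 0, 1), m1)
    = h.D.z * (F.el (0, (0, 0, 0, 1), m1) * F.el (0, (0, 0, 1, 0), m1)) := by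
  rw [← F.hz, F.mul _ _ m1_mem m1_mem, F.mul _ _ m1_mem m1_mem, F.mul _ _ m1_mem (F.closed _ m1_mem _ m1_mem)]
  congr 1

theorem not_fused_e1 {g : G} {a : ZMod 3} (hg : g * h.D.z * g⁻¹ = F.el (a, (1, 0, 0, 0), m1)) : False := by
  haveI : Fact (Nat.Prime 3) := ⟨Nat.prime_three⟩
  set x := F.el (a, (1, 0, 0, 0), m1) with hxd
  have hxQ : x ∈ h.D.Q := F.el_q _ _
  have hzx : Commute h.D.z x := h.D.z_comm x hxQ
  set φ := MulAut.conj g⁻¹
  have hφ : ∀ y, φ y = g⁻¹ * y * g := fun y => by simp [φ]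
  have hφx : φ x = h.D.z := by rw [hφ, ← hg]; group
  set z' := φ h.D.z with hz'd
  have hz'C : z' ∈ h.C := mem_centralizer_singleton_iff.mpr (by rw [← hφx]; exact (hzx.map φ).eq)
  have hz'n : z' ∉ zpowers h.D.z := fun e => by
    obtain ⟨k, hk⟩ := mem_zpowers_iff.mp e
    have e2 : h.D.z = x ^ k := φ.injective (by rw [map_zpow, hφx]; exact hk.symm)
    have ho : orderOf x = 3 := by
      rw [← φ.orderOf_eq, hφx, h.D.z_ord]
    have heq := zpowers_eq_of_prime (p := 3) (Z := zpowers x) (by rw [Nat.card_zpowers, ho])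
      (e2 ▸ zpow_mem (mem_zpowers x) k) (fun e3 => by
        have := h.D.z_ord; rw [e3, orderOf_one] at this; norm_num at this)
    have hxz : x ∈ zpowers h.D.z := heq ▸ mem_zpowers x
    obtain ⟨b, hb⟩ := h.D.exists_zpow hxz
    rw [hxd, ← F.el_central] at hb
    exact e1_ne (congrArg (fun y : El => y.2.1) (F.inj _ _ m1_mem m1_mem hb))
  let N0 : Subgroup G := h.D.Q ⊓ centralizer ({x} : Set G)
  let N : Subgroup G := N0.map φ.toMonoidHom
  have hN0 : Nat.card ↥N0 = 81 := F.card_cent_e1 a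
  have hN0p : IsPGroup 3 ↥N0 := IsPGroup.of_card (n := 4) (by rw [hN0]; norm_num)
  have hN : ∀ y ∈ N, y ∈ h.C ∧ Commute y z' := by
    rintro _ ⟨y, ⟨hyQ, hyx⟩, rfl⟩
    exact ⟨mem_centralizer_singleton_iff.mpr
      (hφx ▸ (show Commute y x from mem_centralizer_singleton_iff.mp hyx).map φ).eq,
      (show Commute y h.D.z from (h.D.z_comm y hyQ).symm).map φ⟩
  have hNQ : N ≤ h.D.Q := by
    by_cases hzQ : z' ∈ h.D.Q
    swap
    · exfalso
      obtain ⟨hsA, -, hsA1, -, hsne, hs3⟩ := st_facts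
      have hsA' : stA ∈ hl := List.contains_iff_mem.mp hsA
      let m := F.el (0, 0, stA)
      have hmx : Commute m x := F.el_comm hsA' hsA1 a
      have hmQ : m ∉ h.D.Q := fun e => hsne ((F.hQ _ hsA').mp e)
      have hm3 : m ^ 3 = 1 := by
        rw [pow_succ', pow_two, F.mul _ _ hsA' hsA', F.mul _ _ hsA' (F.closed _ hsA' _ hsA'), ← F.one]
        congr 1
        simp only [emul, lin_zero, bB_zero_right, add_zero, sub_zero, hs3]
      have hmn : zpowers m ≤ normalizer (N0 : Set G) := zpowers_le.mpr (mem_normalizer_fintype fun y hy =>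
        ⟨(mof_conj_Q (h := h) (F.mem _)).mpr hy.1, mem_centralizer_singleton_iff.mpr
          ((show Commute m x from hmx).mul_left (mem_centralizer_singleton_iff.mp hy.2) |>.mul_left
            hmx.inv_left).eq⟩)
      have hmp : IsPGroup 3 ↥(zpowers m) := by
        rcases (Nat.dvd_prime Nat.prime_three).mp (orderOf_dvd_of_pow_eq_one hm3) with e | e
        · exact IsPGroup.of_card (n := 0) (by rw [Nat.card_zpowers, e, pow_zero])
        · exact IsPGroup.of_card (n := 1) (by rw [Nat.card_zpowers, e, pow_one])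
      have hP : IsPGroup 3 ↥(zpowers m ⊔ N0) := hmp.to_sup_of_normal_right' hN0p hmn
      set P := zpowers m ⊔ N0
      have hPx : P ≤ centralizer ({x} : Set G) :=
        sup_le (zpowers_le.mpr (mem_centralizer_singleton_iff.mpr hmx.eq)) inf_le_right
      have hPC : P ≤ h.C := sup_le (zpowers_le.mpr (F.mem _)) (inf_le_left.trans h.leQ)
      have h243 : 243 ≤ Nat.card ↥P := by
        obtain ⟨n, hn⟩ := IsPGroup.iff_card.mp hP
        have hlt : N0 < P := lt_of_le_of_ne le_sup_right fun e =>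
          hmQ ((e ▸ le_sup_left : zpowers m ≤ N0) (mem_zpowers m)).1
        rcases Nat.lt_or_ge n 5 with hn5 | hn5
        · refine absurd (eq_of_le_of_card_ge hlt.le ?_) hlt.ne
          rw [hn, hN0]
          exact (Nat.pow_le_pow_right (n := 3) (by norm_num) (Nat.le_of_lt_succ hn5) :)
        · rw [hn]; exact le_trans (by norm_num) (Nat.pow_le_pow_right (n := 3) (i := 5) (j := n) (by norm_num) hn5)
      let P' := P.map φ.toMonoidHom
      have hP'C : P' ≤ h.C := by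
        rintro _ ⟨y, hy, rfl⟩
        exact mem_centralizer_singleton_iff.mpr
          (hφx ▸ (show Commute y x from mem_centralizer_singleton_iff.mp (hPx hy)).map φ).eq
      have hP' : IsPGroup 3 ↥P' := hP.map _
      have hle := F.card_le_inf hP' hP'C
      rw [show Nat.card ↥P' = Nat.card ↥P from card_map_of_injective φ.injective] at hle
      have h27 : Nat.card ↥(P' ⊓ h.D.Q) ≤ 27 := by
        have hz3 : IsPGroup 3 ↥(zpowers z') := IsPGroup.of_card (n := 1) (by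
          rw [Nat.card_zpowers, hz'd, φ.orderOf_eq, h.D.z_ord, pow_one])
        obtain ⟨c, hc, hcz⟩ := F.exists_to_SY hz3 (zpowers_le.mpr hz'C)
        obtain ⟨c1, v, k, e⟩ := hcz z' (mem_zpowers _)
        have hk : k ≠ 0 := fun e' => hzQ ((mof_conj_Q (h := h) hc).mp (by
          rw [← e, e', ypw_zero]; exact F.el_q _ _))
        have key : ∀ y ∈ P' ⊓ h.D.Q, ∃ b w, F.el (b, w, m1) = c * y * c⁻¹ ∧ w.1 = 0 ∧ w.2.2.2 = 0 := by
          rintro y ⟨hy, hyQ⟩
          obtain ⟨b, w, e'⟩ := F.exists_q ((mof_conj_Q (h := h) hc).mpr hyQ)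
          refine ⟨b, w, e', ?_⟩
          have hcm : Commute (F.el (b, w, m1)) (F.el (c1, v, ypw k)) := by
            rw [e', e]
            obtain ⟨y0, hy0, rfl⟩ := hy
            exact (Commute.conj_iff c).mpr
              ((show Commute y0 h.D.z from mem_centralizer_singleton_iff.mp (hPC hy0)).map φ)
          rw [commute_iff_eq, F.mul _ _ m1_mem (ypw_mem k), F.mul _ _ (ypw_mem k) m1_mem] at hcm
          have e2 := congrArg (fun y : El => y.2.1)
            (F.inj _ _ (F.closed _ m1_mem _ (ypw_mem k)) (F.closed _ (ypw_mem k) _ m1_mem) hcm)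
          simp only [emul, lin_one] at e2
          exact ypw_fixes k hk w (by rw [add_comm w v] at e2; exact (add_left_cancel e2).symm)
        choose fb fw hfe hf1 hf4 using key
        have hinj : Function.Injective fun y : ↥(P' ⊓ h.D.Q) =>
            ((fb y y.2, (fw y y.2).2.1, (fw y y.2).2.2.1) : ZMod 3 × ZMod 3 × ZMod 3) := by
          intro y y' e'
          simp only [Prod.mk.injEq] at e'
          have hw : fw y y.2 = fw y' y'.2 := Prod.ext (by rw [hf1, hf1])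
            (Prod.ext e'.2.1 (Prod.ext e'.2.2 (by rw [hf4, hf4])))
          have := hfe y y.2
          rw [e'.1, hw, hfe y' y'.2] at this
          exact Subtype.ext (mul_left_cancel (mul_right_cancel this)).symm
        have := Nat.card_le_card_of_injective _ hinj
        simpa [Nat.card_prod, Nat.card_zmod] using this
      omega
    intro n hn
    by_contra hnQ
    have hz1 : z' ∈ h.D.Q := hzQ
    obtain ⟨c, hc, a1, e⟩ := F.conj_e1 hz1 hz'n
    set n' := c * n * c⁻¹ with hn'd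
    have hn'C : n' ∈ h.C := mul_mem (mul_mem hc (hN n hn).1) (inv_mem hc)
    have hn'Q : n' ∉ h.D.Q := fun e' => hnQ ((mof_conj_Q (h := h) hc).mp e')
    have hcom : Commute n' (F.el (a1, (1, 0, 0, 0), m1)) := e ▸ (Commute.conj_iff c).mpr (hN n hn).2
    set M := F.mof n'
    have hM : M ∈ hl := F.mof_mem hn'C
    obtain ⟨b, v, -, hel⟩ := F.mof_spec hn'C
    have hM1 : M.1 = (1, 0, 0, 0) := by
      rw [← hel, commute_iff_eq, F.mul _ _ hM m1_mem, F.mul _ _ m1_mem hM] at hcom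
      have e2 := congrArg (fun y : El => y.2.1)
        (F.inj _ _ (F.closed _ hM _ m1_mem) (F.closed _ m1_mem _ hM) hcom)
      simp only [emul, lin_one, lin_unit] at e2
      rw [add_comm (_ : V4) v] at e2
      exact add_left_cancel e2
    have hMne : M ≠ m1 := fun e' => hn'Q ((F.mof_Q hn'C).mpr e')
    have hNp : IsPGroup 3 ↥N := hN0p.map _
    have hNC : N ≤ h.C := fun y hy => (hN y hy).1
    let N' := N.map (MulAut.conj c).toMonoidHom
    have hN'C : N' ≤ h.C := by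
      rintro _ ⟨y, hy, rfl⟩
      exact mul_mem (mul_mem hc (hNC hy)) (inv_mem hc)
    have hN'p : IsPGroup 3 ↥N' := hNp.map _
    have hn'N : n' ∈ N' := ⟨n, hn, rfl⟩
    have hM3 : mcomp M (mcomp M M) = m1 := by
      obtain ⟨cs, hcs, hSY⟩ := F.exists_to_SY hN'p hN'C
      obtain ⟨k, hk⟩ := F.mof_SY (hSY n' hn'N)
      have h3 : F.mof ((cs * n' * cs⁻¹) * ((cs * n' * cs⁻¹) * (cs * n' * cs⁻¹))) = m1 := by
        have hC' : cs * n' * cs⁻¹ ∈ h.C := mul_mem (mul_mem hcs hn'C) (inv_mem hcs)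
        rw [F.mof_mul hC' (mul_mem hC' hC'), F.mof_mul hC' hC', hk, ypw_add, ypw_add,
          three_add k, ypw_zero]
      have h3' : n' * (n' * n') ∈ h.D.Q := by
        refine (mof_conj_Q (h := h) hcs).mp ?_
        rw [show cs * (n' * (n' * n')) * cs⁻¹ = (cs * n' * cs⁻¹) * ((cs * n' * cs⁻¹) * (cs * n' * cs⁻¹)) by group]
        have hC' : cs * n' * cs⁻¹ ∈ h.C := mul_mem (mul_mem hcs hn'C) (inv_mem hcs)
        exact (F.mof_Q (mul_mem hC' (mul_mem hC' hC'))).mpr h3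
      rw [← F.mof_mul hn'C hn'C, ← F.mof_mul hn'C (mul_mem hn'C hn'C)]
      exact (F.mof_Q (mul_mem hn'C (mul_mem hn'C hn'C))).mp h3'
    have key : ∀ L ∈ hl, L.1 = (1, 0, 0, 0) → mcomp L M = mcomp M L ∨ mcomp L M = mcomp (mcomp M M) L := by
      intro L hL hL1
      let l := F.el (0, 0, L)
      have hlC : l ∈ h.C := F.mem _
      have hlz : Commute l (c * z' * c⁻¹) := e ▸ F.el_comm hL hL1 a1
      have hl'N : l * n' * l⁻¹ ∈ N' := by
        obtain ⟨y0, hy0, hy0e⟩ := hn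
        have hlc : c⁻¹ * l * c ∈ h.C := mul_mem (mul_mem (inv_mem hc) hlC) hc
        have hd1 : Commute (g * (c⁻¹ * l * c) * g⁻¹) h.D.z := by
          rw [show h.D.z = g * z' * g⁻¹ by rw [hz'd, hφ]; group]
          refine (Commute.conj_iff g).mpr ?_
          have := (Commute.conj_iff c⁻¹).mpr hlz
          rwa [inv_inv, show c⁻¹ * (c * z' * c⁻¹) * c = z' by group] at this
        have hd2 : Commute (g * (c⁻¹ * l * c) * g⁻¹) x := by
          rw [← hg]
          exact (Commute.conj_iff g).mpr (mem_centralizer_singleton_iff.mp hlc)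
        refine ⟨φ (g * (c⁻¹ * l * c) * g⁻¹ * y0 * (g * (c⁻¹ * l * c) * g⁻¹)⁻¹), ⟨_, ⟨?_, ?_⟩, rfl⟩, ?_⟩
        · exact (mof_conj_Q (h := h) (mem_centralizer_singleton_iff.mpr hd1.eq)).mpr hy0.1
        · exact mem_centralizer_singleton_iff.mpr
            ((hd2.mul_left (mem_centralizer_singleton_iff.mp hy0.2)).mul_left hd2.inv_left).eq
        · show c * φ _ * c⁻¹ = _
          rw [hn'd, ← hy0e]
          show c * φ _ * c⁻¹ = l * (c * φ y0 * c⁻¹) * l⁻¹
          rw [hφ, hφ]; group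
      obtain ⟨j, hj, hjQ⟩ := F.three_group hN'p hN'C hn'N hl'N hn'Q
      have hlnC : l * n' * l⁻¹ ∈ h.C := hN'C hl'N
      have hLM : mcomp L M = mcomp (F.mof (n' ^ j)) L := by
        have e1 : F.mof (l * n' * l⁻¹) = F.mof (n' ^ j) := by
          have := F.mof_mul (pow_mem hn'C j) (h.leQ hjQ)
          rw [mul_inv_cancel_left, (F.mof_Q (h.leQ hjQ)).mp hjQ, mcomp_one_right] at this
          exact this
        rw [← e1, show L = F.mof l from (F.mof_el (x := (0, 0, L)) hL).symm, ← F.mof_mul hlC hn'C,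
          ← F.mof_mul hlnC hlC, inv_mul_cancel_right]
      interval_cases j
      · rw [pow_zero, F.mof_one, mcomp_one_left] at hLM
        refine absurd ?_ hMne
        have := congrArg (mcomp (F.mof l⁻¹)) hLM
        rwa [← mcomp_assoc, show L = F.mof l from (F.mof_el (x := (0, 0, L)) hL).symm, (F.mof_inv hlC).1,
          mcomp_one_left] at this
      · rw [pow_one] at hLM; exact Or.inl hLM
      · rw [pow_two, F.mof_mul hn'C hn'C] at hLM; exact Or.inr hLM
    obtain ⟨hA, hB, hA1, hB1, -, -⟩ := st_facts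
    exact of_decide_eq_true (List.all_eq_true.mp st_no M hM) hM1 hMne hM3
      ⟨key _ (List.contains_iff_mem.mp hA) hA1, key _ (List.contains_iff_mem.mp hB) hB1⟩
  have hpm : ∀ v : V4, v.2.1 = 0 → φ (F.el (0, v, m1)) ∈ h.D.Q := fun v hv =>
    hNQ ⟨_, ⟨F.el_q _ _, F.mem_cent_e1.mpr hv⟩, rfl⟩
  have e := congrArg φ F.pair_comm
  rw [map_mul, map_mul, map_mul, ← mul_inv_eq_iff_eq_mul, mul_inv_rev, ← mul_assoc] at e
  refine hz'n ?_
  rw [hz'd, ← e]
  exact h.D.comm_mem _ (hpm (0, 0, 1, 0) rfl) _ (hpm (0, 0, 0, 1) rfl)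

include F in
/-- No element of `Q` outside `⟨z⟩` is conjugate to `z`. -/
theorem not_fused {x : G} (hx : x ∈ h.D.Q) (hz : x ∉ zpowers h.D.z) : ¬ IsConj h.D.z x := by
  intro hc
  obtain ⟨g, hg⟩ := isConj_iff.mp hc
  obtain ⟨c, -, a, e⟩ := F.conj_e1 hx hz
  exact F.not_fused_e1 (g := c * g) (a := a) (by rw [← e, ← hg]; group)

end Emb

end Cfsg.Agent.CoTwoThree
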