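import Cfsg.Agent.CoTwoThree.A.Fusion
import Cfsg.Agent.Sp6Local.Basic

/-!
The local stage: decidable facts for the quotient of the centralizer of a non-central element of `Q`.
-/

set_option autoImplicit false
set_option maxRecDepth 100000
set_option synthInstance.maxSize 4000

namespace Cfsg.Agent.CoTwoThree

open Cfsg.Agent.McLLoc
open Cfsg.Agent.Sym9ThreeLocal (W act inK Kind vec)

/-- The matrices fixing the second unit vector. -/
def stabA : List M4 := hl.filter fun M => M.2.1 == (0, 1, 0, 0)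

/-- The action on the perpendicular of the second unit vector modulo that vector. -/
def fX (M : M4) : PSp43Amalgam.SL3 :=
  if hd : M.2.2.1.2.2.1 * M.2.2.2.2.2.2 - M.2.2.2.2.2.1 * M.2.2.1.2.2.2 = 1 then
    ⟨!![M.2.2.1.2.2.1, M.2.2.2.2.2.1; M.2.2.1.2.2.2, M.2.2.2.2.2.2], by
      rw [Matrix.det_fin_two_of, hd]⟩
  else 1

theorem fX_mul_all : (stabA.all fun M => stabA.all fun N => decide (fX (mcomp M N) = fX M * fX N)) = true := by
  decide +kernel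

theorem fX_surj : ∀ A : PSp43Amalgam.SL3, (stabA.any fun M => decide (fX M = A)) = true := by
  decide +kernel

theorem fX_ker : (stabA.all fun M => decide (fX M = 1 → M = m1)) = true := by decide +kernel

theorem fX_one : fX m1 = 1 := by decide +kernel

/-- The images of `z` and of the roots used below. -/
theorem quot_facts :
    jv 1 0 = -((0, 1, 0, 0) : V4) ∧ jv 1 0 + jv 2 0 = (1, 0, 0, 0) ∧
    (∀ i : ZMod 3, jv 0 1 + jv 3 1 ≠ (1, 0, 0, 0) + (0, i, 0, 0) ∧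
      jv 0 1 + jv 3 1 ≠ (2, 0, 0, 0) + (0, i, 0, 0)) ∧
    jv 2 3 + jv 2 4 = jv 0 1 + jv 5 1 := by decide +kernel

/-- The four kinds of cosets of the line of the root. -/
theorem quot_classes : ∀ p : V4,
    (∃ i : ZMod 3, p = (0, i, 0, 0)) ∨
    (∃ i : ZMod 3, ∃ k : Fin 6, 2 ≤ k ∧
      (p + (0, i, 0, 0) = jv 0 1 + jv k 1 ∨ p + (0, i, 0, 0) = -(jv 0 1 + jv k 1))) ∨
    (∃ i l : ZMod 3, p + (0, i, 0, 0) ∈ tpts ∧ p + (0, l, 0, 0) ∈ tpts ∧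
      p + (0, l, 0, 0) ≠ p + (0, i, 0, 0) ∧ p + (0, l, 0, 0) ≠ -(p + (0, i, 0, 0)) ∧
      ∀ m : ZMod 3, p + (0, i + m, 0, 0) ∈ tpts → p + (0, l + m, 0, 0) ∈ tpts → m = 0) ∨
    (∃ i : ZMod 3, ∃ s t : Fin 6, 2 ≤ s ∧ 2 ≤ t ∧ s ≠ t ∧ p + (0, i, 0, 0) = jv s t) := by
  decide +kernel

theorem swap_moves : ∀ s t : Fin 6, 2 ≤ s → 2 ≤ t → s ≠ t → ∀ r ∈ ([3, 4] : List (Fin 6)),
    let σ := Equiv.swap r (Equiv.swap 2 s t) * Equiv.swap 2 s
    σ 0 = 0 ∧ σ 1 = 1 ∧ σ s = 2 ∧ σ t = r := by decide +kernel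

theorem swap_two_fix : ∀ k : Fin 6, 2 ≤ k →
    Equiv.swap 2 k 0 = 0 ∧ Equiv.swap 2 k 1 = 1 ∧ Equiv.swap 2 k 2 = k := by decide +kernel

theorem e1_orbit : ∀ q : W, act q Sym9ThreeLocal.e1 ∈
    ([vec 1 0 0, vec 2 0 0, vec 0 1 0, vec 0 2 0, vec 0 0 1, vec 0 0 2] : List Sym9ThreeLocal.A) := by
  decide +kernel

theorem e1_pairs : ∀ u ∈ ([vec 1 0 0, vec 2 0 0, vec 0 1 0, vec 0 2 0, vec 0 0 1, vec 0 0 2] : List Sym9ThreeLocal.A),
    ∀ v ∈ ([vec 1 0 0, vec 2 0 0, vec 0 1 0, vec 0 2 0, vec 0 0 1, vec 0 0 2] : List Sym9ThreeLocal.A),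
    ∀ w : W, act w Sym9ThreeLocal.xA ≠ u * v := by decide +kernel

theorem e1_facts : Sym9ThreeLocal.e1 ≠ 1 ∧
    ∀ w : W, act w Sym9ThreeLocal.xA ≠ Sym9ThreeLocal.e1 ∧
      act w Sym9ThreeLocal.xA ≠ Sym9ThreeLocal.e1⁻¹ := by decide +kernel

end Cfsg.Agent.CoTwoThree
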