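import Cfsg.Agent.CoTwoThree.A.Fields
import Cfsg.Agent.CoTwoThree.A.QuotModel
import Cfsg.Agent.Sp6Local.Dispatch
import Cfsg.Agent.Sp6Local.KindFour
import Cfsg.Agent.Sp6Local.TwoCase
import Mathlib.GroupTheory.SchurZassenhaus

/-!
The local stage: the centralizer of a non-central root element of `Q` modulo that element is the
automorphism group of `PSp(4,3)`.
-/

set_option autoImplicit false
set_option maxRecDepth 100000
set_option synthInstance.maxSize 4000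

open Subgroup

namespace Cfsg.Agent.CoTwoThree

open Cfsg.Agent.McLLoc

universe u

theorem v4_three : ∀ p : V4, p + p + p = 0 := by decide +kernel

theorem z3_neg_fix : ∀ t : ZMod 3, t = -t → t = 0 := by decide

namespace Emb

variable {G : Type u} [Group G] [Finite G] {h : Base G} (F : Emb h)

/-- The centralizer of the root element. -/
noncomputable abbrev Ca : Subgroup G := centralizer ({F.root 0 1} : Set G)

/-- The line of the root element. -/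
noncomputable abbrev Za : Subgroup ↥F.Ca := (zpowers (F.root 0 1)).subgroupOf F.Ca

theorem Za_normal : F.Za.Normal := ⟨fun y hy d => by
  rw [mem_subgroupOf] at hy ⊢
  obtain ⟨i, hi⟩ := mem_zpowers_iff.mp hy
  have hd : Commute (d : G) (F.root 0 1) := mem_centralizer_singleton_iff.mp d.2
  rw [coe_mul, coe_mul, coe_inv, ← hi, (hd.zpow_right i).eq, mul_inv_cancel_right]
  exact zpow_mem (mem_zpowers _) i⟩

attribute [local instance] Za_normal

theorem root01 : F.root 0 1 = F.je (0, 1, 0, 0) := by rw [root, jv_facts.1]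

theorem mem_line {g : G} : g ∈ zpowers (F.root 0 1) ↔ ∃ i : ZMod 3, F.je (0, i, 0, 0) = g := by
  rw [F.root01]
  have e : ∀ i : ZMod 3, ((0, i, 0, 0) : V4) = V4.sm i (0, 1, 0, 0) := fun i => by ext <;> simp [V4.sm]
  constructor
  · intro hg
    rcases A9ThreeLocal.zpowers_three_cases (F.je_cube _) hg with rfl | rfl | rfl
    · exact ⟨0, F.je_zero⟩
    · exact ⟨1, rfl⟩
    · exact ⟨2, by rw [← F.je_neg]; rfl⟩
  · rintro ⟨i, rfl⟩
    rw [e i, F.je_sm]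
    exact Subgroup.pow_mem _ (mem_zpowers (F.je (0, 1, 0, 0))) _

theorem je_Ca (p : V4) : F.je p ∈ F.Ca :=
  mem_centralizer_singleton_iff.mpr (F.je_comm p _).eq

/-- The projection of `C(a)` on its quotient. -/
noncomputable def proj : ↥F.Ca →* ↥F.Ca ⧸ F.Za := QuotientGroup.mk' F.Za

theorem proj_surj : Function.Surjective F.proj := QuotientGroup.mk'_surjective _

theorem proj_eq_one {d : ↥F.Ca} : F.proj d = 1 ↔ ∃ i : ZMod 3, F.je (0, i, 0, 0) = (d : G) := by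
  rw [proj, QuotientGroup.mk'_apply, QuotientGroup.eq_one_iff, mem_subgroupOf, F.mem_line]

/-- The image of a point of `J`. -/
noncomputable def pj (p : V4) : ↥F.Ca ⧸ F.Za := F.proj ⟨F.je p, F.je_Ca p⟩

theorem pj_add (p q : V4) : F.pj (p + q) = F.pj p * F.pj q := by
  rw [pj, pj, pj, ← map_mul]
  exact congrArg F.proj (Subtype.ext (F.je_add p q))

theorem pj_neg (p : V4) : F.pj (-p) = (F.pj p)⁻¹ := by
  rw [pj, pj, ← map_inv]
  exact congrArg F.proj (Subtype.ext (F.je_neg p))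

theorem pj_line (i : ZMod 3) : F.pj (0, i, 0, 0) = 1 := F.proj_eq_one.mpr ⟨i, rfl⟩

theorem pj_shift (p : V4) (i : ZMod 3) : F.pj (p + (0, i, 0, 0)) = F.pj p := by
  rw [F.pj_add, F.pj_line, mul_one]

theorem pj_eq_one {p : V4} : F.pj p = 1 ↔ ∃ i : ZMod 3, p = (0, i, 0, 0) := by
  rw [pj, F.proj_eq_one]
  exact exists_congr fun i => ⟨fun e => (F.je_injective e).symm, fun e => e ▸ rfl⟩

theorem pj_eq {p q : V4} (e : F.pj p = F.pj q) : ∃ i : ZMod 3, p = q + (0, i, 0, 0) := by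
  have h1 : F.pj (-q + p) = 1 := by rw [F.pj_add, F.pj_neg, e, inv_mul_cancel]
  obtain ⟨i, hi⟩ := F.pj_eq_one.mp h1
  exact ⟨i, by rw [← hi, add_neg_cancel_left]⟩

/-- The image of `J`. -/
noncomputable def Jbar : Subgroup (↥F.Ca ⧸ F.Za) := (F.J.subgroupOf F.Ca).map F.proj

theorem mem_Jbar {y : ↥F.Ca ⧸ F.Za} : y ∈ F.Jbar ↔ ∃ p, F.pj p = y := by
  constructor
  · rintro ⟨d, hd, rfl⟩
    obtain ⟨p, hp⟩ := F.mem_J.mp (mem_subgroupOf.mp hd)
    exact ⟨p, congrArg F.proj (Subtype.ext hp)⟩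
  · rintro ⟨p, rfl⟩
    exact mem_map_of_mem _ (mem_subgroupOf.mpr (F.je_J p))

theorem card_Jbar : Nat.card ↥F.Jbar = 27 := by
  have e : Function.Bijective fun x : ZMod 3 × ZMod 3 × ZMod 3 =>
      (⟨F.pj (x.1, 0, x.2.1, x.2.2), F.mem_Jbar.mpr ⟨_, rfl⟩⟩ : ↥F.Jbar) := by
    refine ⟨fun x y e => ?_, fun g => ?_⟩
    · obtain ⟨i, hi⟩ := F.pj_eq (congrArg Subtype.val e)
      simp only [Prod.mk_add_mk, Prod.mk.injEq, add_zero] at hi
      exact Prod.ext hi.1 (Prod.ext hi.2.2.1 hi.2.2.2)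
    · obtain ⟨p, hp⟩ := F.mem_Jbar.mp g.2
      refine ⟨(p.1, p.2.2.1, p.2.2.2), Subtype.ext ?_⟩
      show F.pj _ = _
      rw [← hp, ← F.pj_shift (p.1, 0, p.2.2.1, p.2.2.2) p.2.1]
      congr 1
      ext <;> simp
  rw [← Nat.card_congr (Equiv.ofBijective _ e)]
  simp only [Nat.card_prod, Nat.card_zmod]

/-- The element `z` modulo `a`. -/
noncomputable def xbar : ↥F.Ca ⧸ F.Za := F.pj (1, 0, 0, 0)

theorem zC : h.D.z ∈ F.Ca := F.je_z ▸ F.je_Ca _

theorem order_xbar : orderOf F.xbar = 3 := by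
  haveI : Fact (Nat.Prime 3) := ⟨Nat.prime_three⟩
  refine orderOf_eq_prime ?_ fun e => ?_
  · rw [xbar, pow_succ, pow_two, ← F.pj_add, ← F.pj_add]
    exact F.pj_eq_one.mpr ⟨0, v4_three _⟩
  · obtain ⟨i, hi⟩ := F.pj_eq_one.mp e
    exact one_ne_zero (α := ZMod 3) (congrArg Prod.fst hi)

/-- The centralizer of the image of `z` is the image of the centralizer of `z`. -/
theorem cent_xbar {d : ↥F.Ca} :
    F.proj d ∈ centralizer ({F.xbar} : Set (↥F.Ca ⧸ F.Za)) ↔ (d : G) ∈ h.C := by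
  have key : F.proj d * F.xbar * (F.proj d)⁻¹ = F.proj ⟨d * h.D.z * (d : G)⁻¹,
      mul_mem (mul_mem d.2 F.zC) (inv_mem d.2)⟩ := by
    rw [xbar, pj, ← map_inv, ← map_mul, ← map_mul]
    refine congrArg F.proj (Subtype.ext ?_)
    show (d : G) * F.je (1, 0, 0, 0) * (d : G)⁻¹ = _
    rw [F.je_z]
  rw [mem_centralizer_singleton_iff, ← mul_inv_eq_iff_eq_mul, key]
  constructor
  · intro e
    have h1 : F.proj (⟨d * h.D.z * (d : G)⁻¹, mul_mem (mul_mem d.2 F.zC) (inv_mem d.2)⟩ *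
        ⟨h.D.z, F.zC⟩⁻¹) = 1 := by
      rw [map_mul, map_inv, e, mul_inv_eq_one, xbar, pj]
      exact congrArg F.proj (Subtype.ext F.je_z)
    obtain ⟨i, hi⟩ := F.proj_eq_one.mp h1
    have hi' : F.je (0, i, 0, 0) = (d : G) * h.D.z * (d : G)⁻¹ * h.D.z⁻¹ := hi
    have hp : F.je ((0, i, 0, 0) + (1, 0, 0, 0)) = (d : G) * h.D.z * (d : G)⁻¹ := by
      rw [F.je_add, hi', F.je_z, inv_mul_cancel_right]
    have hc : F.Conj ((0, i, 0, 0) + (1, 0, 0, 0)) := by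
      rw [Conj, hp]; exact isConj_iff.mpr ⟨d, rfl⟩
    have hi0 : i = 0 := by
      rcases F.conj_Q hc (by simp) with e' | e'
      · simpa using congrArg (fun p : V4 => p.2.1) e'
      · exact absurd (congrArg Prod.fst e') (by simp; decide)
    subst hi0
    rw [show ((0, 0, 0, 0) : V4) + (1, 0, 0, 0) = (1, 0, 0, 0) by decide, F.je_z] at hp
    exact mem_centralizer_singleton_iff.mpr (mul_inv_eq_iff_eq_mul.mp hp.symm)
  · intro hd
    rw [xbar, pj]
    refine congrArg F.proj (Subtype.ext ?_)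
    show (d : G) * h.D.z * (d : G)⁻¹ = F.je (1, 0, 0, 0)
    rw [F.je_z, h.fix_z hd]

/-- The coordinates of the elements of `C` centralizing `a`. -/
theorem mem_CA {g : G} (hC : g ∈ h.C) (ha : g ∈ F.Ca) :
    ∃ c v, F.mof g ∈ stabA ∧ v.1 = 0 ∧ F.el (c, v, F.mof g) = g := by
  obtain ⟨c, v, hM, e⟩ := F.mof_spec hC
  have hc := mem_centralizer_singleton_iff.mp ha
  rw [F.root01, je, ← e, F.mul _ _ hM (jel_mem _), F.mul _ _ (jel_mem _) hM] at hc
  have e2 := F.inj _ _ (F.closed _ hM _ (jel_mem _)) (F.closed _ (jel_mem _) _ hM) hc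
  simp only [emul, jel, ypw_zero, lin_one, Prod.mk.injEq, mcomp_one_left, mcomp_one_right] at e2
  obtain ⟨e21, e22, -⟩ := e2
  rw [add_comm ((0, 1, 0, 0) : V4)] at e22
  have hfix : lin (F.mof g) (0, 1, 0, 0) = (0, 1, 0, 0) := add_left_cancel e22
  rw [hfix] at e21
  refine ⟨c, v, List.mem_filter.mpr ⟨hM, beq_iff_eq.mpr ((lin_unit (F.mof g)).2.1 ▸ hfix)⟩, ?_, e⟩
  simp [bB] at e21
  exact z3_neg_fix _ (by linear_combination -e21)

/-- The image of `Q`. -/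
noncomputable def Rbar : Subgroup (↥F.Ca ⧸ F.Za) := (h.D.Q.subgroupOf F.Ca).map F.proj

theorem proj_mem_Rbar {d : ↥F.Ca} : F.proj d ∈ F.Rbar ↔ (d : G) ∈ h.D.Q := by
  refine ⟨?_, fun hd => mem_map_of_mem _ (mem_subgroupOf.mpr hd)⟩
  rintro ⟨q, hq, e⟩
  have h1 : F.proj (q⁻¹ * d) = 1 := by rw [map_mul, map_inv, e, inv_mul_cancel]
  obtain ⟨i, hi⟩ := F.proj_eq_one.mp h1
  have hq' : (d : G) = (q : G) * F.je (0, i, 0, 0) := by rw [hi, coe_mul, coe_inv, mul_inv_cancel_left]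
  rw [hq']
  exact mul_mem (mem_subgroupOf.mp hq) ((F.je_Q _).mpr rfl)

theorem el_R_Ca (c : ZMod 3) (u w : ZMod 3) : F.el (c, (0, 0, u, w), m1) ∈ F.Ca := by
  refine mem_centralizer_singleton_iff.mpr ?_
  rw [F.root01, je, F.mul _ _ m1_mem (jel_mem _), F.mul _ _ (jel_mem _) m1_mem]
  congr 1
  simp [emul, jel, ypw_zero, lin_one, bB, add_comm]

/-- The coordinates of the image of `Q`. -/
noncomputable def rR (c u w : ZMod 3) : ↥F.Ca ⧸ F.Za :=
  F.proj ⟨F.el (c, (0, 0, u, w), m1), F.el_R_Ca c u w⟩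

theorem rR_mem (c u w : ZMod 3) : F.rR c u w ∈ F.Rbar := F.proj_mem_Rbar.mpr (F.el_q _ _)

theorem rR_mul (c u w c' u' w' : ZMod 3) :
    F.rR c u w * F.rR c' u' w' = F.rR (c + c' - (u * w' - w * u')) (u + u') (w + w') := by
  rw [rR, rR, rR, ← map_mul]
  refine congrArg F.proj (Subtype.ext ?_)
  show F.el _ * F.el _ = _
  rw [F.mul _ _ m1_mem m1_mem]
  simp [emul, lin_one, mcomp_one_left, bB]

theorem rR_inj {c u w c' u' w' : ZMod 3} (e : F.rR c u w = F.rR c' u' w') :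
    c = c' ∧ u = u' ∧ w = w' := by
  have h1 : F.proj (⟨F.el (c', (0, 0, u', w'), m1), F.el_R_Ca c' u' w'⟩⁻¹ *
      ⟨F.el (c, (0, 0, u, w), m1), F.el_R_Ca c u w⟩) = 1 := by
    rw [map_mul, map_inv]; exact inv_mul_eq_one.mpr e.symm
  obtain ⟨i, hi⟩ := F.proj_eq_one.mp h1
  have hi' : F.el (c', (0, 0, u', w'), m1) * F.je (0, i, 0, 0) = F.el (c, (0, 0, u, w), m1) := by
    rw [hi, coe_mul, coe_inv, mul_inv_cancel_left]
  rw [je, F.mul _ _ m1_mem (jel_mem _)] at hi'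
  have e2 := F.inj _ _ (F.closed _ m1_mem _ (jel_mem _)) m1_mem hi'
  simp [emul, jel, ypw_zero, lin_one, bB, mcomp_one_left] at e2
  exact ⟨e2.1.symm, e2.2.2.1.symm, e2.2.2.2.symm⟩

theorem rR_surj {y : ↥F.Ca ⧸ F.Za} (hy : y ∈ F.Rbar) : ∃ c u w, F.rR c u w = y := by
  obtain ⟨d, hd, rfl⟩ := hy
  have hq : (d : G) ∈ h.D.Q := mem_subgroupOf.mp hd
  obtain ⟨c, v, hM, hv, e⟩ := F.mem_CA (h.leQ hq) d.2
  rw [(F.mof_Q (h.leQ hq)).mp hq] at e
  refine ⟨c, v.2.2.1, v.2.2.2, ?_⟩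
  have hs : F.proj ⟨F.el (c, (0, 0, v.2.2.1, v.2.2.2), m1) * F.je (0, v.2.1, 0, 0),
      mul_mem (F.el_R_Ca c _ _) (F.je_Ca _)⟩ = F.proj d := by
    refine congrArg F.proj (Subtype.ext ?_)
    show _ * _ = (d : G)
    rw [je, F.mul _ _ m1_mem (jel_mem _), ← e]
    congr 1
    simp [emul, jel, ypw_zero, lin_one, bB, mcomp_one_left]
    ext <;> simp [hv]
  rw [← hs, show (⟨F.el (c, (0, 0, v.2.2.1, v.2.2.2), m1) * F.je (0, v.2.1, 0, 0),
      mul_mem (F.el_R_Ca c _ _) (F.je_Ca _)⟩ : ↥F.Ca) =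
    ⟨_, F.el_R_Ca c v.2.2.1 v.2.2.2⟩ * ⟨_, F.je_Ca (0, v.2.1, 0, 0)⟩ from rfl, map_mul]
  show F.rR _ _ _ = F.rR _ _ _ * F.pj _
  rw [F.pj_line, mul_one]

theorem card_Rbar : Nat.card ↥F.Rbar = 27 := by
  have e : Function.Bijective fun x : ZMod 3 × ZMod 3 × ZMod 3 =>
      (⟨F.rR x.1 x.2.1 x.2.2, F.rR_mem _ _ _⟩ : ↥F.Rbar) := by
    refine ⟨fun x y e => ?_, fun g => ?_⟩
    · obtain ⟨a, b, c⟩ := F.rR_inj (congrArg Subtype.val e)
      exact Prod.ext a (Prod.ext b c)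
    · obtain ⟨c, u, w, e⟩ := F.rR_surj g.2
      exact ⟨(c, u, w), Subtype.ext e⟩
  rw [← Nat.card_congr (Equiv.ofBijective _ e)]
  simp only [Nat.card_prod, Nat.card_zmod]

theorem rR_center (c : ZMod 3) : F.rR c 0 0 = F.xbar ^ c.val := by
  rw [rR, xbar, pj, ← map_pow]
  refine congrArg F.proj (Subtype.ext ?_)
  show F.el (c, 0, m1) = F.je (1, 0, 0, 0) ^ c.val
  rw [F.je_z, F.el_central]

theorem centerR (r : ↥F.Ca ⧸ F.Za) :
    r ∈ zpowers F.xbar ↔ r ∈ F.Rbar ∧ ∀ s ∈ F.Rbar, r * s = s * r := by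
  constructor
  · intro hr
    obtain ⟨c, rfl⟩ : ∃ c, F.rR c 0 0 = r := by
      have h3 : F.xbar ^ 3 = 1 := by rw [← F.order_xbar]; exact pow_orderOf_eq_one _
      rcases A9ThreeLocal.zpowers_three_cases h3 hr with rfl | rfl | rfl
      · exact ⟨0, by rw [F.rR_center, ZMod.val_zero, pow_zero]⟩
      · exact ⟨1, by rw [F.rR_center, ZMod.val_one, pow_one]⟩
      · refine ⟨2, ?_⟩
        rw [F.rR_center, show (2 : ZMod 3).val = 2 from rfl]
        exact eq_inv_of_mul_eq_one_left (by rw [← pow_succ, h3])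
    refine ⟨F.rR_mem _ _ _, fun s hs => ?_⟩
    obtain ⟨c', u, w, rfl⟩ := F.rR_surj hs
    rw [F.rR_mul, F.rR_mul]
    congr 1 <;> ring
  · rintro ⟨hr, hc⟩
    obtain ⟨c, u, w, rfl⟩ := F.rR_surj hr
    have h1 := hc _ (F.rR_mem 0 0 1)
    have h2 := hc _ (F.rR_mem 0 1 0)
    rw [F.rR_mul, F.rR_mul] at h1 h2
    have k1 := (F.rR_inj h1).1
    have k2 := (F.rR_inj h2).1
    have hu : u = 0 := z3_neg_fix _ (by linear_combination -k1)
    have hw : w = 0 := z3_neg_fix _ (by linear_combination k2)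
    rw [hu, hw, F.rR_center]
    exact Subgroup.pow_mem _ (mem_zpowers _) _

theorem Rbar_cube {r : ↥F.Ca ⧸ F.Za} (hr : r ∈ F.Rbar) : r ^ 3 = 1 := by
  obtain ⟨c, u, w, rfl⟩ := F.rR_surj hr
  have h0 : F.rR 0 0 0 = 1 := by rw [F.rR_center, ZMod.val_zero, pow_zero]
  rw [pow_succ, pow_two, F.rR_mul, F.rR_mul, ← h0]
  have t3 : ∀ t : ZMod 3, t + t + t = 0 := by decide
  congr 1 <;> [skip; exact t3 u; exact t3 w]
  linear_combination t3 c

theorem projX : ∃ f : ↥(centralizer ({F.xbar} : Set (↥F.Ca ⧸ F.Za))) →* PSp43Amalgam.SL3,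
    Function.Surjective f ∧ ∀ g, f g = 1 ↔ (g : ↥F.Ca ⧸ F.Za) ∈ F.Rbar := by
  have hst : ∀ g : ↥(h.C.subgroupOf F.Ca), F.mof ((g : ↥F.Ca) : G) ∈ stabA := fun g => by
    obtain ⟨c, v, hM, -, -⟩ := F.mem_CA (mem_subgroupOf.mp g.2) (g : ↥F.Ca).2
    exact hM
  let gA : ↥(h.C.subgroupOf F.Ca) →* PSp43Amalgam.SL3 :=
    MonoidHom.mk' (fun g => fX (F.mof ((g : ↥F.Ca) : G))) fun a b => by
      show fX (F.mof (((a : ↥F.Ca) : G) * ((b : ↥F.Ca) : G))) = _
      rw [F.mof_mul (mem_subgroupOf.mp a.2) (mem_subgroupOf.mp b.2)]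
      exact of_decide_eq_true
        (List.all_eq_true.mp (List.all_eq_true.mp fX_mul_all _ (hst a)) _ (hst b))
  let ρ : ↥(h.C.subgroupOf F.Ca) →* ↥(centralizer ({F.xbar} : Set (↥F.Ca ⧸ F.Za))) :=
    (F.proj.comp (h.C.subgroupOf F.Ca).subtype).codRestrict _ fun g =>
      F.cent_xbar.mpr (mem_subgroupOf.mp g.2)
  have hgA : ∀ g, gA g = 1 ↔ ((g : ↥F.Ca) : G) ∈ h.D.Q := fun g => by
    rw [F.mof_Q (mem_subgroupOf.mp g.2)]
    refine ⟨fun e => of_decide_eq_true (List.all_eq_true.mp fX_ker _ (hst g)) e, fun e => ?_⟩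
    show fX _ = 1
    rw [e, fX_one]
  have hρ : Function.Surjective ρ := fun y => by
    obtain ⟨d, hd⟩ := F.proj_surj y.1
    exact ⟨⟨d, mem_subgroupOf.mpr (F.cent_xbar.mp (hd ▸ y.2))⟩, Subtype.ext hd⟩
  have hker : ρ.ker ≤ gA.ker := fun g hg => by
    rw [MonoidHom.mem_ker, hgA, ← F.proj_mem_Rbar]
    rw [show F.proj (g : ↥F.Ca) = 1 from congrArg Subtype.val (MonoidHom.mem_ker.mp hg)]
    exact one_mem _
  obtain ⟨f, hf⟩ : ∃ f : ↥(centralizer ({F.xbar} : Set (↥F.Ca ⧸ F.Za))) →* PSp43Amalgam.SL3,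
      ∀ g, f (ρ g) = gA g :=
    ⟨ρ.liftOfSurjective hρ ⟨gA, hker⟩, fun g => MonoidHom.liftOfRightInverse_comp_apply _ _ _ _ g⟩
  refine ⟨f, fun A => ?_, fun y => ?_⟩
  · obtain ⟨M, hM, hMA⟩ := List.any_eq_true.mp (fX_surj A)
    obtain ⟨hMh, hMf⟩ := List.mem_filter.mp hM
    have hel : F.el (0, 0, M) ∈ F.Ca := by
      refine mem_centralizer_singleton_iff.mpr ?_
      rw [F.root01, je, F.mul _ _ hMh (jel_mem _), F.mul _ _ (jel_mem _) hMh]
      congr 1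
      simp [emul, jel, ypw_zero, lin_one, lin_zero, bB_zero_right, mcomp_one_left, mcomp_one_right, bB,
        (lin_unit M).2.1, beq_iff_eq.mp hMf]
    refine ⟨ρ ⟨⟨_, hel⟩, mem_subgroupOf.mpr (F.mem _)⟩, ?_⟩
    rw [hf]
    show fX (F.mof (F.el (0, 0, M))) = A
    rw [F.mof_el hMh]
    exact of_decide_eq_true hMA
  · obtain ⟨g, rfl⟩ := hρ y
    rw [hf, hgA, ← F.proj_mem_Rbar]
    rfl

theorem sigbar (K : Subgroup (↥F.Ca ⧸ F.Za)) (hK : (Nat.card ↥K).Coprime 3)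
    (hJK : ∀ j ∈ F.Jbar, K.map (MulAut.conj j).toMonoidHom = K) : K = ⊥ := by
  haveI : Fact (Nat.Prime 3) := ⟨Nat.prime_three⟩
  set L : Subgroup ↥F.Ca := K.comap F.proj
  let r : ↥L →* ↥K := (F.proj.comp L.subtype).codRestrict K fun d => d.2
  have hrs : Function.Surjective r := fun y => by
    obtain ⟨d, hd⟩ := F.proj_surj y.1
    exact ⟨⟨d, by show F.proj d ∈ K; rw [hd]; exact y.2⟩, Subtype.ext hd⟩
  have hr1 : ∀ d : ↥L, d ∈ r.ker ↔ ∃ i : ZMod 3, F.je (0, i, 0, 0) = ((d : ↥F.Ca) : G) := fun d => by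
    rw [MonoidHom.mem_ker, Subtype.ext_iff, ← F.proj_eq_one]; rfl
  have hidx : r.ker.index = Nat.card ↥K := by
    rw [index_ker, MonoidHom.range_eq_top.mpr hrs, card_top]
  have hN3 : Nat.card ↥r.ker = 3 := by
    have e : Function.Bijective fun i : ZMod 3 => (⟨⟨⟨F.je (0, i, 0, 0), F.je_Ca _⟩, by
        show F.proj _ ∈ K
        rw [F.proj_eq_one.mpr ⟨i, rfl⟩]; exact one_mem _⟩, (hr1 _).mpr ⟨i, rfl⟩⟩ : ↥r.ker) := by
      refine ⟨fun i l e => ?_, fun d => ?_⟩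
      · have := F.je_injective (congrArg (fun d : ↥r.ker => (((d : ↥L) : ↥F.Ca) : G)) e)
        simpa using congrArg (fun p : V4 => p.2.1) this
      · obtain ⟨i, hi⟩ := (hr1 _).mp d.2
        exact ⟨i, Subtype.ext (Subtype.ext (Subtype.ext hi))⟩
    rw [← Nat.card_congr (Equiv.ofBijective _ e), Nat.card_zmod]
  obtain ⟨H, hH⟩ := exists_right_complement'_of_coprime (N := r.ker) (by
    rw [hN3, hidx]; exact hK.symm)
  have hHc : Nat.card ↥H = Nat.card ↥K := by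
    rw [← hidx]; exact hH.symm.index_eq_card.symm
  set ι : ↥L →* G := F.Ca.subtype.comp L.subtype
  have hι : Function.Injective ι := F.Ca.subtype_injective.comp L.subtype_injective
  have hmem : ∀ k : ↥L, k ^ Nat.card ↥K = 1 → k ∈ H := by
    intro k hk
    obtain ⟨⟨a, b⟩, hab⟩ := hH.2 k
    have hab' : (a : ↥L) * (b : ↥L) = k := hab
    obtain ⟨i, hi⟩ := (hr1 _).mp a.2
    have hcomm : Commute (a : ↥L) (b : ↥L) := by
      refine hι ?_
      show ((a : ↥L) : ↥F.Ca).1 * ((b : ↥L) : ↥F.Ca).1 = ((b : ↥L) : ↥F.Ca).1 * ((a : ↥L) : ↥F.Ca).1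
      rw [← hi]
      obtain ⟨l, hl'⟩ := mem_zpowers_iff.mp ((F.mem_line).mpr ⟨i, rfl⟩)
      have hb : Commute ((b : ↥L) : ↥F.Ca).1 (F.root 0 1) :=
        mem_centralizer_singleton_iff.mp ((b : ↥L) : ↥F.Ca).2
      rw [← hl']
      exact ((hb.zpow_right l).eq).symm
    rw [← hab', hcomm.mul_pow] at hk
    have hb1 : (b : ↥L) ^ Nat.card ↥K = 1 := by
      rw [← hHc, ← coe_pow, pow_card_eq_one', coe_one]
    rw [hb1, mul_one] at hk
    have ha3 : (a : ↥L) ^ 3 = 1 := by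
      rw [← hN3, ← coe_pow, pow_card_eq_one', coe_one]
    have ha : (a : ↥L) = 1 := by
      have := pow_gcd_eq_one.mpr ⟨hk, ha3⟩
      rwa [Nat.Coprime.gcd_eq_one hK, pow_one] at this
    rw [← hab', ha, one_mul]
    exact b.2
  have hO : H.map ι = ⊥ := by
    refine F.sig _ (by rw [card_map_of_injective hι, hHc]; exact hK) fun j hj => ?_
    refine mem_normalizer_fintype ?_
    rintro _ ⟨k, hk, rfl⟩
    obtain ⟨p, rfl⟩ := F.mem_J.mp hj
    have hjk : (⟨F.je p, F.je_Ca p⟩ : ↥F.Ca) * (k : ↥F.Ca) * (⟨F.je p, F.je_Ca p⟩ : ↥F.Ca)⁻¹ ∈ L := by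
      show F.proj _ ∈ K
      rw [map_mul, map_mul, map_inv, ← hJK (F.pj p) (F.mem_Jbar.mpr ⟨p, rfl⟩)]
      exact ⟨F.proj (k : ↥F.Ca), k.2, rfl⟩
    refine ⟨⟨_, hjk⟩, hmem _ (hι ?_), rfl⟩
    have hk1 : k ^ Nat.card ↥K = 1 := by
      rw [← hHc]; exact congrArg Subtype.val (pow_card_eq_one' (x := (⟨k, hk⟩ : ↥H)))
    rw [map_pow, map_one]
    show (F.je p * ι k * (F.je p)⁻¹) ^ _ = 1
    rw [conj_pow, ← map_pow, hk1, map_one, mul_one, mul_inv_cancel]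
  have hH1 : Nat.card ↥K = 1 := by
    rw [← hHc, ← card_map_of_injective hι, hO, card_bot]
  exact card_eq_one.mp hH1

theorem centHyp : Sp6Local.CentHyp F.xbar F.Rbar F.Jbar where
  order := F.order_xbar
  leR := fun r hr => by
    obtain ⟨d, hd, rfl⟩ := hr
    exact F.cent_xbar.mpr (h.leQ (mem_subgroupOf.mp hd))
  cardR := F.card_Rbar
  cubeR := fun _ => F.Rbar_cube
  centerR := F.centerR
  projX := F.projX
  leJ := fun y hy => by
    obtain ⟨p, rfl⟩ := F.mem_Jbar.mp hy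
    exact F.cent_xbar.mpr (F.je_mem p)
  commJ := fun x hx y hy => by
    obtain ⟨p, rfl⟩ := F.mem_Jbar.mp hx
    obtain ⟨q, rfl⟩ := F.mem_Jbar.mp hy
    rw [← F.pj_add, ← F.pj_add, add_comm]
  cubeJ := fun x hx => by
    obtain ⟨p, rfl⟩ := F.mem_Jbar.mp hx
    rw [pow_succ, pow_two, ← F.pj_add, ← F.pj_add, v4_three p]
    exact F.pj_eq_one.mpr ⟨0, rfl⟩
  cardJ := F.card_Jbar
  sig := F.sigbar

/-- Two distinct lines of points conjugate to `z` have their common centralizer local. -/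
theorem pair_loc {q r : V4} (hq : q ∈ tpts) (hr : r ∈ tpts) (h1 : r ≠ q) (h2 : r ≠ -q) {g : G}
    (gq : Commute g (F.je q)) (gr : Commute g (F.je r)) : g ∈ normalizer (F.J : Set G) := by
  obtain ⟨n, hn, hne⟩ := F.fuse F.z_J (F.je_J q) ((F.conj_iff q).mpr hq)
  obtain ⟨s, hs⟩ := F.mem_J.mp ((mem_normalizer_iff.mp (inv_mem hn) _).mp (F.je_J r))
  rw [inv_inv] at hs
  have hsC : F.Conj s := IsConj.trans ((F.conj_iff r).mpr hr) (isConj_iff.mpr ⟨n⁻¹, by rw [inv_inv, hs]⟩)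
  have hq' : F.je s ∉ h.D.Q := fun hm => by
    have hr' : F.je r = n * F.je s * n⁻¹ := by rw [hs]; group
    rcases F.conj_Q hsC ((F.je_Q s).mp hm) with e | e
    · refine h1 (F.je_injective ?_)
      rw [hr', e, F.je_z, hne]
    · refine h2 (F.je_injective ?_)
      rw [hr', e, show ((2, 0, 0, 0) : V4) = -((1, 0, 0, 0) : V4) by decide, F.je_neg, F.je_z,
        F.je_neg, ← hne]
      group
  have hgn : n⁻¹ * g * n ∈ normalizer (F.J : Set G) := by
    refine F.centOut (F.je_J s) hq' ⟨mem_centralizer_singleton_iff.mpr ?_,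
      mem_centralizer_singleton_iff.mpr ?_⟩
    · have e : h.D.z = n⁻¹ * F.je q * n := by rw [← hne]; group
      rw [e]
      calc n⁻¹ * g * n * (n⁻¹ * F.je q * n) = n⁻¹ * (g * F.je q) * n := by group
        _ = _ := by rw [gq.eq]; group
    · rw [hs]
      calc n⁻¹ * g * n * (n⁻¹ * F.je r * n) = n⁻¹ * (g * F.je r) * n := by group
        _ = _ := by rw [gr.eq]; group
  simpa [mul_assoc] using mul_mem (mul_mem hn hgn) (inv_mem hn)

/-- A permutation fixing the first two indices acts on the quotient. -/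
theorem exists_perm_bar (σ : Equiv.Perm (Fin 6)) (h0 : σ 0 = 0) (h1 : σ 1 = 1) :
    ∃ y : ↥F.Ca ⧸ F.Za, ∀ p q s t : Fin 6, y * F.pj (jv p q + jv s t) * y⁻¹ =
      F.pj (jv (σ p) (σ q) + jv (σ s) (σ t)) := by
  obtain ⟨n, -, hn⟩ := F.perm σ
  have hnC : n ∈ F.Ca := mem_centralizer_singleton_iff.mpr (mul_inv_eq_iff_eq_mul.mp (by
    rw [hn, h0, h1]))
  refine ⟨F.proj ⟨n, hnC⟩, fun p q s t => ?_⟩
  rw [F.pj_add, F.pj_add, pj, pj, pj, pj, ← map_inv, ← map_mul, ← map_mul, ← map_mul, ← map_mul]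
  refine congrArg F.proj (Subtype.ext ?_)
  show n * (F.root p q * F.root s t) * n⁻¹ = F.root (σ p) (σ q) * F.root (σ s) (σ t)
  rw [← hn, ← hn]
  group

theorem exists_inverting_bar : ∃ y : ↥F.Ca ⧸ F.Za, y * F.xbar * y⁻¹ = F.xbar⁻¹ := by
  obtain ⟨n, -, hn⟩ := F.perm (Equiv.swap 0 1)
  obtain ⟨m, -, hm⟩ := F.neg
  obtain ⟨q1, q2, -, -⟩ := quot_facts
  have ha : n * F.root 0 1 * n⁻¹ = (F.root 0 1)⁻¹ := by
    rw [hn, Equiv.swap_apply_left, Equiv.swap_apply_right, F.root01, root, q1, F.je_neg]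
  have hz : n * h.D.z * n⁻¹ = h.D.z := by
    rw [F.root_z, show n * (F.root 0 1 * F.root 2 1) * n⁻¹ =
      n * F.root 0 1 * n⁻¹ * (n * F.root 2 1 * n⁻¹) by group, hn, hn, Equiv.swap_apply_left,
      Equiv.swap_apply_right, Equiv.swap_apply_of_ne_of_ne (by decide) (by decide), ← F.root_z, root, root,
      ← F.je_add, q2, F.je_z]
  have hmn : m * n ∈ F.Ca := mem_centralizer_singleton_iff.mpr (mul_inv_eq_iff_eq_mul.mp (by
    rw [show m * n * F.root 0 1 * (m * n)⁻¹ = m * (n * F.root 0 1 * n⁻¹) * m⁻¹ by group, ha, ← conj_inv,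
      hm (F.root 0 1) (F.je_J _), inv_inv]))
  refine ⟨F.proj ⟨m * n, hmn⟩, ?_⟩
  rw [xbar, ← F.pj_neg, pj, pj, ← map_inv, ← map_mul, ← map_mul]
  refine congrArg F.proj (Subtype.ext ?_)
  show m * n * F.je (1, 0, 0, 0) * (m * n)⁻¹ = F.je (-(1, 0, 0, 0))
  rw [F.je_neg, F.je_z, show m * n * h.D.z * (m * n)⁻¹ = m * (n * h.D.z * n⁻¹) * m⁻¹ by group, hz,
    hm h.D.z F.z_J]

theorem not_normal_line (hN : normalizer (zpowers F.xbar : Set (↥F.Ca ⧸ F.Za)) = ⊤) : False := by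
  obtain ⟨y, hy⟩ := F.exists_perm_bar (Equiv.swap 2 3) (by decide) (by decide)
  have hm : y * F.xbar * y⁻¹ ∈ zpowers F.xbar :=
    (mem_normalizer_iff.mp (hN ▸ mem_top y : y ∈ normalizer (zpowers F.xbar : Set (↥F.Ca ⧸ F.Za))) _).mp
      (mem_zpowers _)
  obtain ⟨-, -, q3, -⟩ := quot_facts
  have e : y * F.xbar * y⁻¹ = F.pj (jv 0 1 + jv 3 1) := by
    rw [xbar, ← jv_facts.2.1, hy]
    rfl
  rw [e] at hm
  have h3 : F.xbar ^ 3 = 1 := by rw [← F.order_xbar]; exact pow_orderOf_eq_one _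
  rcases A9ThreeLocal.zpowers_three_cases h3 hm with e' | e' | e'
  · obtain ⟨i, hi⟩ := F.pj_eq_one.mp e'
    revert hi
    revert i
    decide +kernel
  · obtain ⟨i, hi⟩ := F.pj_eq e'
    exact (q3 i).1 hi
  · rw [xbar, ← F.pj_neg] at e'
    obtain ⟨i, hi⟩ := F.pj_eq e'
    exact (q3 i).2 hi

open Sym9ThreeLocal (W act inK) in
/-- **The quotient of the centralizer of a root element of `Q`.** -/
theorem quotA : ∃ (_ : ((zpowers (F.root 0 1)).subgroupOf (centralizer ({F.root 0 1} : Set G))).Normal),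
    Nonempty (↥(centralizer ({F.root 0 1} : Set G)) ⧸
      (zpowers (F.root 0 1)).subgroupOf (centralizer ({F.root 0 1} : Set G)) ≃*
        MulAut (Cfsg.PSp 2 (ZMod 3))) := by
  refine ⟨F.Za_normal, ?_⟩
  obtain ⟨c, hcJ, hcx⟩ := Sp6Local.exists_conf F.centHyp
  have hctrl := c.facts.ctrl
  have hk : c.k = .eight := by
    obtain ⟨y, hy⟩ := F.exists_inverting_bar
    rw [← hcx] at hy
    obtain ⟨w, hw, hwv⟩ := hctrl y Sym9ThreeLocal.xA Sym9ThreeLocal.xA⁻¹ Sym9ThreeLocal.xA_ne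
      (hy.trans (map_inv c.j Sym9ThreeLocal.xA).symm)
    refine (Sp6Local.invert_kind c.k w hw hwv).resolve_left fun e2 => F.not_normal_line ?_
    rw [← hcx]
    exact c.line_of_two c.facts e2
  obtain ⟨e1ne, e1x⟩ := e1_facts
  have hclass : ∀ y : ↥F.Ca ⧸ F.Za, ∀ v : Sym9ThreeLocal.A, y * F.xbar * y⁻¹ = c.j v →
      ∃ w, act w Sym9ThreeLocal.xA = v := by
    intro y v e
    rw [← hcx] at e
    obtain ⟨w, -, hw⟩ := hctrl y _ v Sym9ThreeLocal.xA_ne e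
    exact ⟨w, hw⟩
  have hloc : centralizer ({c.j Sym9ThreeLocal.e1} : Set (↥F.Ca ⧸ F.Za)) ≤ c.N := by
    obtain ⟨p, hp⟩ := F.mem_Jbar.mp (hcJ ▸ c.j_mem Sym9ThreeLocal.e1 : c.j Sym9ThreeLocal.e1 ∈ F.Jbar)
    rcases quot_classes p with ⟨i, rfl⟩ | ⟨i, k, hk2, hs⟩ | ⟨i, l, hi, hl', hne, hne', hm⟩ | ⟨i, s, t, hs, ht, hst, e⟩
    · exact absurd hp.symm (by rw [F.pj_line]; exact c.j_ne e1ne)
    · exfalso
      obtain ⟨k0, k1, k2⟩ := swap_two_fix k hk2
      obtain ⟨y, hy⟩ := F.exists_perm_bar _ k0 k1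
      have hy' : y * F.xbar * y⁻¹ = F.pj (jv 0 1 + jv k 1) := by
        rw [xbar, ← jv_facts.2.1, hy, k0, k1, k2]
      rcases hs with e | e <;> have e' := congrArg F.pj e <;> rw [F.pj_shift, hp] at e'
      · obtain ⟨w, hw⟩ := hclass y _ (hy'.trans e'.symm)
        exact (e1x w).1 hw
      · obtain ⟨w, hw⟩ := hclass y Sym9ThreeLocal.e1⁻¹ (by rw [hy', map_inv, e', F.pj_neg, inv_inv])
        exact (e1x w).2 hw
    · intro y hy
      obtain ⟨d, rfl⟩ := F.proj_surj y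
      rw [mem_centralizer_singleton_iff, ← mul_inv_eq_iff_eq_mul, ← hp, pj, ← map_inv, ← map_mul,
        ← map_mul] at hy
      obtain ⟨m, hm'⟩ := F.proj_eq_one.mp (show F.proj ((⟨F.je p, F.je_Ca p⟩ : ↥F.Ca)⁻¹ *
        (d * ⟨F.je p, F.je_Ca p⟩ * d⁻¹)) = 1 by rw [map_mul, map_inv, hy, inv_mul_cancel])
      have hd : (d : G) * F.je p * (d : G)⁻¹ = F.je (p + (0, m, 0, 0)) := by
        rw [F.je_add, hm']
        simp [mul_assoc]
      have hcom : ∀ i : ZMod 3, Commute (d : G) (F.je (0, i, 0, 0)) := fun i => by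
        obtain ⟨k, hk⟩ := mem_zpowers_iff.mp (F.mem_line.mpr ⟨i, rfl⟩)
        rw [← hk]
        exact (show Commute (d : G) (F.root 0 1) from mem_centralizer_singleton_iff.mp d.2).zpow_right k
      have hpt : ∀ i : ZMod 3, (d : G) * F.je (p + (0, i, 0, 0)) * (d : G)⁻¹ = F.je (p + (0, i + m, 0, 0)) :=
        fun i => by
        rw [F.je_add, show (d : G) * (F.je p * F.je (0, i, 0, 0)) * (d : G)⁻¹ =
          (d : G) * F.je p * (d : G)⁻¹ * ((d : G) * F.je (0, i, 0, 0) * (d : G)⁻¹) by group, hd,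
          (hcom i).eq, mul_inv_cancel_right, ← F.je_add]
        congr 1
        simp [add_assoc, add_comm m i]
      have hT : ∀ i : ZMod 3, p + (0, i, 0, 0) ∈ tpts → p + (0, i + m, 0, 0) ∈ tpts := fun i hi => by
        rw [← F.conj_iff] at hi ⊢
        exact IsConj.trans hi (isConj_iff.mpr ⟨d, hpt i⟩)
      have hm0 : m = 0 := hm m (hT i hi) (hT l hl')
      have hfix : ∀ i : ZMod 3, Commute (d : G) (F.je (p + (0, i, 0, 0))) := fun i => by
        have := hpt i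
        rw [hm0, add_zero] at this
        exact mul_inv_eq_iff_eq_mul.mp this
      have hdN := F.pair_loc hi hl' hne hne' (hfix i) (hfix l)
      rw [c.N_eq, hcJ]
      refine mem_normalizer_fintype fun x hx => ?_
      obtain ⟨q, rfl⟩ := F.mem_Jbar.mp hx
      obtain ⟨q', hq'⟩ := F.mem_J.mp ((mem_normalizer_iff.mp hdN _).mp (F.je_J q))
      refine F.mem_Jbar.mpr ⟨q', ?_⟩
      rw [pj, pj, ← map_inv, ← map_mul, ← map_mul]
      exact congrArg F.proj (Subtype.ext hq')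
    · exfalso
      have e' := congrArg F.pj e
      rw [F.pj_shift, hp] at e'
      have hstep : ∀ r ∈ ([3, 4] : List (Fin 6)), ∃ w, c.j (act w Sym9ThreeLocal.e1) = F.pj (jv 2 r) := by
        intro r hr
        obtain ⟨s0, s1, ss, st⟩ := swap_moves s t hs ht hst r hr
        obtain ⟨y, hy⟩ := F.exists_perm_bar _ s0 s1
        have h2 : y * c.j Sym9ThreeLocal.e1 * y⁻¹ = F.pj (jv 2 r) := by
          have := hy s t s s
          rw [ss, st] at this
          simpa [jv, e'] using this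
        obtain ⟨v, hv⟩ : ∃ v, c.j v = F.pj (jv 2 r) := by
          have : F.pj (jv 2 r) ∈ c.J := hcJ ▸ F.mem_Jbar.mpr ⟨_, rfl⟩
          exact this
        obtain ⟨w, -, hw⟩ := hctrl y _ v e1ne (h2.trans hv.symm)
        exact ⟨w, by rw [hw, hv]⟩
      obtain ⟨w3, hw3⟩ := hstep 3 (by decide)
      obtain ⟨w4, hw4⟩ := hstep 4 (by decide)
      obtain ⟨y, hy⟩ := F.exists_perm_bar (Equiv.swap 2 5) (by decide) (by decide)
      obtain ⟨-, -, -, q4⟩ := quot_facts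
      obtain ⟨w, hw⟩ := hclass y (act w3 Sym9ThreeLocal.e1 * act w4 Sym9ThreeLocal.e1) (by
        rw [map_mul, hw3, hw4, ← F.pj_add, q4, xbar, ← jv_facts.2.1, hy]
        rfl)
      exact e1_pairs _ (e1_orbit w3) _ (e1_orbit w4) w hw
  exact c.aut_of_local_aux hk hloc fun h' F' hk' => h'.psp_of_four F' hk'

end Emb

end Cfsg.Agent.CoTwoThree
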