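import Cfsg.Agent.CoTwoThree.A.NotFused

/-!
The local stage: `J` is weakly closed, its normalizer controls its fusion and acts linearly on the
coordinates.
-/

set_option autoImplicit false
set_option maxRecDepth 20000
set_option synthInstance.maxSize 4000

open Subgroup
open scoped commutatorElement

namespace Cfsg.Agent.CoTwoThree

open Cfsg.Agent.McLLoc

universe u

namespace Emb

variable {G : Type u} [Group G] [Finite G] {h : Base G} (F : Emb h)

theorem je_cube (p : V4) : F.je p ^ 3 = 1 := by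
  rw [pow_succ, pow_two, ← F.je_add, ← F.je_add, ← F.je_zero]
  congr 1
  exact (by decide +kernel : ∀ p : V4, p + p + p = 0) p

theorem J_pgroup : IsPGroup 3 ↥F.J := IsPGroup.of_card (n := 4) (by rw [F.card_J]; norm_num)

theorem mem_J_of_comm {g : G} {p : V4} (hp : p.2.2.2 ≠ 0) (hg : g ∈ h.D.Q) (hc : Commute g (F.je p)) :
    g ∈ F.J := by
  obtain ⟨c, w, rfl⟩ := F.exists_q hg
  rw [commute_iff_eq, je, F.mul _ _ m1_mem (jel_mem p), F.mul _ _ (jel_mem p) m1_mem] at hc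
  have e2 := congrArg (fun y : El => y.2.1)
    (F.inj _ _ (F.closed _ m1_mem _ (jel_mem p)) (F.closed _ (jel_mem p) _ m1_mem) hc)
  simp only [emul, jel, lin_one] at e2
  rw [add_comm w] at e2
  obtain ⟨w1, w4⟩ := ypw_fixes _ hp w (add_left_cancel e2).symm
  refine F.mem_J.mpr ⟨(c, w.2.1, w.2.2.1, 0), ?_⟩
  show F.el (c, (0, w.2.1, w.2.2.1, 0), ypw 0) = _
  have e' : w = (0, w.2.1, w.2.2.1, 0) := by ext <;> simp [w1, w4]
  rw [← e', ypw_zero]

/-- A conjugate of `J` inside the model Sylow subgroup is `J`. -/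
theorem weak {g : G} (hg : ∀ a ∈ F.J, g * a * g⁻¹ ∈ F.SY) : g ∈ normalizer (F.J : Set G) := by
  refine mem_normalizer_fintype fun a ha => ?_
  have cube : ∀ b ∈ F.J, (g * b * g⁻¹) ^ 3 = 1 := fun b hb => by
    obtain ⟨p, rfl⟩ := F.mem_J.mp hb
    rw [conj_pow, F.je_cube, mul_one, mul_inv_cancel]
  by_cases hall : ∀ b ∈ F.J, g * b * g⁻¹ ∈ h.D.Q
  · exfalso
    obtain ⟨b, hb, hbz⟩ : ∃ b ∈ F.J, g * b * g⁻¹ ∉ zpowers h.D.z := by
      by_contra hno
      push Not at hno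
      have hle : F.J.map (MulAut.conj g).toMonoidHom ≤ zpowers h.D.z := by
        rintro _ ⟨b, hb, rfl⟩
        exact hno b hb
      have := Subgroup.card_le_of_le hle
      rw [card_map_of_injective (MulAut.conj g).injective, F.card_J, Nat.card_zpowers, h.D.z_ord] at this
      omega
    obtain ⟨c, hc, a1, e⟩ := F.conj_e1 (hall b hb) hbz
    let K := F.J.map (MulAut.conj (c * g)).toMonoidHom
    have hcomm : ∀ x ∈ K, ∀ y ∈ K, Commute x y := by
      rintro _ ⟨x, hx, rfl⟩ _ ⟨y, hy, rfl⟩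
      obtain ⟨p, rfl⟩ := F.mem_J.mp hx
      obtain ⟨q, rfl⟩ := F.mem_J.mp hy
      exact (F.je_comm p q).map _
    have hb' : F.el (a1, (1, 0, 0, 0), m1) ∈ K := ⟨b, hb, by
      show c * g * b * (c * g)⁻¹ = _
      rw [← e]; group⟩
    have hle : K ≤ h.D.Q ⊓ centralizer ({F.el (a1, (1, 0, 0, 0), m1)} : Set G) := fun x hx => by
      refine mem_inf.mpr ⟨?_, mem_centralizer_singleton_iff.mpr (hcomm x hx _ hb').eq⟩
      obtain ⟨y, hy, rfl⟩ := hx
      show c * g * y * (c * g)⁻¹ ∈ h.D.Q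
      rw [show c * g * y * (c * g)⁻¹ = c * (g * y * g⁻¹) * c⁻¹ by group]
      exact (mof_conj_Q (h := h) hc).mpr (hall y hy)
    have heq := eq_of_le_of_card_ge hle (by
      rw [F.card_cent_e1, card_map_of_injective (MulAut.conj (c * g)).injective, F.card_J])
    have hm : ∀ v : V4, v.2.1 = 0 → F.el (0, v, m1) ∈ K := fun v hv => by
      rw [heq]; exact ⟨F.el_q _ _, F.mem_cent_e1.mpr hv⟩
    have e' := F.pair_comm
    rw [(hcomm _ (hm (0, 0, 1, 0) rfl) _ (hm (0, 0, 0, 1) rfl)).eq, right_eq_mul] at e'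
    have := h.D.z_ord
    rw [e', orderOf_one] at this
    norm_num at this
  push Not at hall
  obtain ⟨b, hb, hbQ⟩ := hall
  by_cases haQ : g * a * g⁻¹ ∈ h.D.Q
  · obtain ⟨p, hp⟩ := F.mem_J.mp (F.mem_J_of_cube (hg b hb) (cube b hb) hbQ)
    refine F.mem_J_of_comm (p := p) (fun e => hbQ (hp ▸ (F.je_Q p).mpr e)) haQ ?_
    rw [hp]
    obtain ⟨x, rfl⟩ := F.mem_J.mp ha
    obtain ⟨y, rfl⟩ := F.mem_J.mp hb
    exact (Commute.conj_iff g).mpr (F.je_comm x y)
  · exact F.mem_J_of_cube (hg a ha) (cube a ha) haQ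

/-- The same inside every Sylow subgroup containing `J`. -/
theorem weak_sylow {P : Sylow 3 G} (hP : F.J ≤ (P : Subgroup G)) {g : G}
    (hg : ∀ a ∈ F.J, g * a * g⁻¹ ∈ (P : Subgroup G)) : g ∈ normalizer (F.J : Set G) := by
  haveI : Fact (Nat.Prime 3) := ⟨Nat.prime_three⟩
  obtain ⟨k, hk⟩ := MulAction.exists_smul_eq G P F.sylow
  have hkm : ∀ x ∈ (P : Subgroup G), k * x * k⁻¹ ∈ F.SY := fun x hx => by
    rw [← F.coe_sylow, ← hk]
    exact ⟨x, hx, rfl⟩
  have hkN := F.weak fun a ha => hkm a (hP ha)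
  have hkg : k * g ∈ normalizer (F.J : Set G) := F.weak fun a ha => by
    rw [show k * g * a * (k * g)⁻¹ = k * (g * a * g⁻¹) * k⁻¹ by group]
    exact hkm _ (hg a ha)
  have := mul_mem (inv_mem hkN) hkg
  rwa [inv_mul_cancel_left] at this

/-- Fusion in `J` is controlled by its normalizer. -/
theorem fuse {a b : G} (ha : a ∈ F.J) (hb : b ∈ F.J) (hc : IsConj a b) :
    ∃ n ∈ normalizer (F.J : Set G), n * a * n⁻¹ = b := by
  haveI : Fact (Nat.Prime 3) := ⟨Nat.prime_three⟩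
  obtain ⟨g, hg⟩ := isConj_iff.mp hc
  have hab : ∀ a ∈ F.J, ∀ b ∈ F.J, Commute a b := fun x hx y hy => by
    obtain ⟨p, rfl⟩ := F.mem_J.mp hx
    obtain ⟨q, rfl⟩ := F.mem_J.mp hy
    exact F.je_comm p q
  let K := F.J.map (MulAut.conj g).toMonoidHom
  have hJC : F.J ≤ centralizer ({b} : Set G) := fun x hx =>
    mem_centralizer_singleton_iff.mpr (hab x hx b hb).eq
  have hKC : K ≤ centralizer ({b} : Set G) := by
    rintro _ ⟨x, hx, rfl⟩
    exact mem_centralizer_singleton_iff.mpr (hg ▸ (Commute.conj_iff g).mpr (hab x hx a ha)).eq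
  obtain ⟨P1, hP1⟩ := (F.J_pgroup.of_equiv (subgroupOfEquivOfLe hJC).symm).exists_le_sylow
  obtain ⟨P2, hP2⟩ := ((F.J_pgroup.map _).of_equiv (subgroupOfEquivOfLe hKC).symm).exists_le_sylow
  obtain ⟨c, hc'⟩ := MulAction.exists_smul_eq (↥(centralizer ({b} : Set G))) P2 P1
  obtain ⟨P, hP⟩ := (P1.isPGroup'.map (centralizer ({b} : Set G)).subtype).exists_le_sylow
  have hJP : F.J ≤ (P : Subgroup G) := fun x hx =>
    hP ⟨⟨x, hJC hx⟩, hP1 (mem_subgroupOf.mpr hx), rfl⟩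
  refine ⟨(c : G) * g, F.weak_sylow hJP fun x hx => ?_, ?_⟩
  · refine hP ⟨c * ⟨g * x * g⁻¹, hKC ⟨x, hx, rfl⟩⟩ * c⁻¹, ?_, ?_⟩
    · rw [← hc']
      exact ⟨_, hP2 (mem_subgroupOf.mpr ⟨x, hx, rfl⟩), rfl⟩
    · show (c : G) * (g * x * g⁻¹) * (c : G)⁻¹ = _
      group
  · rw [show (c : G) * g * a * ((c : G) * g)⁻¹ = (c : G) * (g * a * g⁻¹) * (c : G)⁻¹ by group, hg,
      mem_centralizer_singleton_iff.mp c.2, mul_inv_cancel_right]

/-- Conjugation by `n` acts on `J` by the matrix. -/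
def RealBy (n : G) (M : M4) : Prop := ∀ p, n * F.je p * n⁻¹ = F.je (lin M p)

/-- The matrix is realised by conjugation. -/
def Real (M : M4) : Prop := ∃ n, F.RealBy n M

variable {F}

theorem RealBy.mem_normalizer {n : G} {M : M4} (hn : F.RealBy n M) : n ∈ normalizer (F.J : Set G) :=
  mem_normalizer_fintype fun a ha => by
    obtain ⟨p, rfl⟩ := F.mem_J.mp ha
    rw [SetLike.mem_coe, hn p]
    exact F.je_J _

theorem RealBy.mul {n n' : G} {M M' : M4} (hn : F.RealBy n M) (hn' : F.RealBy n' M') :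
    F.RealBy (n * n') (mcomp M M') := fun p => by
  rw [lin_mcomp, ← hn, ← hn']
  group

theorem RealBy.unique {n : G} {M M' : M4} (hn : F.RealBy n M) (hn' : F.RealBy n M') : M = M' := by
  have e : ∀ p, lin M p = lin M' p := fun p => F.je_injective ((hn p).symm.trans (hn' p))
  obtain ⟨a1, a2, a3, a4⟩ := lin_unit M
  obtain ⟨b1, b2, b3, b4⟩ := lin_unit M'
  exact Prod.ext (a1 ▸ b1 ▸ e _) (Prod.ext (a2 ▸ b2 ▸ e _) (Prod.ext (a3 ▸ b3 ▸ e _) (a4 ▸ b4 ▸ e _)))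

theorem realBy_one : F.RealBy 1 m1 := fun p => by rw [lin_one, one_mul, inv_one, mul_one]

variable (F)

theorem exists_realBy {n : G} (hn : n ∈ normalizer (F.J : Set G)) : ∃ M, F.RealBy n M := by
  choose f hf using fun p => F.mem_J.mp ((mem_normalizer_iff.mp hn _).mp (F.je_J p))
  have hadd : ∀ p q, f (p + q) = f p + f q := fun p q => F.je_injective (by
    rw [F.je_add, hf, hf, hf, F.je_add]; group)
  have h0 : f 0 = 0 := by simpa using hadd 0 0
  have hsm : ∀ (a : ZMod 3) (p : V4), f (V4.sm a p) = V4.sm a (f p) := fun a p => by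
    have e0 : ∀ q : V4, V4.sm 0 q = 0 := fun q => by ext <;> simp [V4.sm]
    have e1 : ∀ q : V4, V4.sm 1 q = q := fun q => by ext <;> simp [V4.sm]
    have e2 : ∀ q : V4, V4.sm (1 + 1) q = q + q := fun q => by ext <;> simp [V4.sm] <;> ring
    rcases (by decide : ∀ a : ZMod 3, a = 0 ∨ a = 1 ∨ a = 1 + 1) a with rfl | rfl | rfl
    · rw [e0, e0, h0]
    · rw [e1, e1]
    · rw [e2, e2, hadd]
  refine ⟨(f (1, 0, 0, 0), f (0, 1, 0, 0), f (0, 0, 1, 0), f (0, 0, 0, 1)), fun p => ?_⟩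
  rw [← hf p]
  congr 1
  conv_lhs => rw [show p = V4.sm p.1 (1, 0, 0, 0) + V4.sm p.2.1 (0, 1, 0, 0) + V4.sm p.2.2.1 (0, 0, 1, 0)
    + V4.sm p.2.2.2 (0, 0, 0, 1) by ext <;> simp [V4.sm]]
  simp only [hadd, hsm]
  rfl

theorem realBy_inv {n : G} {M : M4} (hn : F.RealBy n M) :
    ∃ M', F.RealBy n⁻¹ M' ∧ mcomp M M' = m1 ∧ mcomp M' M = m1 := by
  obtain ⟨M', hM'⟩ := F.exists_realBy (inv_mem hn.mem_normalizer)
  refine ⟨M', hM', RealBy.unique (hn.mul hM') ?_, RealBy.unique (hM'.mul hn) ?_⟩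
  · rw [mul_inv_cancel]; exact realBy_one
  · rw [inv_mul_cancel]; exact realBy_one

end Emb

end Cfsg.Agent.CoTwoThree
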